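import Groth.Prelude.Def_AlgSt
import Groth.Agent.H14Fib.Basic
import Groth.Agent.H14Fib.Equiv
import Groth.Agent.H14Fib.Setoid
import Groth.Agent.H14Fib.Fp

/-!
# Functor categories over the base, postcomposition, and invariance of the stack conditions
-/

set_option autoImplicit false
set_option backward.isDefEq.respectTransparency false
set_option backward.isDefEq.respectTransparency.types false

universe v₆ u₆ v₅ u₅ v₄ u₄ v₃ u₃ v₂ u₂ v u

open CategoryTheory

namespace Groth.Agent.H14Stk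

open H14Fib

variable {C : Type u} [Category.{v} C]

section Hom

variable {𝒜 : BasedCategory.{v₄, u₄} C} {𝒳 : BasedCategory.{v₂, u₂} C}
  {G H : 𝒜 ⥤ᵇ 𝒳}

/-- Component of a 2-morphism. -/
abbrev app (α : G ⟶ H) (a : 𝒜.obj) : G.obj a ⟶ H.obj a := α.toNatTrans.app a

lemma hom_ext {α β : G ⟶ H} (h : ∀ a, app α a = app β a) : α = β :=
  BasedNatTrans.homCategory.ext α β (NatTrans.ext (funext h))

/-- The component of a 2-isomorphism, as an isomorphism. -/
@[simps]
def isoApp (e : G ≅ H) (a : 𝒜.obj) : G.obj a ≅ H.obj a where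
  hom := app e.hom a
  inv := app e.inv a
  hom_inv_id := congrArg (fun t => app t a) e.hom_inv_id
  inv_hom_id := congrArg (fun t => app t a) e.inv_hom_id

lemma isoApp_lift (e : G ≅ H) (a : 𝒜.obj) :
    𝒳.p.IsHomLift (𝟙 (𝒜.p.obj a)) (isoApp e a).hom := BasedNatTrans.isHomLift e.hom rfl

/-- Build a 2-isomorphism from components. -/
def mkIso (i : ∀ a, G.obj a ≅ H.obj a)
    (nat : ∀ {a b : 𝒜.obj} (f : a ⟶ b), G.map f ≫ (i b).hom = (i a).hom ≫ H.map f)
    (hl : ∀ a, 𝒳.p.IsHomLift (𝟙 (𝒜.p.obj a)) (i a).hom) : G ≅ H :=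
  BasedNatIso.mkNatIso (NatIso.ofComponents i nat) hl

end Hom

section Post

variable {𝒳 : BasedCategory.{v₂, u₂} C} {𝒴 : BasedCategory.{v₃, u₃} C}
  {𝒵 : BasedCategory.{v₄, u₄} C}

/-- Postcomposition with a functor over the base. -/
def post (𝒜 : BasedCategory.{v₅, u₅} C) (F : 𝒳 ⥤ᵇ 𝒴) : (𝒜 ⥤ᵇ 𝒳) ⥤ (𝒜 ⥤ᵇ 𝒴) where
  obj H := BasedFunctor.comp H F
  map α := BasedCategory.whiskerRight α F
  map_id H := hom_ext fun a => F.toFunctor.map_id (H.obj a)
  map_comp α β := hom_ext fun a => F.toFunctor.map_comp (app α a) (app β a)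

variable {𝒜 : BasedCategory.{v₅, u₅} C}

lemma post_faithful (F : 𝒳 ⥤ᵇ 𝒴) [F.toFunctor.Faithful] : (post 𝒜 F).Faithful :=
  ⟨fun {_ _ _ _} h => hom_ext fun a => F.toFunctor.map_injective (congrArg (fun t => app t a) h)⟩

lemma post_full (F : 𝒳 ⥤ᵇ 𝒴) [F.toFunctor.Full] [F.toFunctor.Faithful] : (post 𝒜 F).Full :=
  ⟨fun {G H} α => ⟨
    { toNatTrans :=
        { app := fun a => F.toFunctor.preimage (app α a)
          naturality := fun a b f => F.toFunctor.map_injective (by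
            simp only [Functor.map_comp, Functor.map_preimage]
            exact α.toNatTrans.naturality f) }
      isHomLift' := fun a => by
        rw [← BasedFunctor.isHomLift_iff F, F.toFunctor.map_preimage]
        exact BasedNatTrans.isHomLift α rfl },
    hom_ext fun a => F.toFunctor.map_preimage _⟩⟩

/-- A 2-isomorphism gives an isomorphism of postcomposition functors. -/
def postIso {F F' : 𝒳 ⥤ᵇ 𝒴} (e : F ≅ F') : post 𝒜 F ≅ post 𝒜 F' :=
  NatIso.ofComponents
    (fun H =>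
      { hom := BasedCategory.whiskerLeft H e.hom
        inv := BasedCategory.whiskerLeft H e.inv
        hom_inv_id := hom_ext fun a => congrArg (fun t => app t (H.obj a)) e.hom_inv_id
        inv_hom_id := hom_ext fun a => congrArg (fun t => app t (H.obj a)) e.inv_hom_id })
    (fun α => hom_ext fun a => e.hom.toNatTrans.naturality (app α a))

lemma post_isEquivalence {F : 𝒳 ⥤ᵇ 𝒴} (hF : FibCat.IsEquivOver F) :
    (post 𝒜 F).IsEquivalence := by
  obtain ⟨G, ⟨e₁⟩, ⟨e₂⟩⟩ := hF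
  exact (CategoryTheory.Equivalence.mk (post 𝒜 F) (post 𝒜 G)
    (postIso (𝒜 := 𝒜) e₁).symm (postIso (𝒜 := 𝒜) e₂)).isEquivalence_functor

/-- A functor landing pointwise in the vertical essential image of a fully faithful functor lifts. -/
lemma exists_lift_through (F : 𝒳 ⥤ᵇ 𝒴) [F.toFunctor.Full] [F.toFunctor.Faithful] (H : 𝒜 ⥤ᵇ 𝒴)
    (h : ∀ a : 𝒜.obj, ∃ (x : 𝒳.obj) (e : F.obj x ≅ H.obj a),
      𝒴.p.IsHomLift (𝟙 (𝒜.p.obj a)) e.hom) :
    ∃ K : 𝒜 ⥤ᵇ 𝒳, Nonempty (BasedFunctor.comp K F ≅ H) := by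
  choose x e he using h
  let K₀ : 𝒜.obj ⥤ 𝒳.obj :=
    { obj := x
      map := fun {a b} f => F.toFunctor.preimage ((e a).hom ≫ H.map f ≫ (e b).inv)
      map_id := fun a => F.toFunctor.map_injective (by simp)
      map_comp := fun f g => F.toFunctor.map_injective (by simp) }
  have hx : ∀ a, 𝒳.p.obj (x a) = 𝒜.p.obj a := fun a =>
    have := he a
    (F.w_obj (x a)).symm.trans (IsHomLift.domain_eq 𝒴.p (𝟙 (𝒜.p.obj a)) (e a).hom)
  have hl : ∀ {a b : 𝒜.obj} (f : a ⟶ b), 𝒳.p.IsHomLift (𝒜.p.map f) (K₀.map f) := fun {a b} f => by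
    have := he a
    have := he b
    have := IsHomLift.lift_id_inv 𝒴.p (𝒜.p.obj b) (e b)
    have : 𝒜.p.IsHomLift (𝒜.p.map f) f := IsHomLift.map 𝒜.p f
    change 𝒳.p.IsHomLift _ (F.toFunctor.preimage _)
    rw [← BasedFunctor.isHomLift_iff F, F.toFunctor.map_preimage]
    infer_instance
  let K : 𝒜 ⥤ᵇ 𝒳 :=
    { toFunctor := K₀
      w := CategoryTheory.Functor.ext hx (fun a b f => by
        have := hl f
        exact IsHomLift.fac' 𝒳.p (𝒜.p.map f) (K₀.map f)) }
  refine ⟨K, ⟨mkIso e (fun {a b} f => ?_) he⟩⟩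
  change F.map (F.toFunctor.preimage _) ≫ _ = _
  rw [F.toFunctor.map_preimage, Category.assoc, Category.assoc, Iso.inv_hom_id, Category.comp_id]

end Post

section FpHom

variable {𝒳 : BasedCategory.{v₂, u₂} C} {𝒴 : BasedCategory.{v₃, u₃} C}
  {𝒮 : BasedCategory.{v₄, u₄} C} {F : 𝒳 ⥤ᵇ 𝒮} {G : 𝒴 ⥤ᵇ 𝒮}
  {𝒜 : BasedCategory.{v₅, u₅} C} {P Q : 𝒜 ⥤ᵇ FibCat.fp F G}

lemma fp_app_w (γ : P ⟶ Q) (a : 𝒜.obj) :
    F.map (app γ a).hom.fst ≫ (Q.obj a).obj.iso.hom =
      (P.obj a).obj.iso.hom ≫ G.map (app γ a).hom.snd :=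
  (app γ a).hom.w

lemma fp_hom2_ext {γ δ : P ⟶ Q} (h₁ : ∀ a, (app γ a).hom.fst = (app δ a).hom.fst)
    (h₂ : ∀ a, (app γ a).hom.snd = (app δ a).hom.snd) : γ = δ :=
  hom_ext fun a => fp_hom_ext (h₁ a) (h₂ a)

/-- A 2-morphism into a 2-fibre product from a compatible pair. -/
def fpPair (α : BasedFunctor.comp P (FibCat.fpFst F G) ⟶ BasedFunctor.comp Q (FibCat.fpFst F G))
    (β : BasedFunctor.comp P (FibCat.fpSnd F G) ⟶ BasedFunctor.comp Q (FibCat.fpSnd F G))
    (hw : ∀ a, F.map (app α a) ≫ (Q.obj a).obj.iso.hom =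
      (P.obj a).obj.iso.hom ≫ G.map (app β a)) : P ⟶ Q where
  toNatTrans :=
    { app := fun a => fpHom (app α a) (app β a) (hw a)
      naturality := fun a b f =>
        fp_hom_ext (α.toNatTrans.naturality f) (β.toNatTrans.naturality f) }
  isHomLift' a := (fp_isHomLift_iff _ _).2 (BasedNatTrans.isHomLift α rfl)

/-- The tautological 2-cell of a functor into a 2-fibre product. -/
def fpCell (P : 𝒜 ⥤ᵇ FibCat.fp F G) :
    BasedFunctor.comp (BasedFunctor.comp P (FibCat.fpFst F G)) F ≅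
      BasedFunctor.comp (BasedFunctor.comp P (FibCat.fpSnd F G)) G :=
  mkIso (fun a => (P.obj a).obj.iso) (fun f => (P.map f).hom.w)
    (fun a => fp_iso_isHomLift (P.obj a) (P.w_obj a))

end FpHom

section Invariance

open Stk

variable {𝒳 : BasedCategory.{v₂, u₂} C} {𝒴 : BasedCategory.{v₃, u₃} C}
  {F : 𝒳 ⥤ᵇ 𝒴}

lemma resSieve_comp_post (F : 𝒳 ⥤ᵇ 𝒴) {U : C} (R : Sieve U) :
    resSieve R 𝒳 ⋙ post (sieveCat R) F = post (FibCat.overCat U) F ⋙ resSieve R 𝒴 := rfl

lemma isStackFor_iff (hF : FibCat.IsEquivOver F) {U : C} (R : Sieve U) :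
    IsStackFor R 𝒳 ↔ IsStackFor R 𝒴 := by
  have := post_isEquivalence (𝒜 := sieveCat R) hF
  have := post_isEquivalence (𝒜 := FibCat.overCat U) hF
  constructor
  · intro h
    have : (resSieve R 𝒳).IsEquivalence := h
    have : (post (FibCat.overCat U) F ⋙ resSieve R 𝒴).IsEquivalence := by
      rw [← resSieve_comp_post]; infer_instance
    exact Functor.isEquivalence_of_comp_left (post (FibCat.overCat U) F) (resSieve R 𝒴)
  · intro h
    have : (resSieve R 𝒴).IsEquivalence := h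
    have : (resSieve R 𝒳 ⋙ post (sieveCat R) F).IsEquivalence := by
      rw [resSieve_comp_post]; infer_instance
    exact Functor.isEquivalence_of_comp_right (resSieve R 𝒳) (post (sieveCat R) F)

lemma isPrestackFor_of_fullyFaithful (F : 𝒳 ⥤ᵇ 𝒴) [F.toFunctor.Full] [F.toFunctor.Faithful]
    {U : C} {R : Sieve U} (h : IsPrestackFor R 𝒴) : IsPrestackFor R 𝒳 := by
  obtain ⟨_, _⟩ := h
  have := post_full (𝒜 := FibCat.overCat U) F
  have := post_faithful (𝒜 := FibCat.overCat U) F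
  have := post_full (𝒜 := sieveCat R) F
  have := post_faithful (𝒜 := sieveCat R) F
  have hfull : (resSieve R 𝒳 ⋙ post (sieveCat R) F).Full := by
    rw [resSieve_comp_post]; infer_instance
  have hfaith : (resSieve R 𝒳 ⋙ post (sieveCat R) F).Faithful := by
    rw [resSieve_comp_post]; infer_instance
  exact ⟨Functor.Full.of_comp_faithful (resSieve R 𝒳) (post (sieveCat R) F),
    Functor.Faithful.of_comp (resSieve R 𝒳) (post (sieveCat R) F)⟩

lemma isStack_iff (J : GrothendieckTopology C) (hF : FibCat.IsEquivOver F) :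
    IsStack J 𝒳 ↔ IsStack J 𝒴 :=
  ⟨fun h => ⟨fibGrpd_target_of_isEquivOver hF h.1, fun _ R hR => (isStackFor_iff hF R).1 (h.2 R hR)⟩,
    fun h => ⟨fibGrpd_source_of_isEquivOver hF h.1, fun _ R hR => (isStackFor_iff hF R).2 (h.2 R hR)⟩⟩

lemma isPrestack_iff (J : GrothendieckTopology C) (hF : FibCat.IsEquivOver F) :
    IsPrestack J 𝒳 ↔ IsPrestack J 𝒴 := by
  obtain ⟨G, hG⟩ := IsEquivOver.symm' hF
  have := isEquivalence_of_isEquivOver hF
  have := isEquivalence_of_isEquivOver hG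
  exact ⟨fun h => ⟨fibGrpd_target_of_isEquivOver hF h.1,
      fun _ R hR => isPrestackFor_of_fullyFaithful G (h.2 R hR)⟩,
    fun h => ⟨fibGrpd_source_of_isEquivOver hF h.1,
      fun _ R hR => isPrestackFor_of_fullyFaithful F (h.2 R hR)⟩⟩

lemma isPrestack_of_isStack {J : GrothendieckTopology C} (h : IsStack J 𝒳) : IsPrestack J 𝒳 :=
  ⟨h.1, fun _ R hR => by
    have : (resSieve R 𝒳).IsEquivalence := h.2 R hR
    exact ⟨inferInstance, inferInstance⟩⟩

end Invariance

section Fp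

open Stk

variable {𝒳 : BasedCategory.{v₂, u₂} C} {𝒴 : BasedCategory.{v₃, u₃} C}
  {𝒮 : BasedCategory.{v₄, u₄} C} (F : 𝒳 ⥤ᵇ 𝒮) (G : 𝒴 ⥤ᵇ 𝒮) {U : C} (R : Sieve U)

lemma isStackFor_fp (h₁ : IsStackFor R 𝒳) (h₂ : IsStackFor R 𝒴) (h₃ : IsPrestackFor R 𝒮) :
    IsStackFor R (FibCat.fp F G) := by
  have : (resSieve R 𝒳).IsEquivalence := h₁
  have : (resSieve R 𝒴).IsEquivalence := h₂
  obtain ⟨_, _⟩ := h₃
  let pX := FibCat.fpFst F G
  let pY := FibCat.fpSnd F G
  refine { faithful := ⟨fun {P Q γ δ} h => ?_⟩, full := ⟨fun {P Q} γ => ?_⟩,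
           essSurj := ⟨fun P => ?_⟩ }
  · have e₁ : (post _ pX).map γ = (post _ pX).map δ :=
      (resSieve R 𝒳).map_injective (congrArg ((post _ pX).map ·) h)
    have e₂ : (post _ pY).map γ = (post _ pY).map δ :=
      (resSieve R 𝒴).map_injective (congrArg ((post _ pY).map ·) h)
    exact fp_hom2_ext (fun a => congrArg (fun t => app t a) e₁)
      (fun a => congrArg (fun t => app t a) e₂)
  · obtain ⟨α, hα⟩ := (resSieve R 𝒳).map_surjective
      (X := BasedFunctor.comp P pX) (Y := BasedFunctor.comp Q pX) ((post _ pX).map γ)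
    obtain ⟨β, hβ⟩ := (resSieve R 𝒴).map_surjective
      (X := BasedFunctor.comp P pY) (Y := BasedFunctor.comp Q pY) ((post _ pY).map γ)
    have hs : (post _ F).map α ≫ (fpCell Q).hom = (fpCell P).hom ≫ (post _ G).map β := by
      apply (resSieve R 𝒮).map_injective
      refine hom_ext fun a => ?_
      have ha : app α ((sieveIncl R).obj a) = (app γ a).hom.fst := congrArg (fun t => app t a) hα
      have hb : app β ((sieveIncl R).obj a) = (app γ a).hom.snd := congrArg (fun t => app t a) hβ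
      change F.map (app α ((sieveIncl R).obj a)) ≫ (Q.obj _).obj.iso.hom =
        (P.obj _).obj.iso.hom ≫ G.map (app β ((sieveIncl R).obj a))
      rw [ha, hb]
      exact fp_app_w γ a
    refine ⟨fpPair α β (fun a => congrArg (fun t => app t a) hs), fp_hom2_ext (fun a => ?_) (fun a => ?_)⟩
    · exact congrArg (fun t => app t a) hα
    · exact congrArg (fun t => app t a) hβ
  · let A := (resSieve R 𝒳).objPreimage (BasedFunctor.comp P pX)
    let eA : (resSieve R 𝒳).obj A ≅ BasedFunctor.comp P pX := (resSieve R 𝒳).objObjPreimageIso _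
    let B := (resSieve R 𝒴).objPreimage (BasedFunctor.comp P pY)
    let eB : (resSieve R 𝒴).obj B ≅ BasedFunctor.comp P pY := (resSieve R 𝒴).objObjPreimageIso _
    let i : (resSieve R 𝒮).obj (BasedFunctor.comp A F) ≅ (resSieve R 𝒮).obj (BasedFunctor.comp B G) :=
      (post _ F).mapIso eA ≪≫ fpCell P ≪≫ ((post _ G).mapIso eB).symm
    let e := (resSieve R 𝒮).preimageIso i
    have hi : ∀ a, app e.hom ((sieveIncl R).obj a) =
        F.map (app eA.hom a) ≫ (P.obj a).obj.iso.hom ≫ G.map (app eB.inv a) := fun a =>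
      congrArg (fun t => app t a) ((resSieve R 𝒮).map_preimage i.hom)
    refine ⟨FibCat.fpLift A B e, ⟨mkIso (fun a =>
      { hom := fpHom (app eA.hom a) (app eB.hom a) ?_
        inv := fpHom (app eA.inv a) (app eB.inv a) ?_
        hom_inv_id := fp_hom_ext (congrArg (fun t => app t a) eA.hom_inv_id)
          (congrArg (fun t => app t a) eB.hom_inv_id)
        inv_hom_id := fp_hom_ext (congrArg (fun t => app t a) eA.inv_hom_id)
          (congrArg (fun t => app t a) eB.inv_hom_id) })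
      (fun f => fp_hom_ext (eA.hom.toNatTrans.naturality f) (eB.hom.toNatTrans.naturality f))
      (fun a => (fp_isHomLift_iff _ _).2 (BasedNatTrans.isHomLift eA.hom rfl))⟩⟩
    · change F.map (app eA.hom a) ≫ (P.obj a).obj.iso.hom =
        app e.hom ((sieveIncl R).obj a) ≫ G.map (app eB.hom a)
      have c : app eB.inv a ≫ app eB.hom a = 𝟙 _ := congrArg (fun t => app t a) eB.inv_hom_id
      rw [hi, Category.assoc, Category.assoc, ← G.toFunctor.map_comp, c]
      exact congrArg (F.map (app eA.hom a) ≫ ·) ((Category.comp_id _).symm.trans (congrArg ((P.obj a).obj.iso.hom ≫ ·) (G.toFunctor.map_id _).symm))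
    · change F.map (app eA.inv a) ≫ app e.hom ((sieveIncl R).obj a) =
        (P.obj a).obj.iso.hom ≫ G.map (app eB.inv a)
      have c : app eA.inv a ≫ app eA.hom a = 𝟙 _ := congrArg (fun t => app t a) eA.inv_hom_id
      rw [hi, ← Category.assoc, ← F.toFunctor.map_comp, c]
      exact (congrArg (· ≫ _) (F.toFunctor.map_id _)).trans (Category.id_comp _)

lemma isStack_fp {J : GrothendieckTopology C} (h₁ : IsStack J 𝒳) (h₂ : IsStack J 𝒴)
    (h₃ : IsPrestack J 𝒮) : IsStack J (FibCat.fp F G) :=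
  ⟨fp_fibGrpd h₁.1 h₂.1 h₃.1,
    fun _ R hR => isStackFor_fp F G R (h₁.2 R hR) (h₂.2 R hR) (h₃.2 R hR)⟩

end Fp

end Groth.Agent.H14Stk
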