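import Groth.Agent.H14Stk.Local
import Mathlib.CategoryTheory.Sites.Over

/-!
# The stack condition through the slices of a faithful functor to a stack
-/

set_option autoImplicit false
set_option backward.isDefEq.respectTransparency false
set_option backward.isDefEq.respectTransparency.types false

universe v₅ u₅ v₃ u₃ v₂ u₂ v₁ u₁ v u

open CategoryTheory CategoryTheory.Functor

namespace Groth.Agent.H14Stk

open H14Fib Stk

section PushBase

variable {C : Type u} [Category.{v} C] {D : Type u₁} [Category.{v₁} D] (Q : D ⥤ C)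

/-- A category over `D` as a category over `C` along `Q : D ⥤ C`. -/
abbrev pushCat (𝒜 : BasedCategory.{v₅, u₅} D) : BasedCategory.{v₅, u₅} C :=
  BasedCategory.ofFunctor (𝒜.p ⋙ Q)

lemma isHomLift_push {𝒜 : BasedCategory.{v₅, u₅} D} {R S : D} (f : R ⟶ S) {a b : 𝒜.obj} (φ : a ⟶ b)
    [𝒜.p.IsHomLift f φ] : (pushCat Q 𝒜).p.IsHomLift (Q.map f) φ := by
  subst_hom_lift 𝒜.p f φ
  exact IsHomLift.map (pushCat Q 𝒜).p φ

/-- Change of base category on functors. -/
def pushFun {𝒜 : BasedCategory.{v₅, u₅} D} {ℬ : BasedCategory.{v₂, u₂} D} :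
    (𝒜 ⥤ᵇ ℬ) ⥤ (pushCat Q 𝒜 ⥤ᵇ pushCat Q ℬ) where
  obj H := { toFunctor := H.toFunctor, w := congrArg (· ⋙ Q) H.w }
  map {H H'} α :=
    { toNatTrans := α.toNatTrans
      isHomLift' := fun a => by
        have : ℬ.p.IsHomLift (𝟙 (𝒜.p.obj a)) (α.toNatTrans.app a) := BasedNatTrans.isHomLift α rfl
        have h := isHomLift_push Q (𝟙 (𝒜.p.obj a)) (α.toNatTrans.app a)
        rw [Q.map_id] at h
        exact h }
  map_id H := rfl
  map_comp α β := rfl

end PushBase

variable {C : Type u} [Category.{v} C] {U : C}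

/-- The top object of a slice, as an object of the slice category. -/
abbrev topO (U : C) : Over U := Over.mk (𝟙 U)

lemma overTop_left (b : Over (topO U)) : b.hom.left = b.left.hom := by
  have h : b.hom.left ≫ 𝟙 U = b.left.hom := Over.w b.hom
  exact (Category.comp_id _).symm.trans h

/-- The slice of a slice at its top object, mapped to the slice. -/
def flatten (U : C) : pushCat (Over.forget U) (FibCat.overCat (topO U)) ⥤ᵇ FibCat.overCat U where
  toFunctor := Over.forget (topO U)
  w := rfl

/-- The slice mapped to the slice of the slice at its top object. -/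
def unflatten (U : C) : FibCat.overCat U ⥤ᵇ pushCat (Over.forget U) (FibCat.overCat (topO U)) where
  toFunctor :=
    { obj := fun s => Over.mk (Over.homMk s.hom (Category.comp_id _) : s ⟶ topO U)
      map := fun {s t} f => Over.homMk f (Over.OverMorphism.ext (Over.w f)) }
  w := rfl

variable (R : Sieve U)

/-- The sieve of the slice corresponding to a sieve on `U`. -/
abbrev overSieve : Sieve (topO U) := (Sieve.overEquiv (topO U)).symm R

/-- The sieve category of the slice mapped to the sieve category. -/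
def flattenSieve : pushCat (Over.forget U) (sieveCat (overSieve R)) ⥤ᵇ sieveCat R where
  toFunctor :=
    { obj := fun b => ⟨b.obj.left, by
        change R b.obj.left.hom
        rw [← overTop_left b.obj]
        exact (Sieve.overEquiv_symm_iff (Y := topO U) R b.obj.hom).1 b.property⟩
      map := fun m => ObjectProperty.homMk m.hom.left }
  w := rfl

/-- The sieve category mapped to the sieve category of the slice. -/
def unflattenSieve : sieveCat R ⥤ᵇ pushCat (Over.forget U) (sieveCat (overSieve R)) where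
  toFunctor :=
    { obj := fun a => ⟨(unflatten U).obj a.obj,
        (Sieve.overEquiv_symm_iff (Y := topO U) R _).2 a.property⟩
      map := fun m => ObjectProperty.homMk ((unflatten U).map m.hom) }
  w := rfl

section Main

variable {𝒮 : BasedCategory.{v₂, u₂} C} {𝒯 : BasedCategory.{v₃, u₃} C}

/-- The fibre product with a slice, as a category over the slice. -/
abbrev sliceFp (y : FibCat.overCat U ⥤ᵇ 𝒯) (F : 𝒮 ⥤ᵇ 𝒯) :=
  BasedCategory.ofFunctor ((FibCat.fpFst y F).toFunctor : (FibCat.fp y F).obj ⥤ Over U)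

variable {y : FibCat.overCat U ⥤ᵇ 𝒯} {F : 𝒮 ⥤ᵇ 𝒯}

/-- Forget the slice. -/
def sliceOut : pushCat (Over.forget U) (sliceFp y F) ⥤ᵇ FibCat.fp y F where
  toFunctor := 𝟭 _
  w := rfl

variable {𝒜 : BasedCategory.{v₅, u₅} (Over U)}

/-- The underlying functor to the slice. -/
def toSlice (𝒜 : BasedCategory.{v₅, u₅} (Over U)) :
    pushCat (Over.forget U) 𝒜 ⥤ᵇ FibCat.overCat U where
  toFunctor := 𝒜.p
  w := rfl

/-- The component in `𝒮` of a functor into the slice fibre product. -/
def outFun : (𝒜 ⥤ᵇ sliceFp y F) ⥤ (pushCat (Over.forget U) 𝒜 ⥤ᵇ 𝒮) :=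
  pushFun (Over.forget U) ⋙ post _ (BasedFunctor.comp sliceOut (FibCat.fpSnd y F))

/-- A functor into the slice fibre product from its component in `𝒮`. -/
def secFun (G : pushCat (Over.forget U) 𝒜 ⥤ᵇ 𝒮)
    (e : BasedFunctor.comp (toSlice 𝒜) y ≅ BasedFunctor.comp G F) : 𝒜 ⥤ᵇ sliceFp y F where
  toFunctor := (FibCat.fpLift (toSlice 𝒜) G e).toFunctor
  w := rfl

/-- A 2-morphism between such functors. -/
def secHom2 {G G' : pushCat (Over.forget U) 𝒜 ⥤ᵇ 𝒮}
    {e : BasedFunctor.comp (toSlice 𝒜) y ≅ BasedFunctor.comp G F}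
    {e' : BasedFunctor.comp (toSlice 𝒜) y ≅ BasedFunctor.comp G' F} (α : G ⟶ G')
    (h : ∀ a, app e'.hom a = app e.hom a ≫ F.map (app α a)) : secFun G e ⟶ secFun G' e' where
  toNatTrans :=
    { app := fun a => fpHom (𝟙 _) (app α a) (by
        change y.map (𝟙 _) ≫ app e'.hom a = app e.hom a ≫ F.map (app α a)
        rw [y.toFunctor.map_id]
        exact (Category.id_comp _).trans (h a))
      naturality := fun a b f => fp_hom_ext ((Category.comp_id _).trans (Category.id_comp _).symm)
        (α.toNatTrans.naturality f) }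
  isHomLift' a := by
    refine IsHomLift.of_fac' (sliceFp y F).p _ _ rfl rfl ?_
    change 𝟙 (𝒜.p.obj a) = _
    simp
    rfl

lemma isStackFor_of_slices (hS : FibCat.IsFibGrpd 𝒮.p) (hTg : FibCat.IsFibGrpd 𝒯.p)
    (hT : IsStackFor R 𝒯) (F : 𝒮 ⥤ᵇ 𝒯) [F.toFunctor.Faithful]
    (h : ∀ y : FibCat.overCat U ⥤ᵇ 𝒯, IsStackFor (overSieve R) (sliceFp y F)) :
    IsStackFor R 𝒮 := by
  have : (resSieve R 𝒯).IsEquivalence := hT
  refine { faithful := ⟨fun {G G' a b} hab => ?_⟩, full := ⟨fun {G G'} α => ?_⟩,
           essSurj := ⟨fun G => ?_⟩ }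
  · have := post_faithful (𝒜 := FibCat.overCat U) F
    apply (post (FibCat.overCat U) F).map_injective
    apply (resSieve R 𝒯).map_injective
    exact congrArg ((post _ F).map ·) hab
  · obtain ⟨γ, hγ⟩ := (resSieve R 𝒯).map_surjective (X := BasedFunctor.comp G F)
      (Y := BasedFunctor.comp G' F) ((post _ F).map α)
    have : ∀ s, IsIso (γ.toNatTrans.app s) := fun s => by
      have : 𝒯.p.IsHomLift (𝟙 s.left) (app γ s) := BasedNatTrans.isHomLift γ rfl
      exact isIso_of_fibGrpd hTg (𝟙 s.left) (app γ s)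
    have : IsIso (X := (BasedFunctor.comp G F).toFunctor) γ.toNatTrans :=
      NatIso.isIso_of_isIso_app γ.toNatTrans
    have := BasedNatIso.isIso_of_toNatTrans_isIso γ
    let y := BasedFunctor.comp G' F
    have : (resSieve (overSieve R) (sliceFp y F)).IsEquivalence := h y
    let P₁ := secFun (y := y) (F := F) (𝒜 := FibCat.overCat (topO U))
      (BasedFunctor.comp (flatten U) G)
      ((restr (flatten U) 𝒯).mapIso (asIso γ).symm)
    let P₂ := secFun (y := y) (F := F) (𝒜 := FibCat.overCat (topO U))
      (BasedFunctor.comp (flatten U) G') (Iso.refl _)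
    let m : (resSieve (overSieve R) (sliceFp y F)).obj P₁ ⟶ (resSieve (overSieve R) (sliceFp y F)).obj P₂ :=
      secHom2 (y := y) (F := F) (𝒜 := sieveCat (overSieve R))
        (G := BasedFunctor.comp (flattenSieve R) ((resSieve R 𝒮).obj G))
        (G' := BasedFunctor.comp (flattenSieve R) ((resSieve R 𝒮).obj G'))
        (e := (restr (BasedFunctor.comp (flattenSieve R) (sieveIncl R)) 𝒯).mapIso (asIso γ).symm)
        (e' := Iso.refl _) ((restr (flattenSieve R) 𝒮).map α) (fun a => by
          have c := congrArg (fun t => app t ((flattenSieve R).obj a)) hγ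
          change app γ ((sieveIncl R).obj ((flattenSieve R).obj a)) =
            F.map (app α ((flattenSieve R).obj a)) at c
          change 𝟙 _ = app (inv γ) ((sieveIncl R).obj ((flattenSieve R).obj a)) ≫
            F.map (app α ((flattenSieve R).obj a))
          rw [← c]
          exact (congrArg (fun t => app t ((sieveIncl R).obj ((flattenSieve R).obj a)))
            (IsIso.inv_hom_id γ)).symm)
    obtain ⟨η, hη⟩ := (resSieve (overSieve R) (sliceFp y F)).map_surjective m
    refine ⟨(restr (unflatten U) 𝒮).map (outFun.map η), hom_ext fun a => ?_⟩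
    have c := congrArg (fun t => app (outFun.map t) ((unflattenSieve R).obj a)) hη
    exact c
  · let y₀ := (resSieve R 𝒯).objPreimage (BasedFunctor.comp G F)
    let ey : (resSieve R 𝒯).obj y₀ ≅ BasedFunctor.comp G F := (resSieve R 𝒯).objObjPreimageIso _
    have : (resSieve (overSieve R) (sliceFp y₀ F)).IsEquivalence := h y₀
    let H := secFun (y := y₀) (F := F) (𝒜 := sieveCat (overSieve R))
      (BasedFunctor.comp (flattenSieve R) G) ((restr (flattenSieve R) 𝒯).mapIso ey)
    let H₀ := (resSieve (overSieve R) (sliceFp y₀ F)).objPreimage H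
    let eH : (resSieve (overSieve R) (sliceFp y₀ F)).obj H₀ ≅ H :=
      (resSieve (overSieve R) (sliceFp y₀ F)).objObjPreimageIso H
    exact ⟨BasedFunctor.comp (unflatten U) (outFun.obj H₀),
      ⟨(restr (unflattenSieve R) 𝒮).mapIso (outFun.mapIso eH)⟩⟩

end Main

end Groth.Agent.H14Stk
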