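import Groth.Agent.H14Stk.Local
import Mathlib.CategoryTheory.Sites.InducedTopology
import Mathlib.CategoryTheory.Sites.Over
import Mathlib.CategoryTheory.Comma.Over.Basic

/-!
# The topology induced on a category fibred in groupoids over a site
-/

set_option autoImplicit false
set_option backward.isDefEq.respectTransparency false
set_option backward.isDefEq.respectTransparency.types false

universe v₃ u₃ v₂ u₂ v u

open CategoryTheory CategoryTheory.Functor

namespace Groth.Agent.H14Stk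

open H14Fib

section Sieve

variable {C : Type u} [Category.{v} C] {𝒳 : Type u₂} [Category.{v₂} 𝒳] {p : 𝒳 ⥤ C}

lemma push_apply_iff (hp : FibCat.IsFibGrpd p) {x : 𝒳} (S : Sieve x) {V : C} {g : V ⟶ p.obj x}
    {y : 𝒳} (φ : y ⟶ x) [p.IsHomLift g φ] : S.functorPushforward p g ↔ S φ := by
  constructor
  · rintro ⟨Z, h, k, hh, rfl⟩
    obtain ⟨w, χ, hχ⟩ := exists_sc_lift hp (a := Z) rfl k
    have : p.IsHomLift (k ≫ p.map h) (χ ≫ h) := inferInstance
    obtain ⟨e, -, he⟩ := exists_vertIso hp (k ≫ p.map h) φ (χ ≫ h)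
    rw [← he]
    exact S.downward_closed (S.downward_closed hh χ) e.hom
  · intro h
    exact ⟨y, φ, eqToHom (IsHomLift.domain_eq p g φ).symm, h, by
      rw [IsHomLift.fac' p g φ]; simp⟩

lemma push_map_iff (hp : FibCat.IsFibGrpd p) {x : 𝒳} (S : Sieve x) {y : 𝒳} (φ : y ⟶ x) :
    S.functorPushforward p (p.map φ) ↔ S φ := push_apply_iff hp S φ

lemma push_pullback (hp : FibCat.IsFibGrpd p) {x y : 𝒳} (S : Sieve x) (ψ : y ⟶ x) :
    (S.pullback ψ).functorPushforward p = (S.functorPushforward p).pullback (p.map ψ) := by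
  refine Sieve.ext fun V g => ?_
  obtain ⟨z, χ, hχ⟩ := exists_sc_lift hp (a := y) rfl g
  have : p.IsHomLift (g ≫ p.map ψ) (χ ≫ ψ) := inferInstance
  refine (push_apply_iff hp (S.pullback ψ) χ).trans ?_
  exact (push_apply_iff hp S (χ ≫ ψ)).symm

lemma push_eq_top (hp : FibCat.IsFibGrpd p) (x : 𝒳) :
    (⊤ : Sieve x).functorPushforward p = ⊤ := Sieve.functorPushforward_top p x

variable (p) in
/-- The topology on a category fibred in groupoids whose covering sieves are those with covering image. -/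
def pushTopology (hp : FibCat.IsFibGrpd p) (J : GrothendieckTopology C) : GrothendieckTopology 𝒳 where
  sieves x := {S | S.functorPushforward p ∈ J (p.obj x)}
  top_mem' x := by
    show (⊤ : Sieve x).functorPushforward p ∈ J _
    rw [push_eq_top hp]; exact J.top_mem _
  pullback_stable' x y S ψ hS := by
    show (S.pullback ψ).functorPushforward p ∈ J _
    rw [push_pullback hp]; exact J.pullback_stable _ hS
  transitive' x S hS R h := by
    refine J.transitive (S := S.functorPushforward p) hS _ fun V g hg => ?_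
    obtain ⟨z, χ, hχ⟩ := exists_sc_lift hp (a := x) rfl g
    obtain rfl : p.obj z = V := IsHomLift.domain_eq p g χ
    obtain rfl : g = p.map χ := IsHomLift.eq_of_isHomLift p g χ
    rw [← push_pullback hp]
    exact h ((push_apply_iff hp S χ).1 hg)

lemma restrictedTopology_eq (hp : FibCat.IsFibGrpd p) (J : GrothendieckTopology C) :
    p.restrictedTopology J = pushTopology p hp J := by
  refine le_antisymm ?_ fun x S hS => mem_restrictedTopology_of_functorPushforward_mem hS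
  rw [Functor.restrictedTopology, Precoverage.toGrothendieck_le_iff_le_toPrecoverage]
  intro x R hR
  rw [GrothendieckTopology.mem_toPrecoverage_iff]
  show (Sieve.generate R).functorPushforward p ∈ J _
  rw [← Sieve.generate_map_eq_functorPushforward]
  exact (GrothendieckTopology.mem_toPrecoverage_iff _ _).1 hR

lemma mem_restricted_iff (hp : FibCat.IsFibGrpd p) (J : GrothendieckTopology C) {x : 𝒳}
    (S : Sieve x) : S ∈ p.restrictedTopology J x ↔ S.functorPushforward p ∈ J (p.obj x) := by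
  rw [restrictedTopology_eq hp]; rfl

lemma overPost_isEquivalence (hp : FibCat.IsFibGrpd p) (x : 𝒳) :
    (Over.post p : Over x ⥤ Over (p.obj x)).IsEquivalence := by
  refine { faithful := ⟨fun {a b m n} h => ?_⟩, full := ⟨fun {a b} g => ?_⟩,
           essSurj := ⟨fun s => ?_⟩ }
  · have e : p.map m.left = p.map n.left := congrArg CommaMorphism.left h
    have := hp.isStronglyCartesian b.hom
    have h1 : p.IsHomLift (p.map n.left) m.left := e ▸ IsHomLift.map p m.left
    have : p.IsHomLift (p.map n.left) n.left := IsHomLift.map p n.left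
    exact Over.OverMorphism.ext (IsStronglyCartesian.ext p (p.map b.hom) b.hom (p.map n.left)
      ((Over.w m).trans (Over.w n).symm))
  · have := hp.isStronglyCartesian b.hom
    have hw : g.left ≫ p.map b.hom = p.map a.hom := Over.w g
    obtain ⟨χ, ⟨hχ, hχ'⟩, -⟩ := IsStronglyCartesian.universal_property p (p.map b.hom) b.hom
      g.left (p.map a.hom) hw.symm a.hom
    exact ⟨Over.homMk χ hχ', Over.OverMorphism.ext (IsHomLift.eq_of_isHomLift p g.left χ).symm⟩
  · obtain ⟨z, χ, hχ⟩ := exists_sc_lift hp (a := x) rfl s.hom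
    refine ⟨Over.mk χ, ⟨Over.isoMk (eqToIso (IsHomLift.domain_eq p s.hom χ)) ?_⟩⟩
    change eqToHom (IsHomLift.domain_eq p s.hom χ) ≫ s.hom = p.map χ
    rw [IsHomLift.fac' p s.hom χ]
    simp

lemma mem_over_iff' (hp : FibCat.IsFibGrpd p) (J : GrothendieckTopology C) {x : 𝒳} (a : Over x)
    (S : Sieve a) : S ∈ (p.restrictedTopology J).over x a ↔
      S.functorPushforward (Over.post p) ∈ (J.over (p.obj x)) ((Over.post p).obj a) := by
  rw [GrothendieckTopology.mem_over_iff, GrothendieckTopology.mem_over_iff, mem_restricted_iff hp]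
  suffices h : (Sieve.overEquiv a S).functorPushforward p =
      Sieve.overEquiv ((Over.post p).obj a) (S.functorPushforward (Over.post p)) by
    rw [h]; rfl
  refine Sieve.ext fun V g => ?_
  obtain ⟨z, χ, hχ⟩ := exists_sc_lift hp (a := a.left) rfl g
  refine (push_apply_iff hp (Sieve.overEquiv a S) χ).trans ?_
  rw [Sieve.overEquiv_iff, Sieve.overEquiv_iff]
  let b : Over x := Over.mk (χ ≫ a.hom)
  let m : b ⟶ a := Over.homMk χ
  constructor
  · intro h
    refine ⟨b, m, Over.homMk (eqToHom (IsHomLift.domain_eq p g χ).symm) ?_, h, ?_⟩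
    · change eqToHom (IsHomLift.domain_eq p g χ).symm ≫ p.map (χ ≫ a.hom) = g ≫ p.map a.hom
      rw [Functor.map_comp, IsHomLift.fac' p g χ]; simp
    · refine Over.OverMorphism.ext ?_
      change g = eqToHom (IsHomLift.domain_eq p g χ).symm ≫ p.map χ
      rw [IsHomLift.fac' p g χ]; simp
  · rintro ⟨c, n, k, hn, hk⟩
    have e : g = k.left ≫ p.map n.left := congrArg CommaMorphism.left hk
    obtain ⟨w, κ, hκ⟩ := exists_sc_lift hp (a := c.left) rfl k.left
    have : p.IsHomLift g (κ ≫ n.left) := e ▸ inferInstance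
    obtain ⟨i, -, hi⟩ := exists_vertIso hp g χ (κ ≫ n.left)
    have e1 : (i.hom ≫ κ) ≫ n.left = χ := (Category.assoc _ _ _).trans hi
    have e2 : (i.hom ≫ κ) ≫ c.hom = χ ≫ a.hom := by
      rw [← Over.w n, ← Category.assoc, e1]
    have h' := S.downward_closed hn (Over.homMk (i.hom ≫ κ) e2 : b ⟶ c)
    have e3 : (Over.homMk (i.hom ≫ κ) e2 : b ⟶ c) ≫ n = m := Over.OverMorphism.ext e1
    rwa [e3] at h'

end Sieve

section Morphism

variable {C : Type u} [Category.{v} C] {𝒳 : BasedCategory.{v₂, u₂} C} {𝒴 : BasedCategory.{v₃, u₃} C}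
  (F : 𝒳 ⥤ᵇ 𝒴)

lemma push_push (hX : FibCat.IsFibGrpd 𝒳.p) (hY : FibCat.IsFibGrpd 𝒴.p) {x : 𝒳.obj} (S : Sieve x) :
    ((S.functorPushforward F.toFunctor).functorPushforward 𝒴.p) =
      (S.functorPushforward 𝒳.p).pullback (eqToHom (F.w_obj x)) := by
  refine Sieve.ext fun V g => ?_
  obtain ⟨z, χ, hχ⟩ := exists_sc_lift hX (a := x) rfl (g ≫ eqToHom (F.w_obj x))
  change _ ↔ S.functorPushforward 𝒳.p (g ≫ eqToHom (F.w_obj x))
  rw [push_apply_iff hX S χ]
  have hF : 𝒴.p.IsHomLift g (F.map χ) := by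
    have h := BasedFunctor.preserves_isHomLift F (g ≫ eqToHom (F.w_obj x)) χ
    exact IsHomLift.of_fac' 𝒴.p g (F.map χ) (IsHomLift.domain_eq 𝒴.p (g ≫ eqToHom (F.w_obj x)) (F.map χ))
      rfl (by rw [IsHomLift.fac' 𝒴.p (g ≫ eqToHom (F.w_obj x)) (F.map χ)]; simp)
  rw [push_apply_iff hY _ (F.map χ)]
  constructor
  · rintro ⟨c, n, k, hn, hk⟩
    have e : g ≫ eqToHom (F.w_obj x) =
        (eqToHom (IsHomLift.domain_eq 𝒴.p g (F.map χ)).symm ≫ 𝒴.p.map k ≫ eqToHom (F.w_obj c)) ≫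
          𝒳.p.map n := by
      have e0 : 𝒴.p.map (F.map χ) = 𝒴.p.map k ≫ 𝒴.p.map (F.map n) := by rw [← 𝒴.p.map_comp, hk]
      have e1 : 𝒴.p.map (F.map n) = eqToHom (F.w_obj c) ≫ 𝒳.p.map n ≫ eqToHom (F.w_obj x).symm :=
        Functor.congr_hom F.w n
      rw [e1, IsHomLift.fac' 𝒴.p g (F.map χ)] at e0
      have e2 := congrArg (fun t => eqToHom (IsHomLift.domain_eq 𝒴.p g (F.map χ)).symm ≫ t ≫
        eqToHom (F.w_obj x)) e0
      simpa using e2
    obtain ⟨w, κ, hκ⟩ := exists_sc_lift hX (a := c) rfl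
      (eqToHom (IsHomLift.domain_eq 𝒴.p g (F.map χ)).symm ≫ 𝒴.p.map k ≫ eqToHom (F.w_obj c))
    have : 𝒳.p.IsHomLift (g ≫ eqToHom (F.w_obj x)) (κ ≫ n) := e ▸ inferInstance
    obtain ⟨i, -, hi⟩ := exists_vertIso hX (g ≫ eqToHom (F.w_obj x)) χ (κ ≫ n)
    rw [← hi]
    exact S.downward_closed (S.downward_closed hn κ) i.hom
  · intro h
    exact Sieve.image_mem_functorPushforward F.toFunctor S h

lemma coverPreserving_restricted (J : GrothendieckTopology C) (hX : FibCat.IsFibGrpd 𝒳.p)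
    (hY : FibCat.IsFibGrpd 𝒴.p) :
    CoverPreserving (𝒳.p.restrictedTopology J) (𝒴.p.restrictedTopology J) F.toFunctor :=
  ⟨fun {x S} hS => (mem_restricted_iff hY J _).2 (by
    rw [push_push F hX hY]
    exact J.pullback_stable _ ((mem_restricted_iff hX J S).1 hS))⟩

lemma isCocontinuous_restricted (J : GrothendieckTopology C) (hX : FibCat.IsFibGrpd 𝒳.p)
    (hY : FibCat.IsFibGrpd 𝒴.p) :
    F.toFunctor.IsCocontinuous (𝒳.p.restrictedTopology J) (𝒴.p.restrictedTopology J) :=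
  ⟨fun {x T} hT => (mem_restricted_iff hX J _).2 (by
    have h := J.pullback_stable (eqToHom (F.w_obj x).symm) ((mem_restricted_iff hY J T).1 hT)
    refine J.superset_covering ?_ h
    intro V g hg
    obtain ⟨z, χ, hχ⟩ := exists_sc_lift hX (a := x) rfl g
    refine (push_apply_iff hX _ χ).2 ?_
    change T (F.map χ)
    have hF : 𝒴.p.IsHomLift (g ≫ eqToHom (F.w_obj x).symm) (F.map χ) := by
      have h := BasedFunctor.preserves_isHomLift F g χ
      exact IsHomLift.of_fac' 𝒴.p _ (F.map χ) (IsHomLift.domain_eq 𝒴.p g (F.map χ))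
        rfl (by rw [IsHomLift.fac' 𝒴.p g (F.map χ)]; simp)
    exact (push_apply_iff hY T (F.map χ)).1 hg)⟩

lemma compatiblePreserving_fibGrpd (J : GrothendieckTopology 𝒴.obj) (hX : FibCat.IsFibGrpd 𝒳.p)
    (hY : FibCat.IsFibGrpd 𝒴.p) : CompatiblePreserving J F.toFunctor where
  compatible P Z T x hx Y₁ Y₂ X f₁ f₂ g₁ g₂ hg₁ hg₂ e := by
    let b : 𝒴.p.obj X ⟶ 𝒳.p.obj Z := 𝒴.p.map (f₁ ≫ F.map g₁) ≫ eqToHom (F.w_obj Z)
    obtain ⟨z, φ, hφ⟩ := exists_sc_lift hX (a := Z) rfl b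
    have hlift : ∀ {W : 𝒳.obj} (f : X ⟶ F.obj W) (g : W ⟶ Z), f ≫ F.map g = f₁ ≫ F.map g₁ →
        ∃ a : z ⟶ W, a ≫ g = φ ∧ 𝒳.p.IsHomLift (𝒴.p.map f ≫ eqToHom (F.w_obj W)) a := by
      intro W f g hfg
      have := hX.isStronglyCartesian g
      have hb : b = (𝒴.p.map f ≫ eqToHom (F.w_obj W)) ≫ 𝒳.p.map g := by
        have e1 : 𝒴.p.map (F.map g) = eqToHom (F.w_obj W) ≫ 𝒳.p.map g ≫ eqToHom (F.w_obj Z).symm :=
          Functor.congr_hom F.w g
        simp only [b, ← hfg, Functor.map_comp, e1]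
        simp
      obtain ⟨a, ⟨ha, ha'⟩, -⟩ := IsStronglyCartesian.universal_property 𝒳.p (𝒳.p.map g) g
        (𝒴.p.map f ≫ eqToHom (F.w_obj W)) b hb φ
      exact ⟨a, ha', ha⟩
    obtain ⟨a₁, ha₁, ha₁'⟩ := hlift f₁ g₁ rfl
    obtain ⟨a₂, ha₂, ha₂'⟩ := hlift f₂ g₂ e.symm
    have h1 : 𝒴.p.IsHomLift b (F.map φ) := inferInstance
    have h2 : 𝒴.p.IsHomLift b (f₁ ≫ F.map g₁) :=
      IsHomLift.of_fac' 𝒴.p b _ rfl (F.w_obj Z) (by simp [b])
    obtain ⟨i, hi, hi'⟩ := exists_vertIso hY b (f₁ ≫ F.map g₁) (F.map φ)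
    have hcomp : ∀ {W : 𝒳.obj} (f : X ⟶ F.obj W) (g : W ⟶ Z) (a : z ⟶ W),
        f ≫ F.map g = f₁ ≫ F.map g₁ → a ≫ g = φ →
        𝒳.p.IsHomLift (𝒴.p.map f ≫ eqToHom (F.w_obj W)) a → i.hom ≫ F.map a = f := by
      intro W f g a hfg hag ha
      have hl1 : 𝒴.p.IsHomLift (𝒴.p.map f ≫ eqToHom (F.w_obj W)) f :=
        IsHomLift.of_fac' 𝒴.p _ _ rfl (F.w_obj W) (by simp)
      have hl2 : 𝒴.p.IsHomLift (𝒴.p.map f ≫ eqToHom (F.w_obj W)) (i.hom ≫ F.map a) :=
        IsHomLift.comp_lift_id_left' 𝒴.p (𝒴.p.obj X) i.hom _ (F.map a)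
      have hg : 𝒴.p.IsHomLift (𝒳.p.map g) (F.map g) :=
        have := IsHomLift.map 𝒳.p g
        BasedFunctor.preserves_isHomLift F (𝒳.p.map g) g
      have := sc_of_fibGrpd hY (𝒳.p.map g) (F.map g)
      refine IsStronglyCartesian.ext 𝒴.p (𝒳.p.map g) (F.map g) (𝒴.p.map f ≫ eqToHom (F.w_obj W)) ?_
      rw [Category.assoc, ← F.toFunctor.map_comp, hag, hi', hfg]
    rw [← hcomp f₁ g₁ a₁ rfl ha₁ ha₁', ← hcomp f₂ g₂ a₂ e.symm ha₂ ha₂', op_comp, op_comp,
      Functor.map_comp_apply, Functor.map_comp_apply]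
    exact congrArg _ (hx a₁ a₂ hg₁ hg₂ (ha₁.trans ha₂.symm))

lemma isContinuous_restricted (J : GrothendieckTopology C) (hX : FibCat.IsFibGrpd 𝒳.p)
    (hY : FibCat.IsFibGrpd 𝒴.p) :
    F.toFunctor.IsContinuous (𝒳.p.restrictedTopology J) (𝒴.p.restrictedTopology J) :=
  Functor.isContinuous_of_coverPreserving (compatiblePreserving_fibGrpd F _ hX hY)
    (coverPreserving_restricted F J hX hY)

end Morphism

end Groth.Agent.H14Stk
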