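import Groth.Agent.H14Stk.Local
import Groth.Agent.H14Stk.OverDescent
import Groth.Agent.H14Stk.Site
import Groth.Agent.H14Fib.Comp

/-!
# Categories over a category fibred in groupoids: descent in two steps

For `𝒯` fibred in groupoids over `C` and `ℬ` fibred in groupoids over `𝒯.obj`, a functor over `𝒯.obj`
into `ℬ` is the same as a functor over `C` into the composite together with an identification of its
projection to `𝒯`.  This relates the stack conditions of `ℬ` over `𝒯.obj` and of the composite over `C`.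
-/

set_option autoImplicit false
set_option backward.isDefEq.respectTransparency false
set_option backward.isDefEq.respectTransparency.types false

universe w₄ z₄ w₃ z₃ w₂ z₂ w₁ z₁ v₅ u₅ v₃ u₃ v₂ u₂ v u

open CategoryTheory CategoryTheory.Functor

namespace Groth.Agent.H14Stk

open H14Fib Stk

section Abstract

variable {E : Type z₁} [Category.{w₁} E] {T : Type z₂} [Category.{w₂} T]
  {E' : Type z₃} [Category.{w₃} E'] {T' : Type z₄} [Category.{w₄} T']

/-- Objects of the essential fibre of `P` over `y`. -/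
structure Fib (P : E ⥤ T) (y : T) where
  /-- the object -/
  obj : E
  /-- the identification of its image -/
  iso : P.obj obj ≅ y

namespace Fib

variable {P : E ⥤ T} {y : T}

/-- Morphisms of the essential fibre. -/
@[ext]
structure Hom (a b : Fib P y) where
  /-- the underlying morphism -/
  hom : a.obj ⟶ b.obj
  w : P.map hom ≫ b.iso.hom = a.iso.hom

instance : Category (Fib P y) where
  Hom := Hom
  id a := ⟨𝟙 a.obj, by simp⟩
  comp f g := ⟨f.hom ≫ g.hom, by rw [P.map_comp, Category.assoc, g.w, f.w]⟩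
  id_comp f := Hom.ext (Category.id_comp _)
  comp_id f := Hom.ext (Category.comp_id _)
  assoc f g h := Hom.ext (Category.assoc _ _ _)

@[ext] lemma hom_ext {a b : Fib P y} {f g : a ⟶ b} (h : f.hom = g.hom) : f = g := Hom.ext h

@[simp] lemma id_hom (a : Fib P y) : (𝟙 a : a ⟶ a).hom = 𝟙 a.obj := rfl

@[simp] lemma comp_hom {a b c : Fib P y} (f : a ⟶ b) (g : b ⟶ c) : (f ≫ g).hom = f.hom ≫ g.hom :=
  rfl

/-- Forgetting the identification. -/
def forget : Fib P y ⥤ E where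
  obj a := a.obj
  map f := f.hom

/-- Build an isomorphism. -/
def isoMk {a b : Fib P y} (i : a.obj ≅ b.obj) (h : P.map i.hom ≫ b.iso.hom = a.iso.hom) : a ≅ b where
  hom := ⟨i.hom, h⟩
  inv := ⟨i.inv, by rw [← h, ← Category.assoc, ← P.map_comp, i.inv_hom_id, P.map_id, Category.id_comp]⟩
  hom_inv_id := hom_ext i.hom_inv_id
  inv_hom_id := hom_ext i.inv_hom_id

end Fib

variable (P : E ⥤ T) (P' : E' ⥤ T') (r : E ⥤ E') (t : T ⥤ T') (c : r ⋙ P' ≅ P ⋙ t)

/-- The functor of essential fibres of a square. -/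
def fibMap (y : T) : Fib P y ⥤ Fib P' (t.obj y) where
  obj a := ⟨r.obj a.obj, c.app a.obj ≪≫ t.mapIso a.iso⟩
  map {a b} f := ⟨r.map f.hom, by
    have hn : P'.map (r.map f.hom) ≫ c.hom.app b.obj = c.hom.app a.obj ≫ t.map (P.map f.hom) :=
      c.hom.naturality f.hom
    simp only [Iso.trans_hom, Iso.app_hom, Functor.mapIso_hom]
    rw [← Category.assoc, hn, Category.assoc, ← t.map_comp, f.w]⟩
  map_id a := Fib.hom_ext (r.map_id _)
  map_comp f g := Fib.hom_ext (r.map_comp _ _)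

lemma fibMap_isEquivalence (y : T) [r.IsEquivalence] [t.Full] [t.Faithful] :
    (fibMap P P' r t c y).IsEquivalence := by
  refine { faithful := ⟨fun {a b f g} h => Fib.hom_ext (r.map_injective (congrArg Fib.Hom.hom h))⟩,
           full := ⟨fun {a b} m => ?_⟩, essSurj := ⟨fun a => ?_⟩ }
  · obtain ⟨f, hf⟩ := r.map_surjective m.hom
    have hw : P.map f ≫ b.iso.hom = a.iso.hom := by
      apply t.map_injective
      have hm : P'.map m.hom ≫ c.hom.app b.obj ≫ t.map b.iso.hom =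
          c.hom.app a.obj ≫ t.map a.iso.hom := m.w
      have hn : P'.map (r.map f) ≫ c.hom.app b.obj = c.hom.app a.obj ≫ t.map (P.map f) :=
        c.hom.naturality f
      rw [← hf, ← Category.assoc, hn, Category.assoc] at hm
      rw [t.map_comp]
      exact (cancel_epi _).1 hm
    exact ⟨⟨f, hw⟩, Fib.hom_ext hf⟩
  · let x := r.objPreimage a.obj
    let i : r.obj x ≅ a.obj := r.objObjPreimageIso a.obj
    let j : P.obj x ≅ y := t.preimageIso ((c.app x).symm ≪≫ P'.mapIso i ≪≫ a.iso)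
    refine ⟨⟨x, j⟩, ⟨Fib.isoMk i ?_⟩⟩
    change P'.map i.hom ≫ a.iso.hom = c.hom.app x ≫ t.map j.hom
    simp [j]

lemma isEquivalence_of_fibres [t.IsEquivalence] (hT : ∀ {a b : T} (m : a ⟶ b), IsIso m)
    (h : ∀ y : T, ∃ (y' : T) (_ : y ≅ y'), (fibMap P P' r t c y').IsEquivalence) :
    r.IsEquivalence := by
  refine { faithful := ⟨fun {K K' f g} e => ?_⟩, full := ⟨fun {K K'} α => ?_⟩,
           essSurj := ⟨fun K' => ?_⟩ }
  · have e' : P.map f = P.map g := by
      apply t.map_injective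
      rw [← cancel_epi (c.hom.app K)]
      exact (c.hom.naturality f).symm.trans ((congrArg (fun m => P'.map m ≫ _) e).trans
        (c.hom.naturality g))
    have := hT (P.map g)
    obtain ⟨y', i, hy⟩ := h (P.obj K')
    let A : Fib P y' := ⟨K, asIso (P.map g) ≪≫ i⟩
    let B : Fib P y' := ⟨K', i⟩
    let mf : A ⟶ B := ⟨f, by simp [A, B, e']⟩
    let mg : A ⟶ B := ⟨g, by simp [A, B]⟩
    exact congrArg Fib.Hom.hom ((fibMap P P' r t c y').map_injective
      (show (fibMap P P' r t c y').map mf = (fibMap P P' r t c y').map mg from Fib.hom_ext e))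
  · obtain ⟨γ, hγ⟩ := t.map_surjective (c.inv.app K ≫ P'.map α ≫ c.hom.app K')
    have := hT γ
    obtain ⟨y', i, hy⟩ := h (P.obj K')
    let A : Fib P y' := ⟨K, asIso γ ≪≫ i⟩
    let B : Fib P y' := ⟨K', i⟩
    let m : (fibMap P P' r t c y').obj A ⟶ (fibMap P P' r t c y').obj B := ⟨α, by
      change P'.map α ≫ c.hom.app K' ≫ t.map i.hom = c.hom.app K ≫ t.map (γ ≫ i.hom)
      simp [hγ]⟩
    obtain ⟨f, hf⟩ := (fibMap P P' r t c y').map_surjective m
    exact ⟨f.hom, congrArg Fib.Hom.hom hf⟩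
  · obtain ⟨y', i, hy⟩ := h (t.objPreimage (P'.obj K'))
    let a : Fib P' (t.obj y') := ⟨K', (t.objObjPreimageIso (P'.obj K')).symm ≪≫ t.mapIso i⟩
    exact ⟨((fibMap P P' r t c y').objPreimage a).obj,
      ⟨Fib.forget.mapIso ((fibMap P P' r t c y').objObjPreimageIso a)⟩⟩

end Abstract

section Precomp

variable {C : Type u} [Category.{v} C] {𝒜 : BasedCategory.{v₅, u₅} C} {𝒜' : BasedCategory.{v₃, u₃} C}

lemma restr_isEquivalence {j : 𝒜 ⥤ᵇ 𝒜'} (hj : FibCat.IsEquivOver j) (𝒳 : BasedCategory.{v₂, u₂} C) :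
    (restr j 𝒳).IsEquivalence := by
  obtain ⟨k, ⟨e₁⟩, ⟨e₂⟩⟩ := hj
  refine (CategoryTheory.Equivalence.mk (restr j 𝒳) (restr k 𝒳)
    (NatIso.ofComponents (fun G => ((post 𝒜' G).mapIso e₂).symm) (fun {G G'} α => ?_))
    (NatIso.ofComponents (fun G => (post 𝒜 G).mapIso e₁) (fun {G G'} α => ?_))).isEquivalence_functor
  · exact hom_ext fun a => (α.toNatTrans.naturality (app e₂.inv a)).symm
  · exact hom_ext fun a => (α.toNatTrans.naturality (app e₁.hom a)).symm

end Precomp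

variable {C : Type u} [Category.{v} C] {𝒯 : BasedCategory.{v₃, u₃} C}

/-- The projection of a category over `𝒯.obj` to `𝒯`. -/
def pushProj (𝒜 : BasedCategory.{v₅, u₅} 𝒯.obj) : pushCat 𝒯.p 𝒜 ⥤ᵇ 𝒯 where
  toFunctor := 𝒜.p
  w := rfl

section Rectify

variable {𝒜 : BasedCategory.{v₅, u₅} 𝒯.obj} {ℬ : BasedCategory.{v₂, u₂} 𝒯.obj}

/-- The identification of the projection of a functor over `𝒯.obj`. -/
def projIso (K : 𝒜 ⥤ᵇ ℬ) :
    BasedFunctor.comp ((pushFun 𝒯.p).obj K) (pushProj ℬ) ≅ pushProj 𝒜 :=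
  mkIso (fun a => eqToIso (K.w_obj a))
    (fun {a b} f => by
      change ℬ.p.map (K.map f) ≫ eqToHom (K.w_obj b) = eqToHom (K.w_obj a) ≫ 𝒜.p.map f
      rw [show ℬ.p.map (K.map f) = _ from Functor.congr_hom K.w f]
      simp)
    (fun a => IsHomLift.of_fac' 𝒯.p _ _ (congrArg 𝒯.p.obj (K.w_obj a)) rfl (by simp [eqToHom_map]))

/-- A functor over `𝒯.obj` as a functor over `C` with identified projection. -/
def toFib (𝒜 : BasedCategory.{v₅, u₅} 𝒯.obj) (ℬ : BasedCategory.{v₂, u₂} 𝒯.obj) :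
    (𝒜 ⥤ᵇ ℬ) ⥤ Fib (post (pushCat 𝒯.p 𝒜) (pushProj ℬ)) (pushProj 𝒜) where
  obj K := ⟨(pushFun 𝒯.p).obj K, projIso K⟩
  map {K K'} α := ⟨(pushFun 𝒯.p).map α, hom_ext fun a => by
    change ℬ.p.map (app α a) ≫ eqToHom (K'.w_obj a) = eqToHom (K.w_obj a)
    have : ℬ.p.IsHomLift (𝟙 (𝒜.p.obj a)) (app α a) := BasedNatTrans.isHomLift α rfl
    rw [IsHomLift.fac' ℬ.p (𝟙 (𝒜.p.obj a)) (app α a)]
    simp⟩
  map_id K := Fib.hom_ext ((pushFun 𝒯.p).map_id K)
  map_comp α β := Fib.hom_ext ((pushFun 𝒯.p).map_comp α β)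

lemma toFib_isEquivalence (hℬ : FibCat.IsFibGrpd ℬ.p) : (toFib 𝒜 ℬ).IsEquivalence := by
  refine { faithful := ⟨fun {K K' α β} h => hom_ext fun a =>
             congrArg (fun m : (toFib 𝒜 ℬ).obj K ⟶ (toFib 𝒜 ℬ).obj K' => app (Fib.Hom.hom m) a) h⟩,
           full := ⟨fun {K K'} m => ?_⟩, essSurj := ⟨fun P => ?_⟩ }
  · refine ⟨{ toNatTrans := m.hom.toNatTrans, isHomLift' := fun a => ?_ }, Fib.hom_ext (hom_ext fun _ => rfl)⟩
    have hw : ℬ.p.map (app m.hom a) ≫ eqToHom (K'.w_obj a) = eqToHom (K.w_obj a) :=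
      congrArg (fun t : (post (pushCat 𝒯.p 𝒜) (pushProj ℬ)).obj ((toFib 𝒜 ℬ).obj K).obj ⟶ pushProj 𝒜 => app t a) m.w
    refine IsHomLift.of_fac' ℬ.p _ _ (K.w_obj a) (K'.w_obj a) ?_
    rw [← cancel_mono (eqToHom (K'.w_obj a))]
    change ℬ.p.map (app m.hom a) ≫ _ = _
    rw [hw]; simp
  · have hl := fun a : 𝒜.obj => exists_sc_lift hℬ (a := P.obj.obj a) rfl (app P.iso.inv a)
    choose k χ hχ using hl
    have hiso : ∀ a, IsIso (χ a) := fun a => by
      have : IsIso (app P.iso.inv a) := (isoApp P.iso.symm a).isIso_hom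
      exact isIso_of_fibGrpd hℬ (app P.iso.inv a) (χ a)
    have hk : ∀ a, ℬ.p.obj (k a) = 𝒜.p.obj a := fun a => IsHomLift.domain_eq ℬ.p (app P.iso.inv a) (χ a)
    have hχm : ∀ a, ℬ.p.map (χ a) = eqToHom (hk a) ≫ app P.iso.inv a := fun a => by
      rw [IsHomLift.fac' ℬ.p (app P.iso.inv a) (χ a)]; simp
    let K₀ : 𝒜.obj ⥤ ℬ.obj :=
      { obj := k
        map := fun {a b} f => χ a ≫ P.obj.map f ≫ inv (χ b)
        map_id := fun a => by
          have e : P.obj.map (𝟙 a) = 𝟙 _ := P.obj.toFunctor.map_id a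
          simp [e]
        map_comp := fun {a b c} f g => by
          have e : P.obj.map (f ≫ g) = P.obj.map f ≫ P.obj.map g := P.obj.toFunctor.map_comp f g
          simp [e] }
    let K : 𝒜 ⥤ᵇ ℬ :=
      { toFunctor := K₀
        w := CategoryTheory.Functor.ext hk (fun a b f => by
          change ℬ.p.map (χ a ≫ P.obj.map f ≫ inv (χ b)) = _
          have hn : app P.iso.inv a ≫ ℬ.p.map (P.obj.map f) = 𝒜.p.map f ≫ app P.iso.inv b :=
            (P.iso.inv.toNatTrans.naturality f).symm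
          rw [← cancel_mono (ℬ.p.map (χ b)), ← ℬ.p.map_comp]
          simp only [Category.assoc, IsIso.inv_hom_id, Category.comp_id]
          rw [ℬ.p.map_comp, hχm, hχm, Category.assoc, hn]
          simp) }
    refine ⟨K, ⟨Fib.isoMk (mkIso (fun a => @asIso _ _ _ _ (χ a) (hiso a)) (fun {a b} f => ?_) (fun a => ?_)) (hom_ext fun a => ?_)⟩⟩
    · change (χ a ≫ P.obj.map f ≫ inv (χ b)) ≫ χ b = χ a ≫ P.obj.map f
      simp
    · change (pushCat 𝒯.p ℬ).p.IsHomLift (𝟙 (𝒯.p.obj (𝒜.p.obj a))) (χ a)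
      refine (homLift_comp_functor ℬ.p 𝒯.p _ (χ a)).2 ?_
      rw [hχm]
      have h1 : 𝒯.p.IsHomLift (𝟙 (𝒯.p.obj (𝒜.p.obj a))) (app P.iso.inv a) :=
        BasedNatTrans.isHomLift P.iso.inv rfl
      exact (IsHomLift.comp_eqToHom_lift_iff (p := 𝒯.p) _ _ (hk a)).2 h1
    · change ℬ.p.map (χ a) ≫ app P.iso.hom a = eqToHom (hk a)
      rw [hχm, Category.assoc, show app P.iso.inv a ≫ app P.iso.hom a = 𝟙 _ from
        congrArg (fun t => app t a) P.iso.inv_hom_id]
      exact Category.comp_id _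

end Rectify

section Slice

variable (h𝒯 : FibCat.IsFibGrpd 𝒯.p) {U : C} (y : FibCat.overCat U ⥤ᵇ 𝒯) {y₀ : 𝒯.obj}
  (hy₀ : 𝒯.p.obj y₀ = U) (e : y.obj (topObj U) ≅ y₀) [he : 𝒯.p.IsHomLift (𝟙 U) e.hom]

/-- The structure morphisms to the value at the top. -/
def sliceMap (s : (FibCat.overCat U).obj) : y.obj s ⟶ y₀ := y.map (toTop s) ≫ e.hom

include he in
lemma sliceMap_lift (s : (FibCat.overCat U).obj) : 𝒯.p.IsHomLift s.hom (sliceMap y e s) :=
  have := over_map_toTop_lift y s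
  IsHomLift.comp_lift_id_right' 𝒯.p s.hom (y.map (toTop s)) U e.hom

include he in
lemma sliceMap_map (s : (FibCat.overCat U).obj) :
    𝒯.p.map (sliceMap y e s) ≫ eqToHom hy₀ = eqToHom (y.w_obj s) ≫ s.hom := by
  have := sliceMap_lift y e s
  rw [IsHomLift.fac' 𝒯.p s.hom (sliceMap y e s)]
  simp

/-- The slice of `C` into the slice of the category over it. -/
def slice : FibCat.overCat U ⥤ᵇ pushCat 𝒯.p (FibCat.overCat y₀) where
  toFunctor :=
    { obj := fun s => Over.mk (sliceMap y e s)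
      map := fun {s t} f => Over.homMk (y.map f) (by
        change y.map f ≫ y.map (toTop t) ≫ e.hom = y.map (toTop s) ≫ e.hom
        rw [← Category.assoc, ← y.toFunctor.map_comp, toTop_comp])
      map_id := fun s => Over.OverMorphism.ext (y.toFunctor.map_id s)
      map_comp := fun f g => Over.OverMorphism.ext (y.toFunctor.map_comp f g) }
  w := y.w

lemma slice_proj : BasedFunctor.comp (slice y e) (pushProj (FibCat.overCat y₀)) = y := rfl

include h𝒯 he in
lemma slice_full_faithful : (slice y e).toFunctor.Full ∧ (slice y e).toFunctor.Faithful := by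
  refine ⟨⟨fun {s t} m => ?_⟩, ⟨fun {s t f f'} h => ?_⟩⟩
  · have ht := sliceMap_lift y e t
    have := sc_of_fibGrpd h𝒯 t.hom (sliceMap y e t)
    let g : s.left ⟶ t.left := eqToHom (y.w_obj s).symm ≫ 𝒯.p.map m.left ≫ eqToHom (y.w_obj t)
    have hm : 𝒯.p.IsHomLift g m.left :=
      IsHomLift.of_fac' 𝒯.p g m.left (y.w_obj s) (y.w_obj t) (by simp [g])
    have hmw : m.left ≫ sliceMap y e t = sliceMap y e s := Over.w m
    have hg : g ≫ t.hom = s.hom := by
      have h1 : 𝒯.p.IsHomLift (g ≫ t.hom) (sliceMap y e s) := hmw ▸ inferInstance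
      have := sliceMap_lift y e s
      have e1 := (IsHomLift.fac' 𝒯.p (g ≫ t.hom) (sliceMap y e s)).symm.trans
        (IsHomLift.fac' 𝒯.p s.hom (sliceMap y e s))
      rw [← cancel_epi (eqToHom (y.w_obj s)), ← cancel_mono (eqToHom (IsHomLift.codomain_eq 𝒯.p (g ≫ t.hom) (sliceMap y e s)).symm), Category.assoc, Category.assoc]
      simpa using e1
    let f : s ⟶ t := Over.homMk g hg
    refine ⟨f, Over.OverMorphism.ext ?_⟩
    change y.map f = m.left
    have : 𝒯.p.IsHomLift g (y.map f) :=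
      @BasedFunctor.preserves_isHomLift _ _ _ _ y _ _ _ _ g f (overCat_isHomLift f)
    apply IsStronglyCartesian.ext 𝒯.p t.hom (sliceMap y e t) g
    rw [hmw, sliceMap, ← Category.assoc, ← y.toFunctor.map_comp, toTop_comp]
    rfl
  · have h' : y.map f = y.map f' := congrArg CommaMorphism.left h
    refine Over.OverMorphism.ext ?_
    have e1 : 𝒯.p.map (y.map f) = eqToHom (y.w_obj s) ≫ f.left ≫ eqToHom (y.w_obj t).symm :=
      Functor.congr_hom y.w f
    have e2 : 𝒯.p.map (y.map f') = eqToHom (y.w_obj s) ≫ f'.left ≫ eqToHom (y.w_obj t).symm :=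
      Functor.congr_hom y.w f'
    rw [h', e2] at e1
    rw [← cancel_epi (eqToHom (y.w_obj s)), ← cancel_mono (eqToHom (y.w_obj t).symm), Category.assoc, Category.assoc]
    exact e1.symm

include h𝒯 he hy₀ in
lemma slice_exists_iso (b : Over y₀) :
    ∃ (i : (slice y e).obj (Over.mk (eqToHom rfl ≫ 𝒯.p.map b.hom ≫ eqToHom hy₀)) ≅ b),
      𝒯.p.IsHomLift (𝟙 (𝒯.p.obj b.left)) i.hom.left := by
  let s : (FibCat.overCat U).obj := Over.mk (eqToHom rfl ≫ 𝒯.p.map b.hom ≫ eqToHom hy₀)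
  have := sliceMap_lift y e s
  have : 𝒯.p.IsHomLift s.hom b.hom := IsHomLift.of_fac' 𝒯.p _ _ rfl hy₀ (by simp [s])
  obtain ⟨i, hi, hi'⟩ := exists_vertIso h𝒯 s.hom (sliceMap y e s) b.hom
  exact ⟨Over.isoMk i hi', hi⟩

include h𝒯 he hy₀ in
lemma slice_isEquivOver : FibCat.IsEquivOver (slice y e) := by
  refine (isEquivOver_iff _).2 ⟨slice_full_faithful h𝒯 y e, fun b => ?_⟩
  obtain ⟨i, hi⟩ := slice_exists_iso h𝒯 y hy₀ e b
  exact ⟨_, i, (homLift_comp_functor (Over.forget y₀) 𝒯.p _ i.hom).2 hi⟩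

variable {R₀ : Sieve U} {R : Sieve y₀}
  (hR : ∀ ⦃a : 𝒯.obj⦄ (φ : a ⟶ y₀), R φ ↔ R₀ (𝒯.p.map φ ≫ eqToHom hy₀))

include he hR in
lemma sliceMap_mem (a : (sieveCat R₀).obj) : R (sliceMap y e a.obj) := by
  rw [hR, sliceMap_map y hy₀ e]
  exact R₀.downward_closed a.property _

/-- The slice restricted to a sieve. -/
def sliceSieve : sieveCat R₀ ⥤ᵇ pushCat 𝒯.p (sieveCat R) where
  toFunctor := ObjectProperty.lift _ (ObjectProperty.ι _ ⋙ (slice y e).toFunctor)
    (sliceMap_mem y hy₀ e hR)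
  w := by
    refine CategoryTheory.Functor.ext (fun a => y.w_obj a.obj) (fun a b f => ?_)
    exact Functor.congr_hom y.w f.hom

include h𝒯 he in
lemma sliceSieve_isEquivOver : FibCat.IsEquivOver (sliceSieve y hy₀ e hR) := by
  obtain ⟨_, _⟩ := slice_full_faithful h𝒯 y e
  refine (isEquivOver_iff _).2 ⟨⟨⟨fun {a b} m => ?_⟩, ⟨fun {a b f g} h => ?_⟩⟩, fun b => ?_⟩
  · exact ⟨ObjectProperty.homMk ((slice y e).toFunctor.preimage m.hom),
      ObjectProperty.hom_ext _ ((slice y e).toFunctor.map_preimage _)⟩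
  · exact ObjectProperty.hom_ext _ ((slice y e).toFunctor.map_injective
      (congrArg (fun n => n.hom) h))
  · obtain ⟨i, hi⟩ := slice_exists_iso h𝒯 y hy₀ e b.obj
    refine ⟨⟨Over.mk (eqToHom rfl ≫ 𝒯.p.map b.obj.hom ≫ eqToHom hy₀), ?_⟩,
      ObjectProperty.isoMk _ i, ?_⟩
    · change R₀ (eqToHom rfl ≫ 𝒯.p.map b.obj.hom ≫ eqToHom hy₀)
      rw [eqToHom_refl, Category.id_comp]
      exact (hR b.obj.hom).1 b.property
    · exact (homLift_comp_functor _ 𝒯.p _ _).2 hi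

variable {ℬ : BasedCategory.{v₂, u₂} 𝒯.obj}

/-- Functors on the slice of the category over it as functors on the slice with identified projection. -/
def sliceFib : (FibCat.overCat y₀ ⥤ᵇ ℬ) ⥤ Fib (post (FibCat.overCat U) (pushProj ℬ))
    ((restr (slice y e) 𝒯).obj (pushProj (FibCat.overCat y₀))) :=
  toFib (FibCat.overCat y₀) ℬ ⋙ fibMap (post _ (pushProj ℬ)) (post _ (pushProj ℬ))
    (restr (slice y e) (pushCat 𝒯.p ℬ)) (restr (slice y e) 𝒯) (Iso.refl _) _

include h𝒯 he hy₀ hR in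
/-- The stack condition over `𝒯.obj` at `y₀` is the fibre at `y` of the one over `C`. -/
lemma isStackFor_iff_fibMap (hℬ : FibCat.IsFibGrpd ℬ.p) :
    IsStackFor R ℬ ↔ (fibMap (post (FibCat.overCat U) (pushProj ℬ)) (post (sieveCat R₀) (pushProj ℬ))
      (resSieve R₀ (pushCat 𝒯.p ℬ)) (resSieve R₀ 𝒯) (Iso.refl _) y).IsEquivalence := by
  let jS := sliceSieve y hy₀ e hR
  let ΦS : (sieveCat R ⥤ᵇ ℬ) ⥤ Fib (post (sieveCat R₀) (pushProj ℬ))
      ((restr jS 𝒯).obj (pushProj (sieveCat R))) :=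
    toFib (sieveCat R) ℬ ⋙ fibMap (post _ (pushProj ℬ)) (post _ (pushProj ℬ))
      (restr jS (pushCat 𝒯.p ℬ)) (restr jS 𝒯) (Iso.refl _) _
  let ΦA := sliceFib y e (ℬ := ℬ)
  have := toFib_isEquivalence (𝒜 := FibCat.overCat y₀) hℬ
  have := toFib_isEquivalence (𝒜 := sieveCat R) hℬ
  have := restr_isEquivalence (slice_isEquivOver h𝒯 y hy₀ e) (pushCat 𝒯.p ℬ)
  have := restr_isEquivalence (slice_isEquivOver h𝒯 y hy₀ e) 𝒯
  have := restr_isEquivalence (sliceSieve_isEquivOver h𝒯 y hy₀ e hR) (pushCat 𝒯.p ℬ)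
  have := restr_isEquivalence (sliceSieve_isEquivOver h𝒯 y hy₀ e hR) 𝒯
  have := fibMap_isEquivalence (post (pushCat 𝒯.p (FibCat.overCat y₀)) (pushProj ℬ))
    (post (FibCat.overCat U) (pushProj ℬ)) (restr (slice y e) (pushCat 𝒯.p ℬ))
    (restr (slice y e) 𝒯) (Iso.refl _) (pushProj (FibCat.overCat y₀))
  have := fibMap_isEquivalence (post (pushCat 𝒯.p (sieveCat R)) (pushProj ℬ))
    (post (sieveCat R₀) (pushProj ℬ)) (restr jS (pushCat 𝒯.p ℬ))
    (restr jS 𝒯) (Iso.refl _) (pushProj (sieveCat R))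
  have hA : ΦA.IsEquivalence := inferInstanceAs (toFib (FibCat.overCat y₀) ℬ ⋙ _).IsEquivalence
  have hS : ΦS.IsEquivalence := inferInstanceAs (toFib (sieveCat R) ℬ ⋙ _).IsEquivalence
  let M := fibMap (post (FibCat.overCat U) (pushProj ℬ)) (post (sieveCat R₀) (pushProj ℬ))
      (resSieve R₀ (pushCat 𝒯.p ℬ)) (resSieve R₀ 𝒯) (Iso.refl _) y
  let sq : resSieve R ℬ ⋙ ΦS ≅ ΦA ⋙ M :=
    NatIso.ofComponents (fun K => Fib.isoMk (Iso.refl _) (hom_ext fun a => by
      simp [ΦS, ΦA, sliceFib, M, jS, toFib, fibMap, projIso, mkIso, restr, resSieve, sieveIncl, post, app, BasedCategory.whiskerRight, BasedCategory.whiskerLeft, BasedNatTrans.comp, BasedNatTrans.id, BasedNatIso.mkNatIso, pushProj]; erw [Category.id_comp, Category.id_comp, Category.id_comp]))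
      (fun α => Fib.hom_ext ((Category.comp_id _).trans (Category.id_comp _).symm))
  constructor
  · intro h
    have : (resSieve R ℬ).IsEquivalence := h
    have : (ΦA ⋙ M).IsEquivalence := Functor.isEquivalence_of_iso sq
    exact Functor.isEquivalence_of_comp_left ΦA M
  · intro h
    have : M.IsEquivalence := h
    have : (resSieve R ℬ ⋙ ΦS).IsEquivalence := Functor.isEquivalence_of_iso sq.symm
    exact Functor.isEquivalence_of_comp_right (resSieve R ℬ) ΦS

end Slice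

section Main

variable {ℬ : BasedCategory.{v₂, u₂} 𝒯.obj} (J : GrothendieckTopology C)

lemma isStack_restricted_of_isStack_push (h𝒯 : IsPrestack J 𝒯) (hℬ : FibCat.IsFibGrpd ℬ.p)
    (h : IsStack J (pushCat 𝒯.p ℬ)) : IsStack (𝒯.p.restrictedTopology J) ℬ := by
  refine ⟨hℬ, fun y₀ R hR => ?_⟩
  have := isFibered_of_fibGrpd h𝒯.1
  obtain ⟨y, e, -, he⟩ := exists_fromOver (𝒳 := 𝒯) (U := 𝒯.p.obj y₀) (x := y₀) rfl
  have hmem := (mem_restricted_iff h𝒯.1 J R).1 hR
  refine (isStackFor_iff_fibMap h𝒯.1 y (R₀ := R.functorPushforward 𝒯.p) rfl e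
    (fun a φ => by rw [eqToHom_refl, Category.comp_id]; exact (push_map_iff h𝒯.1 R φ).symm) hℬ).2 ?_
  have : (resSieve (R.functorPushforward 𝒯.p) (pushCat 𝒯.p ℬ)).IsEquivalence := h.2 _ hmem
  obtain ⟨_, _⟩ := h𝒯.2 _ hmem
  exact fibMap_isEquivalence _ _ _ _ _ _

lemma isStack_push_of_isStack_restricted (h𝒯 : IsStack J 𝒯)
    (h : IsStack (𝒯.p.restrictedTopology J) ℬ) : IsStack J (pushCat 𝒯.p ℬ) := by
  refine ⟨fibGrpd_comp ℬ.p 𝒯.p h.1 h𝒯.1, fun U R₀ hR₀ => ?_⟩
  have : (resSieve R₀ 𝒯).IsEquivalence := h𝒯.2 R₀ hR₀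
  refine isEquivalence_of_fibres (post (FibCat.overCat U) (pushProj ℬ))
    (post (sieveCat R₀) (pushProj ℬ)) (resSieve R₀ (pushCat 𝒯.p ℬ)) (resSieve R₀ 𝒯) (Iso.refl _)
    (fun {a b} m => ?_) (fun y => ⟨y, Iso.refl _, ?_⟩)
  · have : ∀ s, IsIso (m.toNatTrans.app s) := fun s => by
      have : 𝒯.p.IsHomLift (𝟙 ((FibCat.overCat U).p.obj s)) (app m s) := BasedNatTrans.isHomLift m rfl
      exact isIso_of_fibGrpd h𝒯.1 (𝟙 ((FibCat.overCat U).p.obj s)) (app m s)
    have : IsIso (X := a.toFunctor) m.toNatTrans := NatIso.isIso_of_isIso_app m.toNatTrans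
    exact BasedNatIso.isIso_of_toNatTrans_isIso m
  · let y₀ := y.obj (topObj U)
    have hy₀ : 𝒯.p.obj y₀ = U := y.w_obj (topObj U)
    let R : Sieve y₀ :=
      { arrows := fun a φ => R₀ (𝒯.p.map φ ≫ eqToHom hy₀)
        downward_closed := fun {a b φ} hφ g => by
          rw [Functor.map_comp, Category.assoc]
          exact R₀.downward_closed hφ _ }
    have he : 𝒯.p.IsHomLift (𝟙 U) (Iso.refl y₀).hom := IsHomLift.id hy₀
    refine (isStackFor_iff_fibMap h𝒯.1 y hy₀ (Iso.refl y₀) (R := R) (R₀ := R₀) (fun a φ => Iff.rfl)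
      h.1).1 (h.2 R ((mem_restricted_iff h𝒯.1 J R).2 ?_))
    refine J.superset_covering ?_ (J.pullback_stable (eqToHom hy₀) hR₀)
    intro V g hg
    obtain ⟨z, χ, hχ⟩ := exists_sc_lift h𝒯.1 (a := y₀) rfl g
    refine (push_apply_iff h𝒯.1 R χ).2 ?_
    change R₀ (𝒯.p.map χ ≫ eqToHom hy₀)
    rw [IsHomLift.fac' 𝒯.p g χ]
    simpa using R₀.downward_closed hg (eqToHom (IsHomLift.domain_eq 𝒯.p g χ))

end Main

end Groth.Agent.H14Stk
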