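import Groth.Agent.H14Stk.Local

/-!
# Gluing vertical morphisms, and statements holding locally
-/

set_option autoImplicit false
set_option backward.isDefEq.respectTransparency false
set_option backward.isDefEq.respectTransparency.types false

universe v₃ u₃ v₂ u₂ v u

open CategoryTheory CategoryTheory.Functor

namespace Groth.Agent.H14Stk

open H14Fib Stk

variable {C : Type u} [Category.{v} C] {𝒳 : BasedCategory.{v₂, u₂} C}

/-- The statement `P` holds on the members of a covering sieve. -/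
def Locally (J : GrothendieckTopology C) (U : C) (P : ∀ ⦃V : C⦄, (V ⟶ U) → Prop) : Prop :=
  ∃ R ∈ J U, ∀ ⦃V : C⦄ (f : V ⟶ U), R f → P f

namespace Locally

variable {J : GrothendieckTopology C} {U : C} {P Q : ∀ ⦃V : C⦄, (V ⟶ U) → Prop}

lemma mono (h : Locally J U P) (hPQ : ∀ ⦃V : C⦄ (f : V ⟶ U), P f → Q f) : Locally J U Q :=
  let ⟨R, hR, hP⟩ := h
  ⟨R, hR, fun _ f hf => hPQ f (hP f hf)⟩

lemma of_forall (h : ∀ ⦃V : C⦄ (f : V ⟶ U), P f) : Locally J U P :=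
  ⟨⊤, J.top_mem U, fun _ f _ => h f⟩

lemma bind (h : Locally J U P)
    (hPQ : ∀ ⦃V : C⦄ (f : V ⟶ U), P f → Locally J V (fun _ g => Q (g ≫ f))) : Locally J U Q := by
  obtain ⟨R, hR, hP⟩ := h
  choose S hS hQ using fun (V : C) (f : V ⟶ U) (hf : R f) => hPQ f (hP f hf)
  refine ⟨Sieve.bind R.arrows (fun V f hf => S V f hf),
    J.bind_covering hR (fun V f hf => hS V f hf), ?_⟩
  rintro W g ⟨V, k, f, hf, hk, rfl⟩
  exact hQ V f hf k hk

lemma pullback (h : Locally J U P) {V : C} (f : V ⟶ U) : Locally J V (fun _ g => P (g ≫ f)) :=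
  let ⟨R, hR, hP⟩ := h
  ⟨R.pullback f, J.pullback_stable f hR, fun _ g hg => hP (g ≫ f) hg⟩

lemma and (h : Locally J U P) (h' : Locally J U Q) : Locally J U (fun _ f => P f ∧ Q f) :=
  let ⟨R, hR, hP⟩ := h
  let ⟨R', hR', hQ⟩ := h'
  ⟨R ⊓ R', J.intersection_covering hR hR', fun _ f hf => ⟨hP f hf.1, hQ f hf.2⟩⟩

end Locally

/-- A vertical morphism is glued from a locally unique family of local morphisms. -/
lemma exists_vert_of_local {J : GrothendieckTopology C} (h : IsPrestack J 𝒳) {U : C} {R : Sieve U}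
    (hR : R ∈ J U) {a b : 𝒳.obj} (ha : 𝒳.p.obj a = U) (hb : 𝒳.p.obj b = U)
    (P : ∀ ⦃s : 𝒳.obj⦄, (s ⟶ a) → (s ⟶ b) → Prop)
    (hres : ∀ ⦃s t : 𝒳.obj⦄ (k : s ⟶ t) (ψ : t ⟶ a) (χ : t ⟶ b), P ψ χ → P (k ≫ ψ) (k ≫ χ))
    (hex : ∀ ⦃V : C⦄ (f : V ⟶ U), R f → ∀ ⦃s : 𝒳.obj⦄ (ψ : s ⟶ a), 𝒳.p.IsHomLift f ψ →
      ∃ χ : s ⟶ b, 𝒳.p.IsHomLift f χ ∧ P ψ χ)
    (huniq : ∀ ⦃V : C⦄ (f : V ⟶ U), R f → ∀ ⦃s : 𝒳.obj⦄ (ψ : s ⟶ a) (χ χ' : s ⟶ b),
      𝒳.p.IsHomLift f ψ → 𝒳.p.IsHomLift f χ → 𝒳.p.IsHomLift f χ' → P ψ χ → P ψ χ' → χ = χ') :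
    ∃ α : a ⟶ b, 𝒳.p.IsHomLift (𝟙 U) α ∧
      ∀ ⦃V : C⦄ (f : V ⟶ U), R f → ∀ ⦃s : 𝒳.obj⦄ (ψ : s ⟶ a), 𝒳.p.IsHomLift f ψ → P ψ (ψ ≫ α) := by
  have := isFibered_of_fibGrpd h.1
  obtain ⟨G, e, -, he⟩ := exists_fromOver ha
  obtain ⟨H, d, hH, hd⟩ := exists_fromOver hb
  have := IsHomLift.lift_id_inv 𝒳.p U e
  let ψ₀ : ∀ c : (sieveCat R).obj, G.obj ((sieveIncl R).obj c) ⟶ a :=
    fun c => G.map (toTop c.obj) ≫ e.hom
  have hψ₀ : ∀ c : (sieveCat R).obj, 𝒳.p.IsHomLift c.obj.hom (ψ₀ c) := fun c =>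
    have := over_map_toTop_lift G c.obj
    IsHomLift.comp_lift_id_right' 𝒳.p c.obj.hom (G.map (toTop c.obj)) U e.hom
  let π₀ : ∀ c : (sieveCat R).obj, H.obj ((sieveIncl R).obj c) ⟶ b :=
    fun c => H.map (toTop c.obj) ≫ d.hom
  have hπ₀ : ∀ c : (sieveCat R).obj, 𝒳.p.IsHomLift c.obj.hom (π₀ c) := fun c =>
    have := over_map_toTop_lift H c.obj
    IsHomLift.comp_lift_id_right' 𝒳.p c.obj.hom (H.map (toTop c.obj)) U d.hom
  choose χ₀ hχ₀ hPχ₀ using fun c : (sieveCat R).obj => hex c.obj.hom c.property (ψ₀ c) (hψ₀ c)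
  have hη : ∀ c : (sieveCat R).obj, ∃ η : G.obj ((sieveIncl R).obj c) ⟶ H.obj ((sieveIncl R).obj c),
      𝒳.p.IsHomLift (𝟙 c.obj.left) η ∧ η ≫ π₀ c = χ₀ c := fun c => by
    have := hχ₀ c
    have := hπ₀ c
    have := sc_of_fibGrpd h.1 c.obj.hom (π₀ c)
    exact ⟨IsCartesian.map 𝒳.p c.obj.hom (π₀ c) (χ₀ c), inferInstance, IsCartesian.fac _ _ _ _⟩
  choose η hηl hηe using hη
  let μ : (resSieve R 𝒳).obj G ⟶ (resSieve R 𝒳).obj H :=
    { toNatTrans :=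
        { app := η
          naturality := fun c c' m => by
            have hw : m.hom.left ≫ c'.obj.hom = c.obj.hom := Over.w m.hom
            have hm : (sieveCat R).p.IsHomLift m.hom.left m := IsHomLift.map (sieveCat R).p m
            have e1 : ((resSieve R 𝒳).obj G).map m ≫ ψ₀ c' = ψ₀ c := by
              change G.map m.hom ≫ G.map (toTop c'.obj) ≫ e.hom = G.map (toTop c.obj) ≫ e.hom
              rw [← Category.assoc, ← G.toFunctor.map_comp, toTop_comp]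
            have e2 : ((resSieve R 𝒳).obj H).map m ≫ π₀ c' = π₀ c := by
              change H.map m.hom ≫ H.map (toTop c'.obj) ≫ d.hom = H.map (toTop c.obj) ≫ d.hom
              rw [← Category.assoc, ← H.toFunctor.map_comp, toTop_comp]
            have := hχ₀ c'
            have hl : 𝒳.p.IsHomLift c.obj.hom (((resSieve R 𝒳).obj G).map m ≫ χ₀ c') := by
              rw [← hw]; infer_instance
            have hc : ((resSieve R 𝒳).obj G).map m ≫ χ₀ c' = χ₀ c :=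
              huniq c.obj.hom c.property (ψ₀ c) _ _ (hψ₀ c) hl (hχ₀ c)
                (e1 ▸ hres _ _ _ (hPχ₀ c')) (hPχ₀ c)
            have := hπ₀ c'
            have := sc_of_fibGrpd h.1 c'.obj.hom (π₀ c')
            have := hηl c
            have := hηl c'
            have : 𝒳.p.IsHomLift m.hom.left (((resSieve R 𝒳).obj G).map m ≫ η c') :=
              IsHomLift.comp_lift_id_right' 𝒳.p m.hom.left _ c'.obj.left (η c')
            have : 𝒳.p.IsHomLift m.hom.left (η c ≫ ((resSieve R 𝒳).obj H).map m) :=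
              IsHomLift.comp_lift_id_left' 𝒳.p c.obj.left (η c) m.hom.left _
            apply IsStronglyCartesian.ext 𝒳.p c'.obj.hom (π₀ c') m.hom.left
            rw [Category.assoc, Category.assoc, hηe, hc, e2, hηe] }
      isHomLift' := hηl }
  obtain ⟨_, _⟩ := h.2 R hR
  obtain ⟨γ, hγ⟩ := (resSieve R 𝒳).map_surjective μ
  have hγ1 : 𝒳.p.IsHomLift (𝟙 U) (app γ (topObj U)) := BasedNatTrans.isHomLift γ rfl
  refine ⟨e.inv ≫ app γ (topObj U) ≫ d.hom, homLift_id_comp ‹_› (homLift_id_comp hγ1 hd),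
    fun V f hf s ψ hψ => ?_⟩
  let c : (sieveCat R).obj := ⟨Over.mk f, hf⟩
  have : 𝒳.p.IsHomLift f (ψ₀ c) := hψ₀ c
  obtain ⟨i, -, hi⟩ := exists_vertIso h.1 f ψ (ψ₀ c)
  have key : ψ₀ c ≫ e.inv ≫ app γ (topObj U) ≫ d.hom = χ₀ c := by
    have c1 : app γ ((sieveIncl R).obj c) = η c := congrArg (fun t => app t c) hγ
    have n1 : G.map (toTop c.obj) ≫ app γ (topObj U) =
        app γ ((sieveIncl R).obj c) ≫ H.map (toTop c.obj) := γ.toNatTrans.naturality (toTop c.obj)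
    change (G.map (toTop c.obj) ≫ e.hom) ≫ _ = _
    rw [Category.assoc, Iso.hom_inv_id_assoc, reassoc_of% n1, c1]
    exact hηe c
  rw [← hi, Category.assoc, key]
  exact hres _ _ _ (hPχ₀ c)

end Groth.Agent.H14Stk
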