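import Groth.Prelude.Def_StGerb
import Groth.Agent.H14Stk.Glue
import Groth.Agent.H14Stk.Fibre
import Groth.Agent.H14Fib.FpMap

/-!
# Gerbes: composition, base change, descent and invariance
-/

set_option autoImplicit false
set_option backward.isDefEq.respectTransparency false
set_option backward.isDefEq.respectTransparency.types false

universe v₅ u₅ v₄ u₄ v₃ u₃ v₂ u₂ v u

open CategoryTheory CategoryTheory.Functor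

namespace Groth.Agent.H14Stk

open H14Fib Stk Gerb

variable {C : Type u} [Category.{v} C] {J : GrothendieckTopology C}

section Basic

variable {𝒳 : BasedCategory.{v₂, u₂} C} {𝒴 : BasedCategory.{v₃, u₃} C} {F : 𝒳 ⥤ᵇ 𝒴}

lemma locObj_at (h : LocSurjObj J F) (y : 𝒴.obj) {U : C} (hy : 𝒴.p.obj y = U) :
    Locally J U (fun _ f => ∃ (x : 𝒳.obj) (g : F.obj x ⟶ y), 𝒴.p.IsHomLift f g) := by
  subst hy; exact h y

lemma locHom_at (h : LocSurjHom J F) {x x' : 𝒳.obj} (b : F.obj x ⟶ F.obj x') {U : C}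
    (hx : 𝒳.p.obj x = U) [hb : 𝒴.p.IsHomLift (𝟙 U) b] :
    Locally J U (fun _ f => ∃ (x₀ : 𝒳.obj) (φ : x₀ ⟶ x) (ψ : x₀ ⟶ x'),
      𝒳.p.IsHomLift f φ ∧ 𝒳.p.IsHomLift f ψ ∧ F.map φ ≫ b = F.map ψ) := by
  subst hx; exact h x x' b hb

lemma obj_over_of_lift {x : 𝒳.obj} {y : 𝒴.obj} {V U : C} {f : V ⟶ U} (g : F.obj x ⟶ y)
    [𝒴.p.IsHomLift f g] : 𝒳.p.obj x = V :=
  (F.w_obj x).symm.trans (IsHomLift.domain_eq 𝒴.p f g)

lemma lift_snd_obj {x : 𝒳.obj} {x' : 𝒳.obj} {U : C} (hx : 𝒳.p.obj x = U) (b : F.obj x ⟶ F.obj x')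
    [𝒴.p.IsHomLift (𝟙 U) b] : 𝒳.p.obj x' = U :=
  (F.w_obj x').symm.trans (IsHomLift.codomain_eq 𝒴.p (𝟙 U) b)

end Basic

section Comp

variable {𝒳 : BasedCategory.{v₂, u₂} C} {𝒴 : BasedCategory.{v₃, u₃} C}
  {𝒵 : BasedCategory.{v₄, u₄} C} (F : 𝒳 ⥤ᵇ 𝒴) (G : 𝒴 ⥤ᵇ 𝒵)

lemma locSurjObj_comp (hF : LocSurjObj J F) (hG : LocSurjObj J G) :
    LocSurjObj J (BasedFunctor.comp F G) := fun z =>
  Locally.bind (hG z) fun V f ⟨y, g, hg⟩ =>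
    (locObj_at hF y (obj_over_of_lift (f := f) g)).mono fun W h ⟨x, g', hg'⟩ =>
      ⟨x, G.map g' ≫ g, inferInstanceAs (𝒵.p.IsHomLift (h ≫ f) (G.map g' ≫ g))⟩

lemma locSurjHom_comp (h𝒳 : FibCat.IsFibGrpd 𝒳.p) (h𝒴 : FibCat.IsFibGrpd 𝒴.p)
    (hF : IsGerbeOver J F) (hG : IsGerbeOver J G) : LocSurjHom J (BasedFunctor.comp F G) := by
  intro x x' b hb
  have hb' : 𝒵.p.IsHomLift (𝟙 (𝒳.p.obj x)) (b : G.obj (F.obj x) ⟶ G.obj (F.obj x')) := hb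
  have hx' : 𝒳.p.obj x' = 𝒳.p.obj x := lift_snd_obj (F := BasedFunctor.comp F G) rfl b
  refine Locally.bind (locHom_at (F := G) hG.2 (x := F.obj x) (x' := F.obj x') b (F.w_obj x)) ?_
  rintro V f ⟨y₀, φ, ψ, hφ, hψ, e⟩
  obtain ⟨x₁, χ, hχ⟩ := exists_sc_lift h𝒳 (a := x) rfl f
  obtain ⟨x₁', χ', hχ'⟩ := exists_sc_lift h𝒳 (a := x') hx' f
  obtain ⟨i, hi, hi'⟩ := exists_vertIso h𝒴 f (F.map χ) φ
  obtain ⟨i', hi₁, hi₁'⟩ := exists_vertIso h𝒴 f (F.map χ') ψ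
  have := IsHomLift.lift_id_inv 𝒴.p V i'
  have : 𝒴.p.IsHomLift (𝟙 V) (i.hom ≫ i'.inv) := homLift_id_comp hi this
  refine (locHom_at hF.2 (i.hom ≫ i'.inv) (IsHomLift.domain_eq 𝒳.p f χ)).mono ?_
  rintro W g ⟨x₀, φ₀, ψ₀, hφ₀, hψ₀, e₀⟩
  refine ⟨x₀, φ₀ ≫ χ, ψ₀ ≫ χ', inferInstance, inferInstance, ?_⟩
  change G.map (F.map (φ₀ ≫ χ)) ≫ b = G.map (F.map (ψ₀ ≫ χ'))
  rw [F.toFunctor.map_comp, F.toFunctor.map_comp, ← e₀, ← hi', G.toFunctor.map_comp,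
    G.toFunctor.map_comp, Category.assoc, Category.assoc, e, ← G.toFunctor.map_comp,
    ← G.toFunctor.map_comp]
  congr 1
  rw [Category.assoc, Category.assoc, ← hi₁', Iso.inv_hom_id_assoc]

lemma isGerbeOver_comp (h𝒳 : FibCat.IsFibGrpd 𝒳.p) (h𝒴 : FibCat.IsFibGrpd 𝒴.p)
    (hF : IsGerbeOver J F) (hG : IsGerbeOver J G) : IsGerbeOver J (BasedFunctor.comp F G) :=
  ⟨locSurjObj_comp F G hF.1 hG.1, locSurjHom_comp F G h𝒳 h𝒴 hF hG⟩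

lemma isGerbeOver_of_isEquivOver (h𝒳 : FibCat.IsFibGrpd 𝒳.p) (hF : FibCat.IsEquivOver F) :
    IsGerbeOver J F := by
  refine ⟨fun y => Locally.of_forall fun V f => ?_, fun x x' b hb => Locally.of_forall fun V f => ?_⟩
  · obtain ⟨ξ, e, he⟩ := essSurjOver_of_isEquivOver hF y
    obtain ⟨a, φ, hφ⟩ := exists_sc_lift h𝒳 (a := ξ) (EssSurjOver.obj_eq e.hom) f
    exact ⟨a, F.map φ ≫ e.hom, IsHomLift.comp_lift_id_right' 𝒴.p f (F.map φ) (𝒴.p.obj y) e.hom⟩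
  · obtain ⟨⟨_, _⟩, -⟩ := (isEquivOver_iff F).1 hF
    obtain ⟨β, rfl⟩ := F.toFunctor.map_surjective b
    have : 𝒳.p.IsHomLift (𝟙 (𝒳.p.obj x)) β := (BasedFunctor.isHomLift_iff F _ β).1 hb
    obtain ⟨a, φ, hφ⟩ := exists_sc_lift h𝒳 (a := x) rfl f
    exact ⟨a, φ, φ ≫ β, inferInstance,
      IsHomLift.comp_lift_id_right' 𝒳.p f φ (𝒳.p.obj x) β, (F.toFunctor.map_comp φ β).symm⟩

lemma locSurjObj_of_comp (hFG : LocSurjObj J (BasedFunctor.comp F G)) : LocSurjObj J G := fun z =>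
  Locally.mono (hFG z) fun _ _ ⟨x, g, hg⟩ => ⟨F.obj x, g, hg⟩

lemma isGerbeOver_of_comp_equiv (h𝒳 : FibCat.IsFibGrpd 𝒳.p) (h𝒴 : FibCat.IsFibGrpd 𝒴.p)
    (hF : FibCat.IsEquivOver F) (hFG : IsGerbeOver J (BasedFunctor.comp F G)) :
    IsGerbeOver J G := by
  refine ⟨locSurjObj_of_comp F G hFG.1, fun y y' b hb => ?_⟩
  obtain ⟨ξ, d, hd⟩ := essSurjOver_of_isEquivOver hF y
  obtain ⟨ξ', d', hd'⟩ := essSurjOver_of_isEquivOver hF y'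
  have hy' : 𝒴.p.obj y' = 𝒴.p.obj y := lift_snd_obj (F := G) rfl b
  rw [hy'] at hd'
  have hξ : 𝒳.p.obj ξ = 𝒴.p.obj y := EssSurjOver.obj_eq d.hom
  have := IsHomLift.lift_id_inv 𝒴.p (𝒴.p.obj y) d'
  have : 𝒵.p.IsHomLift (𝟙 (𝒴.p.obj y))
      (G.map d.hom ≫ b ≫ G.map d'.inv : (BasedFunctor.comp F G).obj ξ ⟶ (BasedFunctor.comp F G).obj ξ') :=
    homLift_id_comp inferInstance (homLift_id_comp hb inferInstance)
  refine (locHom_at hFG.2 (x := ξ) (x' := ξ') (G.map d.hom ≫ b ≫ G.map d'.inv) hξ).mono ?_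
  rintro V f ⟨x₀, φ, ψ, hφ, hψ, e⟩
  refine ⟨F.obj x₀, F.map φ ≫ d.hom, F.map ψ ≫ d'.hom,
    IsHomLift.comp_lift_id_right' 𝒴.p f (F.map φ) (𝒴.p.obj y) d.hom,
    IsHomLift.comp_lift_id_right' 𝒴.p f (F.map ψ) (𝒴.p.obj y) d'.hom, ?_⟩
  change G.map (F.map φ) ≫ G.map d.hom ≫ b ≫ G.map d'.inv = G.map (F.map ψ) at e
  rw [G.toFunctor.map_comp, G.toFunctor.map_comp, ← e, Category.assoc, Category.assoc,
    Category.assoc, Category.assoc, ← G.toFunctor.map_comp, d'.inv_hom_id]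
  exact congrArg (G.map (F.map φ) ≫ G.map d.hom ≫ ·)
    ((Category.comp_id b).symm.trans (congrArg (b ≫ ·) (G.toFunctor.map_id _).symm))

lemma isGerbeOver_of_iso {F' : 𝒳 ⥤ᵇ 𝒴} (e : F ≅ F') (h : IsGerbeOver J F) : IsGerbeOver J F' := by
  refine ⟨fun y => Locally.mono (h.1 y) fun V f ⟨x, g, hg⟩ => ?_, fun x x' b hb => ?_⟩
  · have : 𝒴.p.IsHomLift (𝟙 V) (isoApp e x).inv :=
      BasedNatTrans.isHomLift e.inv (obj_over_of_lift (f := f) g)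
    exact ⟨x, (isoApp e x).inv ≫ g, IsHomLift.comp_lift_id_left' 𝒴.p V _ f g⟩
  · have hx' : 𝒳.p.obj x' = 𝒳.p.obj x := lift_snd_obj rfl b
    have h1 : 𝒴.p.IsHomLift (𝟙 (𝒳.p.obj x)) (isoApp e x).hom := BasedNatTrans.isHomLift e.hom rfl
    have h2 : 𝒴.p.IsHomLift (𝟙 (𝒳.p.obj x)) (isoApp e x').inv := BasedNatTrans.isHomLift e.inv hx'
    have := homLift_id_comp h1 (homLift_id_comp hb h2)
    refine (locHom_at h.2 ((isoApp e x).hom ≫ b ≫ (isoApp e x').inv) rfl).mono ?_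
    rintro V f ⟨x₀, φ, ψ, hφ, hψ, e₀⟩
    refine ⟨x₀, φ, ψ, hφ, hψ, ?_⟩
    have n1 : F.map φ ≫ (isoApp e x).hom = (isoApp e x₀).hom ≫ F'.map φ :=
      e.hom.toNatTrans.naturality φ
    have n2 : F.map ψ ≫ (isoApp e x').hom = (isoApp e x₀).hom ≫ F'.map ψ :=
      e.hom.toNatTrans.naturality ψ
    rw [← cancel_epi (isoApp e x₀).hom, ← reassoc_of% n1, ← n2, ← e₀, Category.assoc,
      Category.assoc, Category.assoc, Iso.inv_hom_id, Category.comp_id]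

end Comp

section BaseChange

variable {𝒳 : BasedCategory.{v₂, u₂} C} {𝒴 : BasedCategory.{v₃, u₃} C}
  {𝒴' : BasedCategory.{v₄, u₄} C} (g : 𝒴' ⥤ᵇ 𝒴) (f : 𝒳 ⥤ᵇ 𝒴)

lemma isGerbeOver_fpFst (h𝒴 : FibCat.IsFibGrpd 𝒴.p) (h𝒴' : FibCat.IsFibGrpd 𝒴'.p)
    (hf : IsGerbeOver J f) : IsGerbeOver J (FibCat.fpFst g f) := by
  constructor
  · intro y'
    refine (locObj_at hf.1 (g.obj y') (g.w_obj y')).mono ?_
    rintro V h ⟨x, m, hm⟩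
    obtain ⟨y₁, χ, hχ⟩ := exists_sc_lift h𝒴' (a := y') rfl h
    obtain ⟨i, hi, -⟩ := exists_vertIso h𝒴 h (g.map χ) m
    exact ⟨fpObj y₁ x i (IsHomLift.domain_eq 𝒴'.p h χ) hi, χ, hχ.toIsHomLift⟩
  · intro z z' b hb
    have hb1 : 𝒴'.p.IsHomLift (𝟙 (𝒴'.p.obj z.obj.fst)) (b : z.obj.fst ⟶ z'.obj.fst) := hb
    have hz' : 𝒴'.p.obj z'.obj.fst = 𝒴'.p.obj z.obj.fst :=
      IsHomLift.codomain_eq 𝒴'.p (𝟙 (𝒴'.p.obj z.obj.fst)) (b : z.obj.fst ⟶ z'.obj.fst)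
    have i1 : 𝒴.p.IsHomLift (𝟙 (𝒴'.p.obj z.obj.fst)) z.obj.iso.hom := z.property
    have := IsHomLift.lift_id_inv 𝒴.p (𝒴'.p.obj z.obj.fst) z.obj.iso
    have i2 : 𝒴.p.IsHomLift (𝟙 (𝒴'.p.obj z.obj.fst)) z'.obj.iso.hom := fp_iso_isHomLift z' hz'
    have i3 : 𝒴.p.IsHomLift (𝟙 (𝒴'.p.obj z.obj.fst)) (g.map (b : z.obj.fst ⟶ z'.obj.fst)) :=
      BasedFunctor.preserves_isHomLift g _ _
    have := homLift_id_comp this (homLift_id_comp i3 i2)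
    refine (locHom_at hf.2 (U := 𝒴'.p.obj z.obj.fst) (z.obj.iso.inv ≫ g.map (b : z.obj.fst ⟶ z'.obj.fst) ≫ z'.obj.iso.hom)
      (fp_snd_obj z)).mono ?_
    rintro V h ⟨x₀, φ, ψ, hφ, hψ, e⟩
    obtain ⟨a₀, χ, hχ⟩ := exists_sc_lift h𝒴' (a := z.obj.fst) rfl h
    have hl : 𝒴.p.IsHomLift h (g.map χ ≫ z.obj.iso.hom) :=
      IsHomLift.comp_lift_id_right' 𝒴.p h (g.map χ) (𝒴'.p.obj z.obj.fst) z.obj.iso.hom
    obtain ⟨i₀, hi₀, hi₀'⟩ := exists_vertIso h𝒴 h (g.map χ ≫ z.obj.iso.hom) (f.map φ)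
    let z₀ : (FibCat.fp g f).obj := fpObj a₀ x₀
      { hom := i₀.hom, inv := i₀.inv } (IsHomLift.domain_eq 𝒴'.p h χ) hi₀
    let Φ : z₀ ⟶ z := fpHom χ φ hi₀'.symm
    let Ψ : z₀ ⟶ z' := fpHom (χ ≫ (b : z.obj.fst ⟶ z'.obj.fst)) ψ (by
      change g.map (χ ≫ (b : z.obj.fst ⟶ z'.obj.fst)) ≫ z'.obj.iso.hom = i₀.hom ≫ f.map ψ
      rw [← e, reassoc_of% hi₀', g.toFunctor.map_comp, Iso.hom_inv_id_assoc]
      exact Category.assoc _ _ _)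
    exact ⟨z₀, Φ, Ψ, (fp_isHomLift_iff _ _).2 hχ.toIsHomLift,
      (fp_isHomLift_iff _ _).2
        (IsHomLift.comp_lift_id_right' 𝒴'.p h χ (𝒴'.p.obj z.obj.fst) (b : z.obj.fst ⟶ z'.obj.fst)), rfl⟩

lemma isGerbeOver_of_fpFst (h𝒳 : FibCat.IsFibGrpd 𝒳.p) (h𝒴 : FibCat.IsFibGrpd 𝒴.p)
    (h𝒴' : FibCat.IsFibGrpd 𝒴'.p) (hg : LocSurjObj J g)
    (h : IsGerbeOver J (FibCat.fpFst g f)) : IsGerbeOver J f := by
  constructor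
  · intro y
    refine Locally.bind (hg y) fun V h₁ ⟨y', m, hm⟩ => ?_
    refine (locObj_at h.1 y' (obj_over_of_lift (f := h₁) m)).mono fun W h₂ ⟨z, n, hn⟩ => ?_
    have hn' : 𝒴'.p.IsHomLift h₂ (n : z.obj.fst ⟶ y') := hn
    have hz : 𝒴'.p.obj z.obj.fst = W := IsHomLift.domain_eq 𝒴'.p h₂ (n : z.obj.fst ⟶ y')
    have := fp_iso_isHomLift z hz
    have := IsHomLift.lift_id_inv 𝒴.p W z.obj.iso
    have h3 : 𝒴.p.IsHomLift (h₂ ≫ h₁) (g.map (n : z.obj.fst ⟶ y') ≫ m) := inferInstance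
    exact ⟨z.obj.snd, z.obj.iso.inv ≫ g.map (n : z.obj.fst ⟶ y') ≫ m,
      IsHomLift.comp_lift_id_left' 𝒴.p W z.obj.iso.inv (h₂ ≫ h₁) _⟩
  · intro x x' b hb
    have hx' : 𝒳.p.obj x' = 𝒳.p.obj x := lift_snd_obj rfl b
    refine Locally.bind (locObj_at hg (f.obj x) (f.w_obj x)) fun V h₁ ⟨a, m, hm⟩ => ?_
    obtain ⟨x₁, χ, hχ⟩ := exists_sc_lift h𝒳 (a := x) rfl h₁
    obtain ⟨x₁', χ', hχ'⟩ := exists_sc_lift h𝒳 (a := x') hx' h₁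
    obtain ⟨d, hd, -⟩ := exists_vertIso h𝒴 h₁ m (f.map χ)
    have : 𝒴.p.IsHomLift h₁ (f.map χ ≫ b) :=
      IsHomLift.comp_lift_id_right' 𝒴.p h₁ (f.map χ) (𝒳.p.obj x) b
    obtain ⟨b₁, hb₁, hb₁'⟩ := exists_vertIso h𝒴 h₁ (f.map χ ≫ b) (f.map χ')
    have ha : 𝒴'.p.obj a = V := obj_over_of_lift (f := h₁) m
    let z : (FibCat.fp g f).obj := fpObj a x₁ d ha hd
    let z' : (FibCat.fp g f).obj := fpObj a x₁' (d ≪≫ b₁) ha (homLift_id_comp hd hb₁)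
    have hid : 𝒴'.p.IsHomLift (𝟙 V)
        (𝟙 a : (FibCat.fpFst g f).obj z ⟶ (FibCat.fpFst g f).obj z') := IsHomLift.id ha
    refine (locHom_at h.2 (x := z) (x' := z')
      (𝟙 a : (FibCat.fpFst g f).obj z ⟶ (FibCat.fpFst g f).obj z') ha).mono ?_
    rintro W h₂ ⟨z₀, Φ, Ψ, hΦ, hΨ, e⟩
    have e' : Φ.hom.fst = Ψ.hom.fst := (Category.comp_id _).symm.trans e
    have w1 : g.map Φ.hom.fst ≫ d.hom = z₀.obj.iso.hom ≫ f.map Φ.hom.snd := Φ.hom.w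
    have w2 : g.map Ψ.hom.fst ≫ d.hom ≫ b₁.hom = z₀.obj.iso.hom ≫ f.map Ψ.hom.snd := Ψ.hom.w
    have key : f.map Φ.hom.snd ≫ b₁.hom = f.map Ψ.hom.snd := by
      rw [← cancel_epi z₀.obj.iso.hom, ← reassoc_of% w1, e', w2]
    have : 𝒳.p.IsHomLift h₂ Φ.hom.snd := fp_isHomLift_snd' h₂ Φ
    have : 𝒳.p.IsHomLift h₂ Ψ.hom.snd := fp_isHomLift_snd' h₂ Ψ
    refine ⟨z₀.obj.snd, Φ.hom.snd ≫ χ, Ψ.hom.snd ≫ χ',
      inferInstanceAs (𝒳.p.IsHomLift (h₂ ≫ h₁) (Φ.hom.snd ≫ χ)),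
      inferInstanceAs (𝒳.p.IsHomLift (h₂ ≫ h₁) (Ψ.hom.snd ≫ χ')), ?_⟩
    rw [f.toFunctor.map_comp, f.toFunctor.map_comp, Category.assoc, ← hb₁', reassoc_of% key]

end BaseChange

section Gerbe

variable {𝒳 : BasedCategory.{v₂, u₂} C} {𝒴 : BasedCategory.{v₂, u₂} C}

lemma comp_toSelf (F : 𝒳 ⥤ᵇ 𝒴) :
    BasedFunctor.comp F (FibCat.toSelf 𝒴) = FibCat.toSelf 𝒳 := by
  have h : (BasedFunctor.comp F (FibCat.toSelf 𝒴)).toFunctor = (FibCat.toSelf 𝒳).toFunctor := F.w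
  revert h
  generalize BasedFunctor.comp F (FibCat.toSelf 𝒴) = A
  generalize FibCat.toSelf 𝒳 = B
  intro h
  cases A; cases B; cases h; rfl

lemma isGerbe_iff (F : 𝒳 ⥤ᵇ 𝒴) (hF : FibCat.IsEquivOver F) : IsGerbe J 𝒳 ↔ IsGerbe J 𝒴 := by
  constructor
  · rintro ⟨h1, h2⟩
    have h1' := (isStack_iff J hF).1 h1
    refine ⟨h1', isGerbeOver_of_comp_equiv F (FibCat.toSelf 𝒴) h1.1 h1'.1 hF ?_⟩
    rwa [comp_toSelf]
  · rintro ⟨h1, h2⟩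
    have h1' := (isStack_iff J hF).2 h1
    refine ⟨h1', ?_⟩
    rw [← comp_toSelf F]
    exact isGerbeOver_comp F _ h1'.1 h1.1 (isGerbeOver_of_isEquivOver F h1'.1 hF) h2

end Gerbe

section Relative

variable {𝒳 : BasedCategory.{v₂, u₂} C} {𝒴 : BasedCategory.{v₃, u₃} C} (F : 𝒳 ⥤ᵇ 𝒴)

lemma restr_lift_of_vert (hF : FibCat.IsFibGrpd F.toFunctor) (h𝒴 : FibCat.IsFibGrpd 𝒴.p)
    {y z : 𝒴.obj} (φ : z ⟶ y) {V U : C} (f : V ⟶ U) [𝒴.p.IsHomLift f φ] {x : 𝒳.obj}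
    (g : F.obj x ⟶ y) [𝒴.p.IsHomLift f g] :
    ∃ (x'' : 𝒳.obj) (κ : x'' ⟶ x) (hz : F.obj x'' = z), F.map κ ≫ g = eqToHom hz ≫ φ := by
  obtain ⟨i, -, hi⟩ := exists_vertIso h𝒴 f φ g
  obtain ⟨x'', κ, hκ⟩ := exists_sc_lift hF (a := x) rfl i.hom
  refine ⟨x'', κ, IsHomLift.domain_eq F.toFunctor i.hom κ, ?_⟩
  have e : F.map κ = eqToHom (IsHomLift.domain_eq F.toFunctor i.hom κ) ≫ i.hom := by
    simpa using IsHomLift.fac' F.toFunctor i.hom κ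
  rw [e, Category.assoc, hi]

lemma isGerbeOver_toSelf_restricted (hF : FibCat.IsFibGrpd F.toFunctor) (h𝒴 : FibCat.IsFibGrpd 𝒴.p)
    (h : IsGerbeOver J F) :
    IsGerbeOver (𝒴.p.restrictedTopology J) (FibCat.toSelf (BasedCategory.ofFunctor F.toFunctor)) := by
  constructor
  · intro y
    obtain ⟨R, hR, hloc⟩ := h.1 y
    refine ⟨Sieve.functorPullback 𝒴.p R, (mem_restricted_iff h𝒴 J _).2 (J.superset_covering ?_ hR), ?_⟩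
    · intro V g hg
      obtain ⟨z, χ, hχ⟩ := exists_sc_lift h𝒴 (a := y) rfl g
      refine (push_apply_iff h𝒴 _ χ).2 ?_
      change R (𝒴.p.map χ)
      rw [IsHomLift.fac' 𝒴.p g χ]
      simpa using R.downward_closed hg (eqToHom (IsHomLift.domain_eq 𝒴.p g χ))
    · intro z φ hφ
      obtain ⟨x, g, hg⟩ := hloc (𝒴.p.map φ) hφ
      have : 𝒴.p.IsHomLift (𝒴.p.map φ) φ := IsHomLift.map 𝒴.p φ
      obtain ⟨x'', κ, hz, -⟩ := restr_lift_of_vert F hF h𝒴 φ (𝒴.p.map φ) g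
      exact ⟨x'', eqToHom hz ≫ φ, IsHomLift.of_fac' (FibCat.selfOver 𝒴.obj).p φ _ hz rfl (by
        change eqToHom hz ≫ φ = eqToHom hz ≫ φ ≫ 𝟙 y
        exact congrArg (eqToHom hz ≫ ·) (Category.comp_id φ).symm)⟩
  · intro x x' b hb
    let b' : F.obj x ⟶ F.obj x' := b
    have hb1 : (FibCat.selfOver 𝒴.obj).p.IsHomLift (𝟙 (F.obj x)) b := hb
    have hxx : F.obj x' = F.obj x :=
      IsHomLift.codomain_eq (FibCat.selfOver 𝒴.obj).p (𝟙 (F.obj x)) b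
    have hb2 : b' = eqToHom hxx.symm := by
      refine (IsHomLift.fac' (FibCat.selfOver 𝒴.obj).p (𝟙 (F.obj x)) b :).trans ?_
      change 𝟙 (F.obj x) ≫ 𝟙 (F.obj x) ≫ eqToHom hxx.symm = _
      rw [Category.id_comp, Category.id_comp]
    have : 𝒴.p.IsHomLift (𝟙 (𝒳.p.obj x)) b' := by
      rw [hb2]; exact IsHomLift.eqToHom_domain_lift_id hxx.symm (F.w_obj x)
    obtain ⟨R, hR, hloc⟩ := locHom_at h.2 (U := 𝒳.p.obj x) b' rfl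
    refine ⟨Sieve.functorPullback 𝒴.p (R.pullback (eqToHom (F.w_obj x))),
      (mem_restricted_iff h𝒴 J _).2 (J.superset_covering ?_ (J.pullback_stable (eqToHom (F.w_obj x)) hR)), ?_⟩
    · intro V g hg
      obtain ⟨z, χ, hχ⟩ := exists_sc_lift h𝒴 (a := F.obj x) rfl g
      refine (push_apply_iff h𝒴 _ χ).2 ?_
      change (R.pullback _) (𝒴.p.map χ)
      rw [IsHomLift.fac' 𝒴.p g χ]
      simpa using (R.pullback _).downward_closed hg (eqToHom (IsHomLift.domain_eq 𝒴.p g χ))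
    · intro z φ hφ
      obtain ⟨x₀, φ₀, ψ₀, hφ₀, hψ₀, e⟩ := hloc (𝒴.p.map φ ≫ eqToHom (F.w_obj x)) hφ
      have : 𝒴.p.IsHomLift (𝒴.p.map φ ≫ eqToHom (F.w_obj x)) φ :=
        (IsHomLift.lift_comp_eqToHom_iff (p := 𝒴.p) _ φ (F.w_obj x)).2 (IsHomLift.map 𝒴.p φ)
      obtain ⟨x'', κ, hz, hκ⟩ :=
        restr_lift_of_vert F hF h𝒴 φ (𝒴.p.map φ ≫ eqToHom (F.w_obj x)) (F.map φ₀)
      refine ⟨x'', κ ≫ φ₀, κ ≫ ψ₀, ?_, ?_, ?_⟩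
      · refine IsHomLift.of_fac' F.toFunctor φ _ hz rfl ?_
        change F.map (κ ≫ φ₀) = _
        rw [F.toFunctor.map_comp, hκ]
        simp
      · refine IsHomLift.of_fac' F.toFunctor φ _ hz hxx ?_
        change F.map (κ ≫ ψ₀) = _
        rw [F.toFunctor.map_comp, ← e, reassoc_of% hκ, hb2]
      · change F.map (κ ≫ φ₀) ≫ b' = F.map (κ ≫ ψ₀)
        rw [F.toFunctor.map_comp, F.toFunctor.map_comp, Category.assoc, e]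

end Relative

end Groth.Agent.H14Stk
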