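import Groth.Agent.H14Stk.Basic
import Groth.Agent.H14Fib.Yoneda

/-!
# Local-to-global arguments for stacks in groupoids
-/

set_option autoImplicit false
set_option backward.isDefEq.respectTransparency false
set_option backward.isDefEq.respectTransparency.types false

universe v₃ u₃ v₂ u₂ v u

open CategoryTheory CategoryTheory.Functor

namespace Groth.Agent.H14Stk

open H14Fib Stk

variable {C : Type u} [Category.{v} C]

section Vert

variable {𝒳 : Type u₂} [Category.{v₂} 𝒳] {p : 𝒳 ⥤ C}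

/-- Two lifts of the same morphism with the same target differ by a vertical isomorphism. -/
lemma exists_vertIso (hp : FibCat.IsFibGrpd p) {R S : C} (f : R ⟶ S) {a b c : 𝒳} (φ : a ⟶ c)
    (ψ : b ⟶ c) [p.IsHomLift f φ] [p.IsHomLift f ψ] :
    ∃ e : a ≅ b, p.IsHomLift (𝟙 R) e.hom ∧ e.hom ≫ ψ = φ := by
  have := sc_of_fibGrpd hp f ψ
  let χ := IsCartesian.map p f ψ φ
  have := isIso_of_fibGrpd hp (𝟙 R) χ
  exact ⟨asIso χ, inferInstanceAs (p.IsHomLift (𝟙 R) χ), IsCartesian.fac p f ψ φ⟩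

end Vert

variable {𝒳 : BasedCategory.{v₂, u₂} C} {𝒴 : BasedCategory.{v₃, u₃} C}

/-- Every object of the target is locally in the image. -/
def LocEssSurj (J : GrothendieckTopology C) (F : 𝒳 ⥤ᵇ 𝒴) : Prop :=
  ∀ y : 𝒴.obj, ∃ R ∈ J (𝒴.p.obj y), ∀ ⦃V : C⦄ (f : V ⟶ 𝒴.p.obj y), R f →
    ∃ (x : 𝒳.obj) (φ : F.obj x ⟶ y), 𝒴.p.IsHomLift f φ

lemma over_map_toTop_lift {U : C} (G : FibCat.overCat U ⥤ᵇ 𝒳) (s : (FibCat.overCat U).obj) :
    𝒳.p.IsHomLift s.hom (G.map (toTop s)) :=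
  BasedFunctor.preserves_isHomLift G s.hom (toTop s)

lemma locEssSurj_of_isEquivOver (J : GrothendieckTopology C) (h𝒳 : FibCat.IsFibGrpd 𝒳.p)
    {F : 𝒳 ⥤ᵇ 𝒴} (hF : FibCat.IsEquivOver F) : LocEssSurj J F := fun y => by
  refine ⟨⊤, J.top_mem _, fun V f _ => ?_⟩
  obtain ⟨ξ, e, he⟩ := essSurjOver_of_isEquivOver hF y
  obtain ⟨a, φ, hφ⟩ := exists_sc_lift h𝒳 (a := ξ) (EssSurjOver.obj_eq e.hom) f
  exact ⟨a, F.map φ ≫ e.hom, IsHomLift.comp_lift_id_right' 𝒴.p f (F.map φ) (𝒴.p.obj y) e.hom⟩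

lemma isEquivOver_of_locEssSurj {J : GrothendieckTopology C} (h𝒳 : IsStack J 𝒳)
    (h𝒴 : IsPrestack J 𝒴) (F : 𝒳 ⥤ᵇ 𝒴) [F.toFunctor.Full] [F.toFunctor.Faithful]
    (h : LocEssSurj J F) : FibCat.IsEquivOver F := by
  refine (isEquivOver_iff F).2 ⟨⟨inferInstance, inferInstance⟩, fun y => ?_⟩
  obtain ⟨R, hR, hloc⟩ := h y
  have := isFibered_of_fibGrpd h𝒴.1
  obtain ⟨G, e, -, he⟩ := exists_fromOver (𝒳 := 𝒴) (U := 𝒴.p.obj y) (x := y) rfl
  obtain ⟨K, ⟨i⟩⟩ := exists_lift_through F ((resSieve R 𝒴).obj G) (fun a => by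
    obtain ⟨x, φ, hφ⟩ := hloc a.obj.hom a.property
    have := over_map_toTop_lift G a.obj
    have : 𝒴.p.IsHomLift a.obj.hom (G.map (toTop a.obj) ≫ e.hom) :=
      IsHomLift.comp_lift_id_right' 𝒴.p a.obj.hom (G.map (toTop a.obj)) (𝒴.p.obj y) e.hom
    obtain ⟨d, hd, -⟩ := exists_vertIso h𝒴.1 a.obj.hom φ (G.map (toTop a.obj) ≫ e.hom)
    exact ⟨x, d, hd⟩)
  have : (resSieve R 𝒳).IsEquivalence := h𝒳.2 R hR
  obtain ⟨_, _⟩ := h𝒴.2 R hR
  let X₀ := (resSieve R 𝒳).objPreimage K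
  let j : BasedFunctor.comp X₀ F ≅ G := (resSieve R 𝒴).preimageIso
    ((post (sieveCat R) F).mapIso ((resSieve R 𝒳).objObjPreimageIso K) ≪≫ i)
  refine ⟨X₀.obj (topObj _), isoApp j (topObj _) ≪≫ e, ?_⟩
  exact homLift_id_comp (BasedNatTrans.isHomLift j.hom rfl) he

lemma vert_ext_of_prestackFor (h𝒳 : FibCat.IsFibGrpd 𝒳.p) {U : C} {R : Sieve U}
    (h : IsPrestackFor R 𝒳) {a b : 𝒳.obj} (α β : a ⟶ b) [hα : 𝒳.p.IsHomLift (𝟙 U) α]
    [hβ : 𝒳.p.IsHomLift (𝟙 U) β]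
    (hloc : ∀ ⦃V : C⦄ (f : V ⟶ U), R f → ∀ ⦃s : 𝒳.obj⦄ (ψ : s ⟶ a), 𝒳.p.IsHomLift f ψ →
      ψ ≫ α = ψ ≫ β) : α = β := by
  have := isFibered_of_fibGrpd h𝒳
  obtain ⟨G, e, -, he⟩ := exists_fromOver (IsHomLift.domain_eq 𝒳.p (𝟙 U) α)
  obtain ⟨H, d, hH, hd⟩ := exists_fromOver (IsHomLift.codomain_eq 𝒳.p (𝟙 U) α)
  have := IsHomLift.lift_id_inv 𝒳.p U d
  have : 𝒳.p.IsHomLift (𝟙 U) (e.hom ≫ α ≫ d.inv) := homLift_id_comp he (homLift_id_comp hα ‹_›)
  have : 𝒳.p.IsHomLift (𝟙 U) (e.hom ≫ β ≫ d.inv) := homLift_id_comp he (homLift_id_comp hβ ‹_›)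
  obtain ⟨_, _⟩ := h
  have key : extendNatTrans hH (e.hom ≫ α ≫ d.inv) = extendNatTrans hH (e.hom ≫ β ≫ d.inv) := by
    apply (resSieve R 𝒳).map_injective
    refine hom_ext fun s => ?_
    obtain ⟨h1, h2⟩ := (exists_component (G := G) hH (e.hom ≫ α ≫ d.inv) s.obj).choose_spec
    obtain ⟨h3, h4⟩ := (exists_component (G := G) hH (e.hom ≫ β ≫ d.inv) s.obj).choose_spec
    change (exists_component (G := G) hH (e.hom ≫ α ≫ d.inv) s.obj).choose =
      (exists_component (G := G) hH (e.hom ≫ β ≫ d.inv) s.obj).choose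
    have := hH s.obj
    have := over_map_toTop_lift G s.obj
    have hl : 𝒳.p.IsHomLift s.obj.hom (G.map (toTop s.obj) ≫ e.hom) :=
      IsHomLift.comp_lift_id_right' 𝒳.p s.obj.hom (G.map (toTop s.obj)) U e.hom
    apply IsStronglyCartesian.ext 𝒳.p s.obj.hom (H.map (toTop s.obj)) (𝟙 s.obj.left)
    rw [h2, h4, ← Category.assoc (G.map (toTop s.obj)), ← Category.assoc (G.map (toTop s.obj))]
    simp only [← Category.assoc]
    rw [hloc s.obj.hom s.property _ hl]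
  have := congrArg (fun t => app t (topObj U)) key
  simp only [app, extendNatTrans_top] at this
  simpa using this

lemma vert_ext_of_local {J : GrothendieckTopology C} (h : IsPrestack J 𝒳) {U : C} {R : Sieve U}
    (hR : R ∈ J U) {a b : 𝒳.obj} (α β : a ⟶ b) [𝒳.p.IsHomLift (𝟙 U) α] [𝒳.p.IsHomLift (𝟙 U) β]
    (hloc : ∀ ⦃V : C⦄ (f : V ⟶ U), R f → ∀ ⦃s : 𝒳.obj⦄ (ψ : s ⟶ a), 𝒳.p.IsHomLift f ψ →
      ψ ≫ α = ψ ≫ β) : α = β :=
  vert_ext_of_prestackFor h.1 (h.2 R hR) α β hloc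

section Refine

variable {U : C} {S R : Sieve U} (hSR : S ≤ R)

/-- The inclusion of a smaller sieve. -/
def sieveLe : sieveCat S ⥤ᵇ sieveCat R where
  toFunctor := ObjectProperty.ιOfLE (fun a ha => hSR _ ha)
  w := rfl

lemma resSieve_le (𝒳 : BasedCategory.{v₂, u₂} C) :
    resSieve R 𝒳 ⋙ restr (sieveLe hSR) 𝒳 = resSieve S 𝒳 := rfl

variable (h𝒳 : FibCat.IsFibGrpd 𝒳.p)
  (hR : ∀ ⦃V : C⦄ (f : V ⟶ U), R f → IsPrestackFor (S.pullback f) 𝒳)
  {G G' : sieveCat R ⥤ᵇ 𝒳}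

/-- A vertical morphism extending a given 2-morphism on the smaller sieve at one object. -/
def Extends (α : (restr (sieveLe hSR) 𝒳).obj G ⟶ (restr (sieveLe hSR) 𝒳).obj G')
    (a : (sieveCat R).obj) (β : G.obj a ⟶ G'.obj a) : Prop :=
  ∀ (c : (sieveCat S).obj) (n : (sieveLe hSR).obj c ⟶ a), G.map n ≫ β = app α c ≫ G'.map n

variable {α : (restr (sieveLe hSR) 𝒳).obj G ⟶ (restr (sieveLe hSR) 𝒳).obj G'}

include h𝒳 hR in
lemma extends_unique (a : (sieveCat R).obj) {β β' : G.obj a ⟶ G'.obj a}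
    [𝒳.p.IsHomLift (𝟙 a.obj.left) β] [𝒳.p.IsHomLift (𝟙 a.obj.left) β']
    (h : Extends hSR α a β) (h' : Extends hSR α a β') : β = β' := by
  refine vert_ext_of_prestackFor h𝒳 (hR a.obj.hom a.property) β β' fun W g hg s ψ hψ => ?_
  let c : (sieveCat S).obj := ⟨Over.mk (g ≫ a.obj.hom), hg⟩
  let n : (sieveLe hSR).obj c ⟶ a := ObjectProperty.homMk (Over.homMk g rfl)
  have : 𝒳.p.IsHomLift g (G.map n) :=
    @BasedFunctor.preserves_isHomLift _ _ _ _ G _ _ _ _ g n (IsHomLift.map (sieveCat R).p n)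
  obtain ⟨e, -, he⟩ := exists_vertIso h𝒳 g ψ (G.map n)
  rw [← he, Category.assoc, Category.assoc, h c n, h' c n]

include h𝒳 hR in
lemma exists_extends (α : (restr (sieveLe hSR) 𝒳).obj G ⟶ (restr (sieveLe hSR) 𝒳).obj G')
    (a : (sieveCat R).obj) :
    ∃ β : G.obj a ⟶ G'.obj a, 𝒳.p.IsHomLift (𝟙 a.obj.left) β ∧ Extends hSR α a β := by
  let M : FibCat.overCat a.obj.left ⥤ᵇ sieveCat R :=
    { toFunctor :=
        { obj := fun h => ⟨Over.mk (h.hom ≫ a.obj.hom), R.downward_closed a.property h.hom⟩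
          map := fun {h h'} m => ObjectProperty.homMk (Over.homMk m.left (by
            change m.left ≫ h'.hom ≫ a.obj.hom = h.hom ≫ a.obj.hom
            rw [← Category.assoc, Over.w])) }
      w := rfl }
  let N : sieveCat (S.pullback a.obj.hom) ⥤ᵇ sieveCat S :=
    { toFunctor :=
        { obj := fun h => ⟨Over.mk (h.obj.hom ≫ a.obj.hom), h.property⟩
          map := fun {h h'} m => ObjectProperty.homMk (Over.homMk m.hom.left (by
            change m.hom.left ≫ h'.obj.hom ≫ a.obj.hom = h.obj.hom ≫ a.obj.hom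
            rw [← Category.assoc, Over.w])) }
      w := rfl }
  obtain ⟨_, _⟩ := hR a.obj.hom a.property
  obtain ⟨γ, hγ⟩ := (resSieve (S.pullback a.obj.hom) 𝒳).map_surjective
    (X := BasedFunctor.comp M G) (Y := BasedFunctor.comp M G') (BasedCategory.whiskerLeft N α)
  let u : M.obj (topObj _) ≅ a := ObjectProperty.isoMk _
    (Over.isoMk (Iso.refl a.obj.left) (by
      change 𝟙 _ ≫ a.obj.hom = 𝟙 _ ≫ a.obj.hom
      rfl))
  have hu : (sieveCat R).p.IsHomLift (𝟙 a.obj.left) u.hom := IsHomLift.map (sieveCat R).p u.hom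
  have hu' : (sieveCat R).p.IsHomLift (𝟙 a.obj.left) u.inv := IsHomLift.map (sieveCat R).p u.inv
  have h1 : 𝒳.p.IsHomLift (𝟙 a.obj.left) (app γ (topObj _)) := BasedNatTrans.isHomLift γ rfl
  refine ⟨G.map u.inv ≫ app γ (topObj _) ≫ G'.map u.hom,
    homLift_id_comp inferInstance (homLift_id_comp h1 inferInstance), fun c n => ?_⟩
  have hw : n.hom.left ≫ a.obj.hom = c.obj.hom := Over.w n.hom
  let h : (sieveCat (S.pullback a.obj.hom)).obj := ⟨Over.mk n.hom.left, by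
    change S (n.hom.left ≫ a.obj.hom)
    rw [hw]; exact c.property⟩
  let k : c ⟶ N.obj h := ObjectProperty.homMk (Over.homMk (𝟙 c.obj.left) (by
    change 𝟙 _ ≫ n.hom.left ≫ a.obj.hom = c.obj.hom
    rw [Category.id_comp]; exact hw))
  have e : n ≫ u.inv = (sieveLe hSR).map k ≫ M.map (toTop h.obj) :=
    ObjectProperty.hom_ext _ (Over.OverMorphism.ext (by
      change n.hom.left ≫ 𝟙 _ = 𝟙 _ ≫ n.hom.left
      simp))
  have e' : (sieveLe hSR).map k ≫ M.map (toTop h.obj) ≫ u.hom = n := by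
    rw [← Category.assoc, ← e, Category.assoc, u.inv_hom_id, Category.comp_id]
  have c1 : app γ h.obj = app α (N.obj h) := congrArg (fun t => app t h) hγ
  have n1 : G.map (M.map (toTop h.obj)) ≫ app γ (topObj _) =
      app γ h.obj ≫ G'.map (M.map (toTop h.obj)) := γ.toNatTrans.naturality (toTop h.obj)
  have n2 : G.map ((sieveLe hSR).map k) ≫ app α (N.obj h) =
      app α c ≫ G'.map ((sieveLe hSR).map k) := α.toNatTrans.naturality k
  rw [← Category.assoc (G.map n), ← G.toFunctor.map_comp, e, G.toFunctor.map_comp, Category.assoc,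
    reassoc_of% n1, c1, reassoc_of% n2, ← G'.toFunctor.map_comp, ← G'.toFunctor.map_comp, e']

include h𝒳 hR in
lemma restr_sieveLe_full_faithful :
    (restr (sieveLe hSR) 𝒳).Full ∧ (restr (sieveLe hSR) 𝒳).Faithful := by
  refine ⟨⟨fun {G G'} α => ?_⟩, ⟨fun {G G' β β'} hb => hom_ext fun a => ?_⟩⟩
  · choose β hβ hE using exists_extends hSR h𝒳 hR α
    refine ⟨{ toNatTrans := { app := β, naturality := fun a b m => ?_ },
              isHomLift' := hβ }, hom_ext fun c => ?_⟩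
    · have := hβ b
      have hm : (sieveCat R).p.IsHomLift m.hom.left m := IsHomLift.map (sieveCat R).p m
      have := sc_of_fibGrpd h𝒳 m.hom.left (G'.map m)
      have : 𝒳.p.IsHomLift m.hom.left (G.map m ≫ β b) :=
        IsHomLift.comp_lift_id_right' 𝒳.p m.hom.left (G.map m) b.obj.left (β b)
      let χ := IsCartesian.map 𝒳.p m.hom.left (G'.map m) (G.map m ≫ β b)
      have hχ : Extends hSR α a χ := fun c n => by
        have hn : (sieveCat R).p.IsHomLift n.hom.left n := IsHomLift.map (sieveCat R).p n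
        have : 𝒳.p.IsHomLift n.hom.left (G.map n ≫ χ) :=
          IsHomLift.comp_lift_id_right' 𝒳.p n.hom.left (G.map n) a.obj.left χ
        have : 𝒳.p.IsHomLift (𝟙 c.obj.left) (app α c) := BasedNatTrans.isHomLift α rfl
        have : 𝒳.p.IsHomLift n.hom.left (app α c ≫ G'.map n) :=
          IsHomLift.comp_lift_id_left' 𝒳.p c.obj.left (app α c) n.hom.left (G'.map n)
        apply IsStronglyCartesian.ext 𝒳.p m.hom.left (G'.map m) n.hom.left
        rw [Category.assoc, Category.assoc, IsCartesian.fac, ← G'.toFunctor.map_comp,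
          ← Category.assoc, ← G.toFunctor.map_comp]
        exact hE b c (n ≫ m)
      have := hβ a
      have e : β a = χ := extends_unique hSR h𝒳 hR a (hE a) hχ
      rw [e]
      exact (IsCartesian.fac 𝒳.p m.hom.left (G'.map m) (G.map m ≫ β b)).symm
    · have h := hE ((sieveLe hSR).obj c) c (𝟙 _)
      rw [G.toFunctor.map_id, G'.toFunctor.map_id, Category.id_comp] at h
      exact h.trans (Category.comp_id _)
  · have : 𝒳.p.IsHomLift (𝟙 a.obj.left) (app β a) := BasedNatTrans.isHomLift β rfl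
    have : 𝒳.p.IsHomLift (𝟙 a.obj.left) (app β' a) := BasedNatTrans.isHomLift β' rfl
    refine extends_unique hSR h𝒳 hR (α := (restr (sieveLe hSR) 𝒳).map β) a
      (fun c n => β.toNatTrans.naturality n) (fun c n => ?_)
    rw [hb]
    exact β'.toNatTrans.naturality n

include h𝒳 hR hSR in
lemma isStackFor_of_le (hS : IsStackFor S 𝒳) : IsStackFor R 𝒳 := by
  obtain ⟨_, _⟩ := restr_sieveLe_full_faithful hSR h𝒳 hR
  have : (resSieve R 𝒳 ⋙ restr (sieveLe hSR) 𝒳).IsEquivalence := by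
    rw [resSieve_le]; exact hS
  refine { faithful := Functor.Faithful.of_comp (resSieve R 𝒳) (restr (sieveLe hSR) 𝒳),
           full := Functor.Full.of_comp_faithful (resSieve R 𝒳) (restr (sieveLe hSR) 𝒳),
           essSurj := ⟨fun H => ?_⟩ }
  exact ⟨_, ⟨(restr (sieveLe hSR) 𝒳).preimageIso
    ((resSieve R 𝒳 ⋙ restr (sieveLe hSR) 𝒳).objObjPreimageIso ((restr (sieveLe hSR) 𝒳).obj H))⟩⟩

end Refine

end Groth.Agent.H14Stk
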