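import Groth.Agent.H14Stk.Psh
import Groth.Agent.H14Stk.Local

/-!
# A category fibred in setoids is equivalent to the category of a presheaf of sets
-/

set_option autoImplicit false
set_option backward.isDefEq.respectTransparency false
set_option backward.isDefEq.respectTransparency.types false

universe v₂ u₂ v u

open CategoryTheory Opposite CategoryTheory.Functor

namespace Groth.Agent.H14Stk

open H14Fib Stk

variable {C : Type u} [Category.{v} C] {𝒳 : BasedCategory.{v₂, u₂} C}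

/-- Isomorphism classes of the fibre over `U`. -/
def fibClass (𝒳 : BasedCategory.{v₂, u₂} C) (U : C) : Type u₂ :=
  Quot (fun a b : {x : 𝒳.obj // 𝒳.p.obj x = U} =>
    ∃ e : a.1 ≅ b.1, 𝒳.p.IsHomLift (𝟙 U) e.hom)

/-- The class of an object. -/
def clMk {U : C} (a : 𝒳.obj) (ha : 𝒳.p.obj a = U) : fibClass 𝒳 U := Quot.mk _ ⟨a, ha⟩

lemma clMk_eq {U : C} {a b : 𝒳.obj} (e : a ≅ b) [he : 𝒳.p.IsHomLift (𝟙 U) e.hom] :
    clMk a (IsHomLift.domain_eq 𝒳.p (𝟙 U) e.hom) = clMk b (IsHomLift.codomain_eq 𝒳.p (𝟙 U) e.hom) :=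
  Quot.sound ⟨e, he⟩

lemma clMk_surj {U : C} (c : fibClass 𝒳 U) : ∃ a ha, clMk a ha = c :=
  Quot.inductionOn c fun a => ⟨a.1, a.2, rfl⟩

lemma exists_iso_of_clMk_eq {U : C} {a b : 𝒳.obj} {ha : 𝒳.p.obj a = U}
    {hb : 𝒳.p.obj b = U} (h : clMk a ha = clMk b hb) :
    ∃ e : a ≅ b, 𝒳.p.IsHomLift (𝟙 U) e.hom := by
  have : ∀ (x y : {x : 𝒳.obj // 𝒳.p.obj x = U}),
      Relation.EqvGen (fun a b : {x : 𝒳.obj // 𝒳.p.obj x = U} =>
        ∃ e : a.1 ≅ b.1, 𝒳.p.IsHomLift (𝟙 U) e.hom) x y →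
      ∃ e : x.1 ≅ y.1, 𝒳.p.IsHomLift (𝟙 U) e.hom := by
    intro x y hxy
    induction hxy with
    | rel _ _ h => exact h
    | refl x => exact ⟨Iso.refl _, IsHomLift.id x.2⟩
    | symm _ _ _ ih =>
      obtain ⟨e, he⟩ := ih
      exact ⟨e.symm, IsHomLift.lift_id_inv 𝒳.p U e⟩
    | trans _ _ _ _ _ ih ih' =>
      obtain ⟨e, he⟩ := ih
      obtain ⟨e', he'⟩ := ih'
      exact ⟨e ≪≫ e', homLift_id_comp he he'⟩
  exact this _ _ (Quot.eqvGen_exact h)

section Grpd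

variable (h : FibCat.IsFibGrpd 𝒳.p)

/-- A chosen lift of a morphism of the base. -/
noncomputable def liftObj {V U : C} (f : V ⟶ U) (a : 𝒳.obj) (ha : 𝒳.p.obj a = U) : 𝒳.obj :=
  (h.exists_lift (x := a) (f ≫ eqToHom ha.symm)).choose

/-- The chosen morphism. -/
noncomputable def liftHom {V U : C} (f : V ⟶ U) (a : 𝒳.obj) (ha : 𝒳.p.obj a = U) :
    liftObj h f a ha ⟶ a :=
  (h.exists_lift (x := a) (f ≫ eqToHom ha.symm)).choose_spec.choose

lemma liftHom_lift {V U : C} (f : V ⟶ U) (a : 𝒳.obj) (ha : 𝒳.p.obj a = U) :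
    𝒳.p.IsHomLift f (liftHom h f a ha) := by
  subst ha
  have := (h.exists_lift (x := a) (f ≫ eqToHom rfl)).choose_spec.choose_spec
  have : 𝒳.p.IsHomLift (f ≫ eqToHom rfl) (liftHom h f a rfl) := this
  exact homLift_congr (f := f ≫ eqToHom rfl) (show f ≫ eqToHom rfl = f by simp) (liftHom h f a rfl)

lemma liftObj_obj {V U : C} (f : V ⟶ U) (a : 𝒳.obj) (ha : 𝒳.p.obj a = U) :
    𝒳.p.obj (liftObj h f a ha) = V :=
  @IsHomLift.domain_eq _ _ _ _ 𝒳.p _ _ _ _ f (liftHom h f a ha) (liftHom_lift h f a ha)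

/-- Restriction of classes. -/
noncomputable def clMap {V U : C} (f : V ⟶ U) : fibClass 𝒳 U → fibClass 𝒳 V :=
  Quot.lift (fun a => clMk (liftObj h f a.1 a.2) (liftObj_obj h f a.1 a.2)) (by
    rintro ⟨a, ha⟩ ⟨b, hb⟩ ⟨e, he⟩
    have h1 := liftHom_lift h f a ha
    have h2 := liftHom_lift h f b hb
    have h3 : 𝒳.p.IsHomLift f (liftHom h f a ha ≫ e.hom) :=
      IsHomLift.comp_lift_id_right' 𝒳.p f (liftHom h f a ha) U e.hom
    obtain ⟨i, hi, -⟩ := exists_vertIso h f (liftHom h f a ha ≫ e.hom) (liftHom h f b hb)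
    exact Quot.sound ⟨i, hi⟩)

lemma clMap_of_lift {V U : C} (f : V ⟶ U) {y a : 𝒳.obj} (φ : y ⟶ a) [𝒳.p.IsHomLift f φ]
    (ha : 𝒳.p.obj a = U) (hy : 𝒳.p.obj y = V) :
    clMap h f (clMk a ha) = clMk y hy := by
  have hl := liftHom_lift h f a ha
  obtain ⟨e, he, -⟩ := exists_vertIso h f (liftHom h f a ha) φ
  exact Quot.sound ⟨e, he⟩

/-- The presheaf of isomorphism classes of objects of the fibres. -/
noncomputable def classPsh : Cᵒᵖ ⥤ Type u₂ where
  obj U := fibClass 𝒳 U.unop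
  map f := ↾(clMap h f.unop)
  map_id U := by
    ext c
    obtain ⟨a, ha, rfl⟩ := clMk_surj c
    have := IsHomLift.id (p := 𝒳.p) ha
    exact clMap_of_lift h (𝟙 U.unop) (𝟙 a) ha ha
  map_comp {U V W} f g := by
    ext c
    obtain ⟨a, ha, rfl⟩ := clMk_surj c
    change clMap h (g.unop ≫ f.unop) (clMk a ha) = clMap h g.unop (clMap h f.unop (clMk a ha))
    have h1 := liftHom_lift h f.unop a ha
    have hb := liftObj_obj h f.unop a ha
    rw [clMap_of_lift h f.unop (liftHom h f.unop a ha) ha hb]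
    have h2 := liftHom_lift h g.unop (liftObj h f.unop a ha) hb
    have hc := liftObj_obj h g.unop (liftObj h f.unop a ha) hb
    rw [clMap_of_lift h g.unop (liftHom h g.unop _ hb) hb hc]
    exact clMap_of_lift h (g.unop ≫ f.unop) (liftHom h g.unop _ hb ≫ liftHom h f.unop a ha) ha hc

/-- The comparison functor to the category of classes. -/
noncomputable def classFun : 𝒳 ⥤ᵇ ofPsh (classPsh h) :=
  mkFun (fun a => clMk a rfl) (fun {_ _} f =>
    have : 𝒳.p.IsHomLift (𝒳.p.map f) f := IsHomLift.map 𝒳.p f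
    clMap_of_lift h (𝒳.p.map f) f rfl rfl)

lemma classFun_isEquivOver (hs : FibCat.IsFibSetoid 𝒳.p) :
    FibCat.IsEquivOver (classFun h) := by
  have hf : 𝒳.p.Faithful := faithful_of_fibSetoid hs
  refine (isEquivOver_iff _).2 ⟨⟨⟨fun {a b} m => ?_⟩, ⟨fun {a b} m n hmn => ?_⟩⟩, fun z => ?_⟩
  · have hm : clMap h m.hom (clMk b rfl) = clMk a rfl := m.map_sec
    have h1 := liftHom_lift h m.hom b rfl
    rw [clMap_of_lift h m.hom (liftHom h m.hom b rfl) rfl (liftObj_obj h m.hom b rfl)] at hm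
    obtain ⟨e, he⟩ := exists_iso_of_clMk_eq hm
    have he' := @IsHomLift.lift_id_inv _ _ _ _ 𝒳.p _ _ _ e he
    refine ⟨e.inv ≫ liftHom h m.hom b rfl, EltObj.hom_ext ?_⟩
    have h3 := @IsHomLift.comp_lift_id_left' _ _ _ _ 𝒳.p _ _ _ _ e.inv he' _ _ m.hom (liftHom h m.hom b rfl) h1
    have := @IsHomLift.fac' _ _ _ _ 𝒳.p _ _ _ _ m.hom _ h3
    change 𝒳.p.map _ = m.hom
    simpa using this
  · exact 𝒳.p.map_injective (congrArg EltObj.Hom.hom hmn)
  · obtain ⟨U, c⟩ := z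
    obtain ⟨a, ha, rfl⟩ := clMk_surj c
    refine ⟨a, eltIso ha ?_, homLift_eltIso _ _ ha⟩
    change clMap h (eqToHom ha) (clMk a ha) = clMk a rfl
    have : 𝒳.p.IsHomLift (eqToHom ha) (𝟙 a) := by
      have ha' : 𝒳.p.obj a = U := ha
      exact IsHomLift.of_fac' _ _ _ rfl ha' (by simp)
    exact clMap_of_lift h (eqToHom ha) (𝟙 a) ha rfl

end Grpd

end Groth.Agent.H14Stk
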