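import Groth.Agent.H14Stk.OverDescent
import Groth.Agent.H14Stk.Fibre
import Groth.Agent.H14Fib.FibSet

/-!
# A category over a stack all whose slices are stacks is a stack
-/

set_option autoImplicit false
set_option backward.isDefEq.respectTransparency false
set_option backward.isDefEq.respectTransparency.types false

universe v u

open CategoryTheory

namespace Groth.Agent.H14Stk

open H14Fib Stk

variable {C : Type u} [Category.{v} C] {J : GrothendieckTopology C}
  {𝒮 𝒯 : BasedCategory.{v, max u v} C}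

lemma isStack_of_slices (hS : FibCat.IsFibGrpd 𝒮.p) (hT : IsStack J 𝒯) (F : 𝒮 ⥤ᵇ 𝒯)
    [F.toFunctor.Faithful] (hU : ∀ U : C, IsPrestack J (FibCat.overCat U))
    (h : ∀ (U : C) (y : FibCat.overCat U ⥤ᵇ 𝒯), IsStack J (FibCat.fp y F)) :
    IsStack J 𝒮 := by
  refine ⟨hS, fun U R hR => isStackFor_of_slices R hS hT.1 (hT.2 R hR) F fun y => ?_⟩
  let E : pushCat (Over.forget U) (sliceFp y F) ⥤ᵇ FibCat.fp y F := sliceOut
  have hE : FibCat.IsEquivOver E := by
    let E' : FibCat.fp y F ⥤ᵇ pushCat (Over.forget U) (sliceFp y F) :=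
      { toFunctor := 𝟭 _, w := rfl }
    exact ⟨E', ⟨eqToIso rfl⟩, ⟨eqToIso rfl⟩⟩
  have hfp : IsStack J (pushCat (Over.forget U) (sliceFp y F)) := (isStack_iff J hE).2 (h U y)
  have hB : FibCat.IsFibGrpd (sliceFp y F).p :=
    (fibGrpd_iff_comp (overCat_fibSet U) (FibCat.fpFst y F).toFunctor).2
      (show FibCat.IsFibGrpd (FibCat.fp y F).p from (h U y).1)
  have := isStack_restricted_of_isStack_push (𝒯 := FibCat.overCat U) J (hU U) hB hfp
  refine this.2 (overSieve R) ((mem_restricted_iff (hU U).1 J (overSieve R)).2 ?_)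
  change Sieve.overEquiv (topO U) ((Sieve.overEquiv (topO U)).symm R) ∈ J U
  exact ((Sieve.overEquiv (topO U)).apply_symm_apply R).symm ▸ hR

end Groth.Agent.H14Stk
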