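import Groth.Agent.H14Stk.Basic
import Groth.Agent.H14Fib.Yoneda
import Mathlib.CategoryTheory.Sites.IsSheafFor
import Mathlib.CategoryTheory.Sites.SheafOfTypes

/-!
# Functors into the category of a presheaf, and the stack condition for it
-/

set_option autoImplicit false
set_option backward.isDefEq.respectTransparency false
set_option backward.isDefEq.respectTransparency.types false

universe w v₃ u₃ v₂ u₂ v u

open CategoryTheory Opposite

namespace Groth.Agent.H14Stk

open H14Fib Stk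

variable {C : Type u} [Category.{v} C] {P : Cᵒᵖ ⥤ Type w} {𝒜 : BasedCategory.{v₂, u₂} C}

lemma pmap_comp {X Y Z : C} (f : X ⟶ Y) (g : Y ⟶ Z) (x : P.obj (op Z)) :
    P.map f.op (P.map g.op x) = P.map (f ≫ g).op x := by
  rw [op_comp, Functor.map_comp_apply]

lemma pmap_id {X : C} (x : P.obj (op X)) : P.map (𝟙 X).op x = x := by simp

lemma baseEq (G : 𝒜 ⥤ᵇ ofPsh P) (a : 𝒜.obj) : (G.obj a).base = 𝒜.p.obj a := G.w_obj a

lemma map_hom_eq (G : 𝒜 ⥤ᵇ ofPsh P) {a b : 𝒜.obj} (f : a ⟶ b) :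
    (G.map f).hom = eqToHom (baseEq G a) ≫ 𝒜.p.map f ≫ eqToHom (baseEq G b).symm :=
  Functor.congr_hom G.w f

lemma app_hom_eq {G H : 𝒜 ⥤ᵇ ofPsh P} (α : G ⟶ H) (a : 𝒜.obj) :
    (app α a).hom = eqToHom ((baseEq G a).trans (baseEq H a).symm) := by
  have h : (ofPsh P).p.IsHomLift (𝟙 (𝒜.p.obj a)) (app α a) := BasedNatTrans.isHomLift α rfl
  have h' := @IsHomLift.fac' _ _ _ _ (ofPsh P).p _ _ _ _ (𝟙 (𝒜.p.obj a)) (app α a) h
  refine h'.trans ?_
  simp

/-- The section attached to an object by a functor into `ofPsh P`. -/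
def secAt (G : 𝒜 ⥤ᵇ ofPsh P) (a : 𝒜.obj) : P.obj (op (𝒜.p.obj a)) :=
  P.map (eqToHom (baseEq G a).symm).op (G.obj a).sec

lemma sec_eq (G : 𝒜 ⥤ᵇ ofPsh P) (a : 𝒜.obj) :
    (G.obj a).sec = P.map (eqToHom (baseEq G a)).op (secAt G a) := by
  rw [secAt, pmap_comp, eqToHom_trans, eqToHom_refl, pmap_id]

lemma secAt_natural (G : 𝒜 ⥤ᵇ ofPsh P) {a b : 𝒜.obj} (f : a ⟶ b) :
    P.map (𝒜.p.map f).op (secAt G b) = secAt G a := by
  rw [secAt, secAt, ← (G.map f).map_sec, map_hom_eq, pmap_comp, pmap_comp,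
    eqToHom_trans_assoc, eqToHom_refl, Category.id_comp]

/-- A functor into `ofPsh P` from a compatible system of sections. -/
def mkFun (σ : ∀ a : 𝒜.obj, P.obj (op (𝒜.p.obj a)))
    (hσ : ∀ {a b : 𝒜.obj} (f : a ⟶ b), P.map (𝒜.p.map f).op (σ b) = σ a) : 𝒜 ⥤ᵇ ofPsh P where
  toFunctor :=
    { obj := fun a => ⟨𝒜.p.obj a, σ a⟩
      map := fun f => ⟨𝒜.p.map f, hσ f⟩
      map_id := fun a => EltObj.hom_ext (𝒜.p.map_id a)
      map_comp := fun f g => EltObj.hom_ext (𝒜.p.map_comp f g) }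
  w := rfl

lemma secAt_mkFun (σ : ∀ a : 𝒜.obj, P.obj (op (𝒜.p.obj a)))
    (hσ : ∀ {a b : 𝒜.obj} (f : a ⟶ b), P.map (𝒜.p.map f).op (σ b) = σ a) (a : 𝒜.obj) :
    secAt (mkFun σ hσ) a = σ a :=
  pmap_id (σ a)

lemma secAt_eq_of_hom {G H : 𝒜 ⥤ᵇ ofPsh P} (α : G ⟶ H) (a : 𝒜.obj) : secAt G a = secAt H a := by
  rw [secAt, secAt, ← (app α a).map_sec, app_hom_eq, pmap_comp, eqToHom_trans]

lemma hom_subsingleton (G H : 𝒜 ⥤ᵇ ofPsh P) (α β : G ⟶ H) : α = β :=
  hom_ext fun a => EltObj.hom_ext ((app_hom_eq α a).trans (app_hom_eq β a).symm)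

/-- An isomorphism of objects with the same base. -/
def eltIso {x y : EltObj P} (e : x.base = y.base) (h : P.map (eqToHom e).op y.sec = x.sec) : x ≅ y where
  hom := ⟨eqToHom e, h⟩
  inv := ⟨eqToHom e.symm, by rw [← h, pmap_comp, eqToHom_trans, eqToHom_refl, pmap_id]⟩
  hom_inv_id := EltObj.hom_ext (by simp)
  inv_hom_id := EltObj.hom_ext (by simp)

lemma eltIso_hom_hom {x y : EltObj P} (e : x.base = y.base)
    (h : P.map (eqToHom e).op y.sec = x.sec) : (eltIso e h).hom.hom = eqToHom e := rfl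

lemma homLift_eltIso {x y : EltObj P} (e : x.base = y.base)
    (h : P.map (eqToHom e).op y.sec = x.sec) {X : C} (hx : x.base = X) :
    (ofPsh P).p.IsHomLift (𝟙 X) (eltIso e h).hom :=
  IsHomLift.of_fac' (ofPsh P).p (𝟙 X) (eltIso e h).hom hx (e.symm.trans hx) (by
    change eqToHom e = _
    simp)

/-- Functors into `ofPsh P` with the same sections are isomorphic. -/
def isoOfSec {G H : 𝒜 ⥤ᵇ ofPsh P} (h : ∀ a, secAt G a = secAt H a) : G ≅ H :=
  mkIso
    (fun a => eltIso ((baseEq G a).trans (baseEq H a).symm)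
      (by rw [sec_eq G, sec_eq H, h a, pmap_comp, eqToHom_trans]))
    (fun {a b} f => EltObj.hom_ext (by
      simp only [EltObj.comp_hom, eltIso_hom_hom, map_hom_eq]
      simp))
    (fun a => homLift_eltIso _ _ (baseEq G a))

section Sieve

variable {U : C} (R : Sieve U)

/-- The functor out of a slice attached to a section. -/
def funOfSec (t : P.obj (op U)) : FibCat.overCat U ⥤ᵇ ofPsh P :=
  mkFun (𝒜 := FibCat.overCat U) (fun s => P.map s.hom.op t) (fun {a b} f => by
    change P.map f.left.op (P.map b.hom.op t) = _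
    rw [pmap_comp, Over.w])

lemma secAt_funOfSec (t : P.obj (op U)) (s : (FibCat.overCat U).obj) :
    secAt (funOfSec t) s = P.map s.hom.op t :=
  secAt_mkFun (P := P) (𝒜 := FibCat.overCat U) (fun s => P.map s.hom.op t) (fun {a b} f => by
    change P.map f.left.op (P.map b.hom.op t) = _
    rw [pmap_comp, Over.w]) s

/-- The section of a functor out of a slice. -/
def secOfFun (G : FibCat.overCat U ⥤ᵇ ofPsh P) : P.obj (op U) := secAt G (topObj U)

lemma secAt_over (G : FibCat.overCat U ⥤ᵇ ofPsh P) (s : (FibCat.overCat U).obj) :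
    secAt G s = P.map s.hom.op (secOfFun G) := (secAt_natural G (toTop s)).symm

lemma secOfFun_funOfSec (t : P.obj (op U)) : secOfFun (funOfSec t) = t :=
  (secAt_funOfSec t _).trans (pmap_id t)

/-- The family of sections of a functor out of a sieve. -/
def famOfFun (H : sieveCat R ⥤ᵇ ofPsh P) : Presieve.FamilyOfElements P R.arrows :=
  fun _ f hf => secAt H ⟨Over.mk f, hf⟩

lemma famOfFun_compatible (H : sieveCat R ⥤ᵇ ofPsh P) : (famOfFun R H).Compatible := by
  rw [Presieve.compatible_iff_sieveCompatible]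
  intro Y Z f g hf
  exact (secAt_natural H (ObjectProperty.homMk (Over.homMk g) :
    (⟨Over.mk (g ≫ f), R.downward_closed hf g⟩ : (sieveCat R).obj) ⟶ ⟨Over.mk f, hf⟩)).symm

lemma isAmalgamation_iff (H : sieveCat R ⥤ᵇ ofPsh P) (t : P.obj (op U)) :
    (famOfFun R H).IsAmalgamation t ↔
      ∀ a : (sieveCat R).obj, secAt ((resSieve R (ofPsh P)).obj (funOfSec t)) a = secAt H a := by
  constructor
  · intro h a
    exact (secAt_funOfSec t a.obj).trans (h a.obj.hom a.property)
  · intro h Y f hf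
    exact (secAt_funOfSec t (Over.mk f)).symm.trans (h ⟨Over.mk f, hf⟩)

lemma isPrestackFor_iff_separated :
    IsPrestackFor R (ofPsh P) ↔ Presieve.IsSeparatedFor P R.arrows := by
  constructor
  · rintro ⟨_, _⟩ x t₁ t₂ h₁ h₂
    obtain ⟨α, -⟩ := (resSieve R (ofPsh P)).map_surjective (X := funOfSec t₁) (Y := funOfSec t₂)
      (isoOfSec (G := (resSieve R (ofPsh P)).obj (funOfSec t₁))
        (H := (resSieve R (ofPsh P)).obj (funOfSec t₂)) (fun a => (secAt_funOfSec t₁ a.obj).trans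
        ((h₁ a.obj.hom a.property).trans ((h₂ a.obj.hom a.property).symm.trans
          (secAt_funOfSec t₂ a.obj).symm)))).hom
    rw [← secOfFun_funOfSec t₁, ← secOfFun_funOfSec t₂]
    exact secAt_eq_of_hom α _
  · intro h
    refine ⟨⟨fun {G G'} α => ?_⟩, ⟨fun {G G'} a b _ => hom_subsingleton G G' a b⟩⟩
    have e : secOfFun G = secOfFun G' := by
      apply h.ext
      intro Y f hf
      exact ((secAt_over G (Over.mk f)).symm.trans
        (secAt_eq_of_hom α ⟨Over.mk f, hf⟩)).trans (secAt_over G' (Over.mk f))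
    exact ⟨(isoOfSec (fun s => by rw [secAt_over, secAt_over, e])).hom, hom_subsingleton _ _ _ _⟩

lemma isStackFor_iff_isSheafFor : IsStackFor R (ofPsh P) ↔ Presieve.IsSheafFor P R.arrows := by
  rw [← Presieve.isSeparatedFor_and_exists_isAmalgamation_iff_isSheafFor,
    ← isPrestackFor_iff_separated]
  constructor
  · intro h
    have : (resSieve R (ofPsh P)).IsEquivalence := h
    refine ⟨⟨inferInstance, inferInstance⟩, fun x hx => ?_⟩
    let H : sieveCat R ⥤ᵇ ofPsh P := mkFun (𝒜 := sieveCat R) (fun a => x a.obj.hom a.property)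
      (fun {a b} f => by
        have hw : f.hom.left ≫ b.obj.hom = a.obj.hom := Over.w f.hom
        have h1 := hx.to_sieveCompatible b.obj.hom f.hom.left b.property
        refine h1.symm.trans ?_
        congr 1)
    let G := (resSieve R (ofPsh P)).objPreimage H
    refine ⟨secOfFun G, fun Y f hf => ?_⟩
    exact ((secAt_over G (Over.mk f)).symm.trans
      (secAt_eq_of_hom ((resSieve R (ofPsh P)).objObjPreimageIso H).hom ⟨Over.mk f, hf⟩)).trans
      (pmap_id (x f hf))
  · rintro ⟨⟨_, _⟩, h⟩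
    refine { essSurj := ⟨fun H => ?_⟩ }
    obtain ⟨t, ht⟩ := h (famOfFun R H) (famOfFun_compatible R H)
    exact ⟨funOfSec t, ⟨isoOfSec ((isAmalgamation_iff R H t).1 ht)⟩⟩

lemma isStack_ofPsh_iff (J : GrothendieckTopology C) :
    IsStack J (ofPsh P) ↔ Presieve.IsSheaf J P :=
  ⟨fun h _ R hR => (isStackFor_iff_isSheafFor R).1 (h.2 R hR),
    fun h => ⟨inferInstance, fun _ R hR => (isStackFor_iff_isSheafFor R).2 (h R hR)⟩⟩

end Sieve

section Yoneda

/-- The slice is the category of the representable presheaf. -/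
def overToPsh (U : C) : FibCat.overCat U ⥤ᵇ ofPsh (yoneda.obj U) where
  toFunctor :=
    { obj := fun g => ⟨g.left, g.hom⟩
      map := fun φ => ⟨φ.left, Over.w φ⟩ }
  w := rfl

lemma overToPsh_isEquivOver (U : C) : FibCat.IsEquivOver (overToPsh U) :=
  ⟨{ toFunctor :=
      { obj := fun a => Over.mk a.sec
        map := fun f => Over.homMk f.hom f.map_sec }
     w := rfl }, ⟨Iso.refl _⟩, ⟨Iso.refl _⟩⟩

end Yoneda

end Groth.Agent.H14Stk
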