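import Groth.Agent.H14Stk.Local

/-!
# A criterion for stacks by gluing cocones
-/

set_option autoImplicit false
set_option backward.isDefEq.respectTransparency false
set_option backward.isDefEq.respectTransparency.types false

universe v₂ u₂ v u

open CategoryTheory CategoryTheory.Functor

namespace Groth.Agent.H14Stk

open H14Fib Stk

variable {C : Type u} [Category.{v} C] {𝒳 : BasedCategory.{v₂, u₂} C} {U : C} {R : Sieve U}

/-- A cocone over a descent datum: an object over `U` with compatible morphisms from the datum. -/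
structure GlueCocone (H : sieveCat R ⥤ᵇ 𝒳) where
  /-- the object -/
  pt : 𝒳.obj
  pt_obj : 𝒳.p.obj pt = U
  /-- the morphisms from the datum -/
  θ : ∀ a : (sieveCat R).obj, H.obj a ⟶ pt
  lift : ∀ a : (sieveCat R).obj, 𝒳.p.IsHomLift a.obj.hom (θ a)
  nat : ∀ {a b : (sieveCat R).obj} (m : a ⟶ b), H.map m ≫ θ b = θ a

variable (R 𝒳) in
/-- Morphisms glue: any two cocones on the same datum are related by a vertical morphism. -/
def GlueHom : Prop :=
  (∀ (H : sieveCat R ⥤ᵇ 𝒳) (c c' : GlueCocone H),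
    ∃ f : c.pt ⟶ c'.pt, 𝒳.p.IsHomLift (𝟙 U) f ∧ ∀ a, c.θ a ≫ f = c'.θ a) ∧
  ∀ (H : sieveCat R ⥤ᵇ 𝒳) (c : GlueCocone H) (x : 𝒳.obj) (f g : c.pt ⟶ x),
    𝒳.p.IsHomLift (𝟙 U) f → 𝒳.p.IsHomLift (𝟙 U) g →
      (∀ a, c.θ a ≫ f = c.θ a ≫ g) → f = g

/-- The cocone of a functor on the slice. -/
def topCocone (G : FibCat.overCat U ⥤ᵇ 𝒳) : GlueCocone ((resSieve R 𝒳).obj G) where
  pt := G.obj (topObj U)
  pt_obj := G.w_obj (topObj U)
  θ a := G.map (toTop a.obj)
  lift a := over_map_toTop_lift G a.obj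
  nat {a b} m := (G.toFunctor.map_comp m.hom (toTop b.obj)).symm.trans
    (congrArg G.toFunctor.map (toTop_comp m.hom))

theorem isStackFor_of_glue (h𝒳 : FibCat.IsFibGrpd 𝒳.p) (hu : GlueHom 𝒳 R)
    (he : ∀ H : sieveCat R ⥤ᵇ 𝒳, Nonempty (GlueCocone H)) : IsStackFor R 𝒳 := by
  obtain ⟨hf, hu⟩ := hu
  have : 𝒳.p.IsFibered := isFibered_of_fibGrpd h𝒳
  have faith : (resSieve R 𝒳).Faithful := ⟨fun {G G'} {α β} hb => by
    refine natTrans_ext (topSC_of_fibGrpd h𝒳 G') ?_
    refine hu _ (topCocone G) _ _ _ (BasedNatTrans.isHomLift α rfl) (BasedNatTrans.isHomLift β rfl)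
      fun a => ?_
    change G.map (toTop a.obj) ≫ α.toNatTrans.app (topObj U) =
      G.map (toTop a.obj) ≫ β.toNatTrans.app (topObj U)
    rw [α.toNatTrans.naturality, β.toNatTrans.naturality]
    congr 1
    exact congrArg (fun t => app t a) hb⟩
  refine { faithful := faith, full := ⟨fun {G G'} α => ?_⟩, essSurj := ⟨fun H => ?_⟩ }
  · let c' : GlueCocone ((resSieve R 𝒳).obj G) :=
      { pt := G'.obj (topObj U)
        pt_obj := G'.w_obj (topObj U)
        θ := fun a => app α a ≫ G'.map (toTop a.obj)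
        lift := fun a =>
          have : 𝒳.p.IsHomLift (𝟙 a.obj.left) (app α a) := BasedNatTrans.isHomLift α rfl
          have := over_map_toTop_lift G' a.obj
          IsHomLift.comp_lift_id_left' 𝒳.p a.obj.left (app α a) a.obj.hom (G'.map (toTop a.obj))
        nat := fun {a b} m => by
          rw [← Category.assoc, show (((resSieve R 𝒳).obj G).map m ≫ app α b) =
            app α a ≫ ((resSieve R 𝒳).obj G').map m from α.toNatTrans.naturality m, Category.assoc]
          congr 1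
          exact (topCocone G').nat m }
    obtain ⟨f, hf₁, hf₂⟩ := hf _ (topCocone G) c'
    let φ : G.obj (topObj U) ⟶ G'.obj (topObj U) := f
    have : 𝒳.p.IsHomLift (𝟙 U) φ := hf₁
    refine ⟨extendNatTrans (topSC_of_fibGrpd h𝒳 G') φ, hom_ext fun a => ?_⟩
    have := topSC_of_fibGrpd h𝒳 G' a.obj
    let e := (exists_component (topSC_of_fibGrpd h𝒳 G') φ a.obj).choose
    obtain ⟨h1, h2⟩ := (exists_component (topSC_of_fibGrpd h𝒳 G') φ a.obj).choose_spec
    have h3 : 𝒳.p.IsHomLift (𝟙 a.obj.left) (app α a) := BasedNatTrans.isHomLift α rfl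
    have h1' : 𝒳.p.IsHomLift (𝟙 a.obj.left) e := h1
    change e = app α a
    apply IsStronglyCartesian.ext 𝒳.p a.obj.hom (G'.map (toTop a.obj)) (𝟙 a.obj.left)
    rw [h2]
    exact hf₂ a
  · obtain ⟨c⟩ := he H
    obtain ⟨G, e, hG, hel⟩ := exists_fromOver c.pt_obj
    have hi : ∀ a : (sieveCat R).obj, ∃ i : ((resSieve R 𝒳).obj G).obj a ≅ H.obj a,
        𝒳.p.IsHomLift (𝟙 a.obj.left) i.hom ∧
          i.hom ≫ c.θ a = G.map (toTop a.obj) ≫ e.hom := fun a => by
      have := c.lift a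
      have : 𝒳.p.IsHomLift a.obj.hom (G.map (toTop a.obj) ≫ e.hom) :=
        haveI := over_map_toTop_lift G a.obj
        IsHomLift.comp_lift_id_right' 𝒳.p a.obj.hom (G.map (toTop a.obj)) U e.hom
      exact exists_vertIso h𝒳 a.obj.hom (G.map (toTop a.obj) ≫ e.hom) (c.θ a)
    choose i hi₁ hi₂ using hi
    refine ⟨G, ⟨mkIso i (fun {a b} m => ?_) hi₁⟩⟩
    have := c.lift b
    have := sc_of_fibGrpd h𝒳 b.obj.hom (c.θ b)
    have hm : (sieveCat R).p.IsHomLift m.hom.left m := IsHomLift.map (sieveCat R).p m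
    have h1 : 𝒳.p.IsHomLift m.hom.left (((resSieve R 𝒳).obj G).map m ≫ (i b).hom) :=
      haveI := hi₁ b
      IsHomLift.comp_lift_id_right' 𝒳.p m.hom.left (((resSieve R 𝒳).obj G).map m) b.obj.left
        (i b).hom
    have h2 : 𝒳.p.IsHomLift m.hom.left ((i a).hom ≫ H.map m) :=
      haveI := hi₁ a
      IsHomLift.comp_lift_id_left' 𝒳.p a.obj.left (i a).hom m.hom.left (H.map m)
    apply IsStronglyCartesian.ext 𝒳.p b.obj.hom (c.θ b) m.hom.left
    rw [Category.assoc, hi₂, Category.assoc, c.nat, hi₂, ← Category.assoc]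
    congr 1
    exact (topCocone G).nat m

theorem isStack_of_glue {J : GrothendieckTopology C} (h𝒳 : FibCat.IsFibGrpd 𝒳.p)
    (h : ∀ ⦃U : C⦄ (R : Sieve U), R ∈ J U → GlueHom 𝒳 R ∧
      ∀ H : sieveCat R ⥤ᵇ 𝒳, Nonempty (GlueCocone H)) : IsStack J 𝒳 :=
  ⟨h𝒳, fun _ R hR => isStackFor_of_glue h𝒳 (h R hR).1 (h R hR).2⟩

end Groth.Agent.H14Stk
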