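import Groth.Agent.H14Stk.Glue
import Groth.Agent.H14Stk.Cocone

/-!
# Functors into a stack extend from a locally surjective family of objects
-/

set_option autoImplicit false
set_option backward.isDefEq.respectTransparency false
set_option backward.isDefEq.respectTransparency.types false

universe v₃ u₃ v₂ u₂ v u w

open CategoryTheory CategoryTheory.Functor

namespace Groth.Agent.H14Stk

open H14Fib Stk

variable {C : Type u} [Category.{v} C] {J : GrothendieckTopology C}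
  {𝒳 : BasedCategory.{v₂, u₂} C} {𝒴 : BasedCategory.{v₃, u₃} C}
  {ι : Type w} {P : ι → 𝒳.obj} {Q : ι → 𝒴.obj}

/-- A functor over the base on the full subcategory spanned by a family of objects. -/
structure HomMap (P : ι → 𝒳.obj) (Q : ι → 𝒴.obj) where
  /-- the action on morphisms -/
  map : ∀ {i j : ι}, (P i ⟶ P j) → (Q i ⟶ Q j)
  lift : ∀ {i j : ι} (α : P i ⟶ P j) {V W : C} (g : V ⟶ W),
    𝒳.p.IsHomLift g α → 𝒴.p.IsHomLift g (map α)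
  map_id : ∀ i, map (𝟙 (P i)) = 𝟙 (Q i)
  map_comp : ∀ {i j k : ι} (α : P i ⟶ P j) (β : P j ⟶ P k), map (α ≫ β) = map α ≫ map β

variable (Φ : HomMap P Q)

/-- A value of the extension at an object. -/
structure ExtPt (ξ : 𝒳.obj) where
  /-- the value -/
  pt : 𝒴.obj
  pt_obj : 𝒴.p.obj pt = 𝒳.p.obj ξ
  /-- the structure morphisms -/
  θ : ∀ {i : ι}, (P i ⟶ ξ) → (Q i ⟶ pt)
  lift : ∀ {i : ι} (m : P i ⟶ ξ) {V W : C} (g : V ⟶ W),
    𝒳.p.IsHomLift g m → 𝒴.p.IsHomLift g (θ m)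
  nat : ∀ {i j : ι} (α : P i ⟶ P j) (m : P j ⟶ ξ), θ (α ≫ m) = Φ.map α ≫ θ m

/-- The family is locally surjective. -/
def LocCovers (J : GrothendieckTopology C) (P : ι → 𝒳.obj) : Prop :=
  ∀ ξ : 𝒳.obj, Locally J (𝒳.p.obj ξ) (fun _ f => ∃ (i : ι) (m : P i ⟶ ξ), 𝒳.p.IsHomLift f m)

/-- The family is stable under pullback. -/
def PullStable (P : ι → 𝒳.obj) : Prop :=
  ∀ (j : ι) ⦃V W : C⦄ (g : V ⟶ W), 𝒳.p.obj (P j) = W →
    ∃ (i : ι) (α : P i ⟶ P j), 𝒳.p.IsHomLift g α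

variable {Φ}

omit Φ in
/-- The members over which an object comes from the family form a sieve. -/
def famSieve (hpull : PullStable P) (ξ : 𝒳.obj) : Sieve (𝒳.p.obj ξ) where
  arrows _ f := ∃ (i : ι) (m : P i ⟶ ξ), 𝒳.p.IsHomLift f m
  downward_closed := by
    rintro V W f ⟨i, m, hm⟩ g
    obtain ⟨i', α, hα⟩ := hpull i g (IsHomLift.domain_eq 𝒳.p f m)
    exact ⟨i', α ≫ m, homLift_comp' hα hm⟩

omit Φ in
lemma famSieve_mem (hpull : PullStable P) (hloc : LocCovers J P) (ξ : 𝒳.obj) :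
    famSieve hpull ξ ∈ J (𝒳.p.obj ξ) := by
  obtain ⟨R, hR, h⟩ := hloc ξ
  exact J.superset_covering (fun V f hf => h f hf) hR

lemma exists_extPt (h𝒳 : FibCat.IsFibGrpd 𝒳.p) (h𝒴 : IsStack J 𝒴)
    (hpull : PullStable P) (hloc : LocCovers J P) (ξ : 𝒳.obj) : Nonempty (ExtPt Φ ξ) := by
  let R := famSieve hpull ξ
  have hex : ∀ a : (sieveCat R).obj, ∃ (i : ι) (m : P i ⟶ ξ), 𝒳.p.IsHomLift a.obj.hom m :=
    fun a => a.property
  choose i m hm using hex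
  have hobj : ∀ a : (sieveCat R).obj, 𝒳.p.obj (P (i a)) = a.obj.left := fun a =>
    haveI := hm a
    IsHomLift.domain_eq 𝒳.p a.obj.hom (m a)
  -- the transition morphisms
  have htr : ∀ {a b : (sieveCat R).obj} (k : a ⟶ b), ∃ α : P (i a) ⟶ P (i b),
      𝒳.p.IsHomLift k.hom.left α ∧ α ≫ m b = m a := by
    intro a b k
    have := hm a
    have := hm b
    have := sc_of_fibGrpd h𝒳 b.obj.hom (m b)
    obtain ⟨α, ⟨h1, h2⟩, -⟩ := IsStronglyCartesian.universal_property 𝒳.p b.obj.hom (m b)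
      k.hom.left a.obj.hom (Over.w k.hom).symm (m a)
    exact ⟨α, h1, h2⟩
  have huniq : ∀ {a b : (sieveCat R).obj} (k : a ⟶ b) (α α' : P (i a) ⟶ P (i b)),
      𝒳.p.IsHomLift k.hom.left α → 𝒳.p.IsHomLift k.hom.left α' → α ≫ m b = α' ≫ m b → α = α' := by
    intro a b k α α' _ _ e
    have := hm b
    have := sc_of_fibGrpd h𝒳 b.obj.hom (m b)
    exact IsStronglyCartesian.ext 𝒳.p b.obj.hom (m b) k.hom.left e
  let tr : ∀ {a b : (sieveCat R).obj} (_ : a ⟶ b), P (i a) ⟶ P (i b) := fun k => (htr k).choose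
  have trl : ∀ {a b : (sieveCat R).obj} (k : a ⟶ b), 𝒳.p.IsHomLift k.hom.left (tr k) :=
    fun k => (htr k).choose_spec.1
  have tre : ∀ {a b : (sieveCat R).obj} (k : a ⟶ b), tr k ≫ m b = m a :=
    fun k => (htr k).choose_spec.2
  let H : sieveCat R ⥤ᵇ 𝒴 :=
    { toFunctor :=
        { obj := fun a => Q (i a)
          map := fun k => Φ.map (tr k)
          map_id := fun a => by
            have h1 : 𝒳.p.IsHomLift (𝟙 a : a ⟶ a).hom.left (𝟙 (P (i a))) :=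
              IsHomLift.id (hobj a)
            rw [huniq (𝟙 a) (tr (𝟙 a)) (𝟙 _) (trl _) h1 (by rw [tre, Category.id_comp]), Φ.map_id]
          map_comp := fun {a b c} k l => by
            have h1 : 𝒳.p.IsHomLift (k ≫ l).hom.left (tr k ≫ tr l) := homLift_comp' (trl k) (trl l)
            rw [huniq (k ≫ l) (tr (k ≫ l)) _ (trl _) h1 (by rw [tre, Category.assoc, tre, tre]),
              Φ.map_comp] }
      w := CategoryTheory.Functor.ext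
        (fun a => by
          have h1 := Φ.lift (𝟙 (P (i a))) (𝟙 a.obj.left) (IsHomLift.id (hobj a))
          exact IsHomLift.domain_eq 𝒴.p (𝟙 a.obj.left) (Φ.map (𝟙 (P (i a)))))
        (fun a b k => @IsHomLift.fac' _ _ _ _ 𝒴.p _ _ _ _ k.hom.left (Φ.map (tr k))
          (Φ.lift _ _ (trl k))) }
  have : (resSieve R 𝒴).IsEquivalence := h𝒴.2 _ (famSieve_mem hpull hloc ξ)
  let G := (resSieve R 𝒴).objPreimage H
  let ε : (resSieve R 𝒴).obj G ≅ H := (resSieve R 𝒴).objObjPreimageIso H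
  let t : ∀ a : (sieveCat R).obj, Q (i a) ⟶ G.obj (topObj (𝒳.p.obj ξ)) :=
    fun a => app ε.inv a ≫ G.map (toTop a.obj)
  have ht : ∀ a, 𝒴.p.IsHomLift a.obj.hom (t a) := fun a => by
    have h1 : 𝒴.p.IsHomLift (𝟙 a.obj.left) (app ε.inv a) := BasedNatTrans.isHomLift ε.inv rfl
    simpa [t] using homLift_comp' h1 (over_map_toTop_lift G a.obj)
  have htn : ∀ {a b : (sieveCat R).obj} (k : a ⟶ b), Φ.map (tr k) ≫ t b = t a := by
    intro a b k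
    change H.map k ≫ app ε.inv b ≫ _ = app ε.inv a ≫ _
    rw [← Category.assoc, show H.map k ≫ app ε.inv b = app ε.inv a ≫ ((resSieve R 𝒴).obj G).map k
      from ε.inv.toNatTrans.naturality k, Category.assoc]
    congr 1
    exact (topCocone (R := R) G).nat k
  -- the member of a morphism from the family
  let mem : ∀ {j : ι} (n : P j ⟶ ξ), (sieveCat R).obj := fun {j} n =>
    ⟨Over.mk (𝒳.p.map n), j, n, IsHomLift.map 𝒳.p n⟩
  have hv : ∀ {j : ι} (n : P j ⟶ ξ), ∃ α : P j ⟶ P (i (mem n)),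
      𝒳.p.IsHomLift (𝟙 (𝒳.p.obj (P j))) α ∧ α ≫ m (mem n) = n := by
    intro j n
    have := IsHomLift.map 𝒳.p n
    have : 𝒳.p.IsHomLift (𝒳.p.map n) (m (mem n)) := hm (mem n)
    obtain ⟨α, h1, h2⟩ := exists_vertIso h𝒳 (𝒳.p.map n) n (m (mem n))
    exact ⟨α.hom, h1, h2⟩
  choose α hα hαe using @hv
  refine ⟨{ pt := G.obj (topObj (𝒳.p.obj ξ)), pt_obj := G.w_obj _,
            θ := fun {j} n => Φ.map (α n) ≫ t (mem n)
            lift := fun {j} n V W g hg => ?_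
            nat := fun {j k} β n => ?_ }⟩
  · obtain rfl := IsHomLift.domain_eq 𝒳.p g n
    obtain rfl := IsHomLift.codomain_eq 𝒳.p g n
    obtain rfl : g = 𝒳.p.map n := by simpa using (IsHomLift.fac 𝒳.p g n)
    have h1 : 𝒴.p.IsHomLift (𝒳.p.map n) (t (mem n)) := ht (mem n)
    have := homLift_comp' (Φ.lift _ _ (hα n)) h1
    rwa [Category.id_comp] at this
  · let K : mem (β ≫ n) ⟶ mem n := ObjectProperty.homMk (Over.homMk (𝒳.p.map β)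
      (𝒳.p.map_comp β n).symm)
    rw [← htn K, ← Category.assoc (Φ.map (α (β ≫ n))) (Φ.map (tr K)) (t (mem n)),
      ← Category.assoc (Φ.map β) (Φ.map (α n)) (t (mem n)), ← Φ.map_comp, ← Φ.map_comp]
    congr 2
    have h1 : 𝒳.p.IsHomLift (𝒳.p.map β) (tr K) := trl K
    have h2 : 𝒳.p.IsHomLift (𝒳.p.map β) (α (β ≫ n) ≫ tr K) := by
      simpa using homLift_comp' (hα (β ≫ n)) h1
    have h3 : 𝒳.p.IsHomLift (𝒳.p.map β) (β ≫ α n) := by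
      simpa using homLift_comp' (IsHomLift.map 𝒳.p β) (hα n)
    have : 𝒳.p.IsHomLift (𝒳.p.map n) (m (mem n)) := hm (mem n)
    have := sc_of_fibGrpd h𝒳 (𝒳.p.map n) (m (mem n))
    refine IsStronglyCartesian.ext 𝒳.p (𝒳.p.map n) (m (mem n)) (𝒳.p.map β) ?_
    rw [Category.assoc, tre, hαe, Category.assoc, hαe]

lemma extPt_hom (h𝒳 : FibCat.IsFibGrpd 𝒳.p) (h𝒴 : IsPrestack J 𝒴) (hpull : PullStable P)
    (hloc : LocCovers J P) {ξ ξ' : 𝒳.obj} (E : ExtPt Φ ξ) (E' : ExtPt Φ ξ') (a : ξ ⟶ ξ') :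
    ∃! b : E.pt ⟶ E'.pt, 𝒴.p.IsHomLift (𝒳.p.map a) b ∧
      ∀ {i : ι} (m : P i ⟶ ξ), E.θ m ≫ b = E'.θ (m ≫ a) := by
  have hY := h𝒴.1
  -- a morphism to a member factors through a pulled back member
  have hfac : ∀ {i : ι} {s : 𝒴.obj} (m : P i ⟶ ξ) (k : s ⟶ Q i) {V : C} (f : V ⟶ 𝒳.p.obj ξ),
      𝒴.p.IsHomLift f (k ≫ E.θ m) → ∃ (i' : ι) (μ : P i' ⟶ P i) (v : s ≅ Q i'),
        𝒴.p.IsHomLift (𝟙 V) v.hom ∧ v.hom ≫ Φ.map μ = k ∧ 𝒳.p.IsHomLift f (μ ≫ m) := by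
    intro i s m k V f hkm
    have hs : 𝒴.p.obj s = V := IsHomLift.domain_eq 𝒴.p f (k ≫ E.θ m)
    have hq : 𝒴.p.obj (Q i) = 𝒳.p.obj (P i) :=
      @IsHomLift.domain_eq _ _ _ _ 𝒴.p _ _ _ _ (𝒳.p.map m) (E.θ m)
        (E.lift m _ (IsHomLift.map 𝒳.p m))
    let g : V ⟶ 𝒳.p.obj (P i) := eqToHom hs.symm ≫ 𝒴.p.map k ≫ eqToHom hq
    have hk : 𝒴.p.IsHomLift g k := IsHomLift.of_fac' 𝒴.p g k hs hq (by simp [g])
    obtain ⟨i', μ, hμ⟩ := hpull i g rfl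
    have := Φ.lift μ g hμ
    obtain ⟨v, hv, hve⟩ := exists_vertIso hY g k (Φ.map μ)
    refine ⟨i', μ, v, hv, hve, ?_⟩
    have h1 : 𝒴.p.IsHomLift (g ≫ 𝒳.p.map m) (k ≫ E.θ m) :=
      homLift_comp' hk (E.lift m _ (IsHomLift.map 𝒳.p m))
    have : g ≫ 𝒳.p.map m = f := by
      have e1 := @IsHomLift.fac _ _ _ _ 𝒴.p _ _ _ _ f (k ≫ E.θ m) hkm
      rw [e1, ← @IsHomLift.fac _ _ _ _ 𝒴.p _ _ _ _ _ _ h1]
    exact this ▸ homLift_comp' hμ (IsHomLift.map 𝒳.p m)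
  -- consistency
  have hcons : ∀ {i j : ι} {s : 𝒴.obj} (m : P i ⟶ ξ) (k : s ⟶ Q i) (n : P j ⟶ ξ) (l : s ⟶ Q j),
      k ≫ E.θ m = l ≫ E.θ n → k ≫ E'.θ (m ≫ a) = l ≫ E'.θ (n ≫ a) := by
    intro i j s m k n l e
    let f : 𝒴.p.obj s ⟶ 𝒳.p.obj ξ := 𝒴.p.map (k ≫ E.θ m) ≫ eqToHom E.pt_obj
    have hf : 𝒴.p.IsHomLift f (k ≫ E.θ m) :=
      IsHomLift.of_fac' 𝒴.p f _ rfl E.pt_obj (by simp [f])
    obtain ⟨i', μ, v, hv, hve, hμm⟩ := hfac m k f hf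
    obtain ⟨j', ν, w, hw, hwe, hνn⟩ := hfac n l f (e ▸ hf)
    obtain ⟨A, hA, hAe⟩ := exists_vertIso h𝒳 f (μ ≫ m) (ν ≫ n)
    have hθ := E.lift (ν ≫ n) f hνn
    have := sc_of_fibGrpd hY f (E.θ (ν ≫ n))
    have h1 : 𝒴.p.IsHomLift (𝟙 (𝒴.p.obj s)) (v.hom ≫ Φ.map A.hom) :=
      homLift_id_comp hv (Φ.lift _ _ hA)
    have key : v.hom ≫ Φ.map A.hom = w.hom := by
      refine IsStronglyCartesian.ext 𝒴.p f (E.θ (ν ≫ n)) (𝟙 (𝒴.p.obj s)) ?_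
      rw [Category.assoc, ← E.nat, hAe, E.nat, E.nat, reassoc_of% hve, reassoc_of% hwe, e]
    rw [← hve, ← hwe, ← key]
    simp only [Category.assoc]
    rw [← E'.nat, ← E'.nat, ← E'.nat, reassoc_of% hAe]
  have := isFibered_of_fibGrpd hY
  obtain ⟨η'', χ, hχ⟩ := exists_sc_lift hY (a := E'.pt) E'.pt_obj (𝒳.p.map a)
  have hη'' : 𝒴.p.obj η'' = 𝒳.p.obj ξ := IsHomLift.domain_eq 𝒴.p (𝒳.p.map a) χ
  have hsc := sc_of_fibGrpd hY (𝒳.p.map a) χ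
  let Good : ∀ ⦃s : 𝒴.obj⦄, (s ⟶ E.pt) → (s ⟶ η'') → Prop := fun s ψ χ' =>
    ∃ (i : ι) (m : P i ⟶ ξ) (k : s ⟶ Q i), k ≫ E.θ m = ψ ∧ χ' ≫ χ = k ≫ E'.θ (m ≫ a)
  obtain ⟨b, hb, hbP⟩ := exists_vert_of_local h𝒴 (famSieve_mem hpull hloc ξ) E.pt_obj hη'' Good
    (fun s t k ψ χ' ⟨i, m, l, h1, h2⟩ =>
      ⟨i, m, k ≫ l, by rw [Category.assoc, h1], by rw [Category.assoc, h2, Category.assoc]⟩)
    (fun V f hf s ψ hψ => by
      obtain ⟨i, m, hm⟩ := hf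
      have := E.lift m f hm
      obtain ⟨k, hk, hke⟩ := exists_vertIso hY f ψ (E.θ m)
      have hl : 𝒴.p.IsHomLift (f ≫ 𝒳.p.map a) (k.hom ≫ E'.θ (m ≫ a)) := by
        simpa using homLift_comp' hk
          (E'.lift _ _ (homLift_comp' hm (IsHomLift.map 𝒳.p a)))
      obtain ⟨χ', ⟨h1, h2⟩, -⟩ := IsStronglyCartesian.universal_property 𝒴.p (𝒳.p.map a) χ
        f (f ≫ 𝒳.p.map a) rfl (k.hom ≫ E'.θ (m ≫ a))
      exact ⟨χ', h1, i, m, k.hom, hke, h2⟩)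
    (fun V f hf s ψ χ₁ χ₂ hψ h₁ h₂ ⟨i, m, k, hk, hk'⟩ ⟨j, n, l, hl, hl'⟩ => by
      refine IsStronglyCartesian.ext 𝒴.p (𝒳.p.map a) χ f ?_
      rw [hk', hl']
      exact hcons m k n l (hk.trans hl.symm))
  have hbχ : 𝒴.p.IsHomLift (𝒳.p.map a) (b ≫ χ) := by simpa using homLift_comp' hb hχ.toIsHomLift
  refine ⟨b ≫ χ, ⟨hbχ, fun {i} m => ?_⟩, fun b' ⟨hb', hb'e⟩ => ?_⟩
  · have hθ := E.lift m _ (IsHomLift.map 𝒳.p m)
    obtain ⟨j, n, l, h1, h2⟩ := hbP (𝒳.p.map m) ⟨i, m, IsHomLift.map 𝒳.p m⟩ (E.θ m) hθ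
    rw [← Category.assoc, h2]
    exact (hcons n l m (𝟙 _) (by rw [h1, Category.id_comp])).trans (Category.id_comp _)
  · obtain ⟨c, ⟨hc, hce⟩, -⟩ := IsStronglyCartesian.universal_property 𝒴.p (𝒳.p.map a) χ
      (𝟙 (𝒳.p.obj ξ)) (𝒳.p.map a) (Category.id_comp _).symm b'
    rw [← hce]
    congr 1
    refine vert_ext_of_local h𝒴 (famSieve_mem hpull hloc ξ) c b fun V f hf s ψ hψ => ?_
    obtain ⟨i, m, hm⟩ := hf
    have := E.lift m f hm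
    obtain ⟨k, hk, hke⟩ := exists_vertIso hY f ψ (E.θ m)
    have h1 : 𝒴.p.IsHomLift f (ψ ≫ c) := IsHomLift.comp_lift_id_right' 𝒴.p f ψ (𝒳.p.obj ξ) c
    have h2 : 𝒴.p.IsHomLift f (ψ ≫ b) := IsHomLift.comp_lift_id_right' 𝒴.p f ψ (𝒳.p.obj ξ) b
    refine IsStronglyCartesian.ext 𝒴.p (𝒳.p.map a) χ f ?_
    obtain ⟨j, n, l, h3, h4⟩ := hbP f ⟨i, m, hm⟩ ψ hψ
    rw [h4, Category.assoc, hce, ← hke, Category.assoc, hb'e]
    exact hcons m k.hom n l (hke.trans h3.symm)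

/-- A functor on a locally surjective full subcategory extends to a stack. -/
theorem exists_extension (h𝒳 : FibCat.IsFibGrpd 𝒳.p) (h𝒴 : IsStack J 𝒴) (Φ : HomMap P Q)
    (hpull : PullStable P) (hloc : LocCovers J P) :
    ∃ (e : 𝒳 ⥤ᵇ 𝒴) (v : ∀ i, Q i ⟶ e.obj (P i)),
      (∀ i, 𝒴.p.IsHomLift (𝟙 (𝒳.p.obj (P i))) (v i)) ∧
        ∀ {i j : ι} (α : P i ⟶ P j), Φ.map α ≫ v j = v i ≫ e.map α := by
  let E : ∀ ξ, ExtPt Φ ξ := fun ξ => (exists_extPt h𝒳 h𝒴 hpull hloc ξ).some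
  have hu := fun {ξ ξ' : 𝒳.obj} (a : ξ ⟶ ξ') =>
    extPt_hom h𝒳 (isPrestack_of_isStack h𝒴) hpull hloc (E ξ) (E ξ') a
  let e : 𝒳 ⥤ᵇ 𝒴 :=
    { toFunctor :=
        { obj := fun ξ => (E ξ).pt
          map := fun a => (hu a).exists.choose
          map_id := fun ξ => (hu (𝟙 ξ)).unique (hu (𝟙 ξ)).exists.choose_spec
            ⟨by simpa using IsHomLift.id (E ξ).pt_obj, fun m => by simp⟩
          map_comp := fun {ξ ξ' ξ''} a b => (hu (a ≫ b)).unique (hu (a ≫ b)).exists.choose_spec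
            ⟨by simpa using homLift_comp' (hu a).exists.choose_spec.1 (hu b).exists.choose_spec.1,
              fun m => by
                rw [← Category.assoc, (hu a).exists.choose_spec.2 m,
                  (hu b).exists.choose_spec.2 (m ≫ a), Category.assoc]⟩ }
      w := CategoryTheory.Functor.ext (fun ξ => (E ξ).pt_obj) (fun ξ ξ' a =>
        @IsHomLift.fac' _ _ _ _ 𝒴.p _ _ _ _ (𝒳.p.map a) _ (hu a).exists.choose_spec.1) }
  refine ⟨e, fun i => (E (P i)).θ (𝟙 (P i)), fun i => (E (P i)).lift _ _ (IsHomLift.id rfl),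
    fun {i j} α => ?_⟩
  rw [← (E (P j)).nat, Category.comp_id]
  refine ((congrArg _ (Category.id_comp α)).symm.trans ?_)
  exact ((hu α).exists.choose_spec.2 (𝟙 (P i))).symm

/-- Two functors which agree on the family are isomorphic. -/
theorem iso_of_agree (h𝒳 : FibCat.IsFibGrpd 𝒳.p) (h𝒴 : IsPrestack J 𝒴) (Φ : HomMap P Q)
    (hpull : PullStable P) (hloc : LocCovers J P) (F G : 𝒳 ⥤ᵇ 𝒴)
    (u : ∀ i, Q i ⟶ F.obj (P i)) (hu : ∀ i, 𝒴.p.IsHomLift (𝟙 (𝒳.p.obj (P i))) (u i))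
    (hun : ∀ {i j : ι} (α : P i ⟶ P j), Φ.map α ≫ u j = u i ≫ F.map α)
    (w : ∀ i, Q i ⟶ G.obj (P i)) (hw : ∀ i, 𝒴.p.IsHomLift (𝟙 (𝒳.p.obj (P i))) (w i))
    (hwn : ∀ {i j : ι} (α : P i ⟶ P j), Φ.map α ≫ w j = w i ≫ G.map α) : Nonempty (F ≅ G) := by
  have mk : ∀ (H : 𝒳 ⥤ᵇ 𝒴) (v : ∀ i, Q i ⟶ H.obj (P i))
      (_ : ∀ i, 𝒴.p.IsHomLift (𝟙 (𝒳.p.obj (P i))) (v i))
      (_ : ∀ {i j : ι} (α : P i ⟶ P j), Φ.map α ≫ v j = v i ≫ H.map α) (ξ : 𝒳.obj),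
      ∃ E : ExtPt Φ ξ, ∃ h : E.pt = H.obj ξ, ∀ {i : ι} (m : P i ⟶ ξ),
        E.θ m = v i ≫ H.map m ≫ eqToHom h.symm := by
    intro H v hv hvn ξ
    refine ⟨{ pt := H.obj ξ, pt_obj := H.w_obj ξ, θ := fun {i} m => v i ≫ H.map m
              lift := fun {i} m V W g hg => ?_
              nat := fun {i j} α m => ?_ }, rfl, fun m => by simp⟩
    · obtain rfl : 𝒳.p.obj (P i) = V := IsHomLift.domain_eq 𝒳.p g m
      have := @BasedFunctor.preserves_isHomLift _ _ _ _ H _ _ _ _ g m hg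
      have := hv i
      simpa using homLift_comp' (hv i) (@BasedFunctor.preserves_isHomLift _ _ _ _ H _ _ _ _ g m hg)
    · rw [H.toFunctor.map_comp, ← Category.assoc, ← hvn, Category.assoc]
  have key : ∀ ξ, ∃! b : F.obj ξ ⟶ G.obj ξ, 𝒴.p.IsHomLift (𝟙 (𝒳.p.obj ξ)) b ∧
      ∀ {i : ι} (m : P i ⟶ ξ), (u i ≫ F.map m) ≫ b = w i ≫ G.map m := by
    intro ξ
    obtain ⟨⟨e, he, θ, hl, hn⟩, h, hθ⟩ := mk F u hu hun ξ
    dsimp at h hθ
    subst h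
    obtain ⟨⟨e', he', θ', hl', hn'⟩, h', hθ'⟩ := mk G w hw hwn ξ
    dsimp at h' hθ'
    subst h'
    have h1 := extPt_hom h𝒳 h𝒴 hpull hloc ⟨_, he, θ, hl, hn⟩ ⟨_, he', θ', hl', hn'⟩ (𝟙 ξ)
    simpa [hθ, hθ'] using h1
  choose b hb using fun ξ => (key ξ).exists
  have nat : ∀ {ξ ξ' : 𝒳.obj} (a : ξ ⟶ ξ'), F.map a ≫ b ξ' = b ξ ≫ G.map a := by
    intro ξ ξ' a
    obtain ⟨⟨e, he, θ, hl, hn⟩, h, hθ⟩ := mk F u hu hun ξ
    dsimp at h hθ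
    subst h
    obtain ⟨⟨e', he', θ', hl', hn'⟩, h', hθ'⟩ := mk G w hw hwn ξ'
    dsimp at h' hθ'
    subst h'
    refine (extPt_hom h𝒳 h𝒴 hpull hloc ⟨_, he, θ, hl, hn⟩ ⟨_, he', θ', hl', hn'⟩ a).unique
      ⟨?_, fun m => ?_⟩ ⟨?_, fun m => ?_⟩
    · simpa using homLift_comp' (@BasedFunctor.preserves_isHomLift _ _ _ _ F _ _ _ _ _ a
        (IsHomLift.map 𝒳.p a)) (hb ξ').1
    · simp only [hθ, hθ', eqToHom_refl, Category.comp_id]
      have := (hb ξ').2 (m ≫ a)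
      rw [F.toFunctor.map_comp] at this
      simpa using this
    · simpa using homLift_comp' (hb ξ).1 (@BasedFunctor.preserves_isHomLift _ _ _ _ G _ _ _ _ _ a
        (IsHomLift.map 𝒳.p a))
    · simp only [hθ, hθ', eqToHom_refl, Category.comp_id]
      rw [← Category.assoc, (hb ξ).2 m, G.toFunctor.map_comp, Category.assoc]
  have hiso : ∀ ξ, IsIso (b ξ) := fun ξ =>
    haveI := (hb ξ).1
    isIso_of_fibGrpd h𝒴.1 (𝟙 (𝒳.p.obj ξ)) (b ξ)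
  exact ⟨mkIso (fun ξ => asIso (b ξ)) (fun a => nat a) (fun ξ => (hb ξ).1)⟩

/-- The identity on a family. -/
protected def HomMap.id {ℬ : BasedCategory C} (R : ι → ℬ.obj) : HomMap R R where
  map α := α
  lift _ _ _ _ h := h
  map_id _ := rfl
  map_comp _ _ := rfl

/-- An extension of mutually inverse maps on locally surjective families is an equivalence of
stacks. -/
theorem isEquivOver_of_extension (h𝒳 : IsStack J 𝒳) (h𝒴 : IsStack J 𝒴) (Φ : HomMap P Q)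
    (Ψ : HomMap Q P) (hΨΦ : ∀ {i j : ι} (α : P i ⟶ P j), Ψ.map (Φ.map α) = α)
    (hΦΨ : ∀ {i j : ι} (β : Q i ⟶ Q j), Φ.map (Ψ.map β) = β)
    (hpull : PullStable P) (hloc : LocCovers J P) (hpull' : PullStable Q)
    (hloc' : LocCovers J Q) (e : 𝒳 ⥤ᵇ 𝒴) (v : ∀ i, Q i ⟶ e.obj (P i))
    (hv : ∀ i, 𝒴.p.IsHomLift (𝟙 (𝒳.p.obj (P i))) (v i))
    (hvn : ∀ {i j : ι} (α : P i ⟶ P j), Φ.map α ≫ v j = v i ≫ e.map α) :
    FibCat.IsEquivOver e := by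
  obtain ⟨e', v', hv', hvn'⟩ := exists_extension h𝒴.1 h𝒳 Ψ hpull' hloc'
  have hobj : ∀ i, 𝒴.p.obj (Q i) = 𝒳.p.obj (P i) := fun i =>
    @IsHomLift.domain_eq _ _ _ _ 𝒴.p _ _ _ _ (𝟙 (𝒳.p.obj (P i))) (Φ.map (𝟙 (P i)))
      (Φ.lift _ _ (IsHomLift.id rfl))
  refine ⟨e', iso_of_agree h𝒳.1 (isPrestack_of_isStack h𝒳) (HomMap.id P) hpull hloc
    (BasedFunctor.comp e e') (BasedFunctor.id 𝒳) (fun i => v' i ≫ e'.map (v i)) ?_ ?_
    (fun i => 𝟙 _) (fun i => IsHomLift.id rfl) (fun {i j} α => ?_),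
    iso_of_agree h𝒴.1 (isPrestack_of_isStack h𝒴) (HomMap.id Q) hpull' hloc'
    (BasedFunctor.comp e' e) (BasedFunctor.id 𝒴) (fun i => v i ≫ e.map (v' i)) ?_ ?_
    (fun i => 𝟙 _) (fun i => IsHomLift.id rfl) (fun {i j} α => ?_)⟩
  · intro i
    have h1 : 𝒳.p.IsHomLift (𝟙 (𝒳.p.obj (P i))) (e'.map (v i)) :=
      @BasedFunctor.preserves_isHomLift _ _ _ _ e' _ _ _ _ _ _ (hv i)
    have h2 : 𝒳.p.IsHomLift (𝟙 (𝒳.p.obj (P i))) (v' i) := hobj i ▸ hv' i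
    exact homLift_id_comp h2 h1
  · intro i j α
    change α ≫ v' j ≫ e'.map (v j) = (v' i ≫ e'.map (v i)) ≫ e'.map (e.map α)
    rw [Category.assoc, ← e'.toFunctor.map_comp, ← hvn, e'.toFunctor.map_comp, ← Category.assoc (v' i),
      ← hvn', hΨΦ, Category.assoc]
  · exact (Category.comp_id α).trans (Category.id_comp α).symm
  · intro i
    have h1 : 𝒴.p.IsHomLift (𝟙 (𝒴.p.obj (Q i))) (e.map (v' i)) :=
      @BasedFunctor.preserves_isHomLift _ _ _ _ e _ _ _ _ _ _ (hv' i)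
    have h2 : 𝒴.p.IsHomLift (𝟙 (𝒴.p.obj (Q i))) (v i) := (hobj i).symm ▸ hv i
    exact homLift_id_comp h2 h1
  · intro i j α
    change α ≫ v j ≫ e.map (v' j) = (v i ≫ e.map (v' i)) ≫ e.map (e'.map α)
    rw [Category.assoc, ← e.toFunctor.map_comp, ← hvn', e.toFunctor.map_comp, ← Category.assoc (v i),
      ← hvn, hΦΨ, Category.assoc]
  · exact (Category.comp_id α).trans (Category.id_comp α).symm

/-- Mutually inverse maps on locally surjective families give an equivalence of stacks. -/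
theorem exists_equiv_extension (h𝒳 : IsStack J 𝒳) (h𝒴 : IsStack J 𝒴) (Φ : HomMap P Q)
    (Ψ : HomMap Q P) (hΨΦ : ∀ {i j : ι} (α : P i ⟶ P j), Ψ.map (Φ.map α) = α)
    (hΦΨ : ∀ {i j : ι} (β : Q i ⟶ Q j), Φ.map (Ψ.map β) = β)
    (hpull : PullStable P) (hloc : LocCovers J P) (hpull' : PullStable Q)
    (hloc' : LocCovers J Q) : ∃ e : 𝒳 ⥤ᵇ 𝒴, FibCat.IsEquivOver e := by
  obtain ⟨e, v, hv, hvn⟩ := exists_extension h𝒳.1 h𝒴 Φ hpull hloc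
  exact ⟨e, isEquivOver_of_extension h𝒳 h𝒴 Φ Ψ hΨΦ hΦΨ hpull hloc hpull' hloc' e v hv hvn⟩

end Groth.Agent.H14Stk
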