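import Groth.Agent.H14Stk.Extend

/-!
# An equivalence of stacks from a fully faithful correspondence of generating families
-/

set_option autoImplicit false
set_option backward.isDefEq.respectTransparency false
set_option backward.isDefEq.respectTransparency.types false

universe v₃ u₃ v₂ u₂ v u w

open CategoryTheory CategoryTheory.Functor

namespace Groth.Agent.H14Stk

open H14Fib Stk

variable {C : Type u} [Category.{v} C] {J : GrothendieckTopology C}
  {𝒳 : BasedCategory.{v₂, u₂} C} {𝒴 : BasedCategory.{v₃, u₃} C}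
  {ι : Type w} {P : ι → 𝒳.obj} {Q : ι → 𝒴.obj} (Φ : HomMap P Q)

include Φ in
lemma HomMap.obj_eq (i : ι) : 𝒴.p.obj (Q i) = 𝒳.p.obj (P i) :=
  @IsHomLift.domain_eq _ _ _ _ 𝒴.p _ _ _ _ (𝟙 (𝒳.p.obj (P i))) (Φ.map (𝟙 (P i)))
    (Φ.lift _ _ (IsHomLift.id rfl))

/-- A bijective action on morphisms lifts only what comes from a lift. -/
lemma HomMap.lift_of_map {i j : ι} (α : P i ⟶ P j) {V W : C} (g : V ⟶ W)
    (h : 𝒴.p.IsHomLift g (Φ.map α)) : 𝒳.p.IsHomLift g α := by
  have hV : 𝒳.p.obj (P i) = V := (Φ.obj_eq i).symm.trans (IsHomLift.domain_eq 𝒴.p g (Φ.map α))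
  have hW : 𝒳.p.obj (P j) = W := (Φ.obj_eq j).symm.trans (IsHomLift.codomain_eq 𝒴.p g (Φ.map α))
  subst hV hW
  have h1 := Φ.lift α _ (IsHomLift.map 𝒳.p α)
  have e : g = 𝒳.p.map α := by
    rw [@IsHomLift.fac _ _ _ _ 𝒴.p _ _ _ _ g (Φ.map α) h,
      ← @IsHomLift.fac _ _ _ _ 𝒴.p _ _ _ _ _ (Φ.map α) h1]
  exact e ▸ IsHomLift.map 𝒳.p α

/-- An extension of a fully faithful correspondence of generating families is an equivalence of
stacks. -/
theorem isEquivOver_of_bijective (h𝒳 : IsStack J 𝒳) (h𝒴 : IsStack J 𝒴)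
    (hbij : ∀ i j, Function.Bijective (Φ.map : (P i ⟶ P j) → (Q i ⟶ Q j)))
    (hpull : PullStable P) (hloc : LocCovers J P) (hloc' : LocCovers J Q) (e : 𝒳 ⥤ᵇ 𝒴)
    (v : ∀ i, Q i ⟶ e.obj (P i)) (hv : ∀ i, 𝒴.p.IsHomLift (𝟙 (𝒳.p.obj (P i))) (v i))
    (hvn : ∀ {i j : ι} (α : P i ⟶ P j), Φ.map α ≫ v j = v i ≫ e.map α) :
    FibCat.IsEquivOver e := by
  let E := fun i j => Equiv.ofBijective _ (hbij i j)
  let Ψ : HomMap Q P :=
    { map := fun {i j} β => (E i j).symm β
      lift := fun {i j} β V W g hg => Φ.lift_of_map _ g (by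
        rw [show Φ.map ((E i j).symm β) = β from (E i j).apply_symm_apply β]
        exact hg)
      map_id := fun i => (E i i).injective (by
        rw [(E i i).apply_symm_apply]
        exact (Φ.map_id i).symm)
      map_comp := fun {i j k} β β' => (E i k).injective (by
        rw [(E i k).apply_symm_apply]
        change _ = Φ.map _
        rw [Φ.map_comp]
        exact (congrArg₂ (· ≫ ·) ((E i j).apply_symm_apply β) ((E j k).apply_symm_apply β')).symm) }
  refine isEquivOver_of_extension h𝒳 h𝒴 Φ Ψ (fun α => (E _ _).symm_apply_apply α)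
    (fun β => (E _ _).apply_symm_apply β) hpull hloc (fun j V W g hW => ?_) hloc' e v hv hvn
  obtain ⟨i, α, hα⟩ := hpull j g ((Φ.obj_eq j).symm.trans hW)
  exact ⟨i, Φ.map α, Φ.lift α g hα⟩

/-- A fully faithful correspondence of generating families gives an equivalence of stacks. -/
theorem exists_equiv_of_bijective (h𝒳 : IsStack J 𝒳) (h𝒴 : IsStack J 𝒴)
    (hbij : ∀ i j, Function.Bijective (Φ.map : (P i ⟶ P j) → (Q i ⟶ Q j)))
    (hpull : PullStable P) (hloc : LocCovers J P) (hloc' : LocCovers J Q) :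
    ∃ e : 𝒳 ⥤ᵇ 𝒴, FibCat.IsEquivOver e := by
  obtain ⟨e, v, hv, hvn⟩ := exists_extension h𝒳.1 h𝒴 Φ hpull hloc
  exact ⟨e, isEquivOver_of_bijective Φ h𝒳 h𝒴 hbij hpull hloc hloc' e v hv hvn⟩

end Groth.Agent.H14Stk
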