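import Groth.Prelude.Def_StGerb
import Groth.Prelude.Def_StGerb2
import Groth.Agent.H14Stk.Glue
import Groth.Agent.H14Fib.FiberFun

/-!
# Gerbes: automorphisms, local isomorphisms with a global object
-/

set_option autoImplicit false
set_option backward.isDefEq.respectTransparency false
set_option backward.isDefEq.respectTransparency.types false

universe v₄ u₄ v₃ u₃ v₂ u₂ v u

open CategoryTheory CategoryTheory.Functor CategoryTheory.Limits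

namespace Groth.Agent.H14Stk

open H14Fib Stk Gerb

variable {C : Type u} [Category.{v} C] {J : GrothendieckTopology C}
variable {𝒳 : BasedCategory.{v₂, u₂} C}

section Aut

variable {x : 𝒳.obj}

/-- An automorphism over the identity, as an isomorphism of the underlying category. -/
def autIso (α : AutO x) : x ≅ x := (Functor.Fiber.fiberInclusion).mapIso α

lemma autIso_hom (α : AutO x) : (autIso α).hom = α.hom.1 := rfl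

lemma autIso_lift (α : AutO x) : 𝒳.p.IsHomLift (𝟙 (𝒳.p.obj x)) α.hom.1 := α.hom.2

/-- A vertical isomorphism as an element of the automorphism group. -/
def autMk (e : x ≅ x) (he : 𝒳.p.IsHomLift (𝟙 (𝒳.p.obj x)) e.hom) : AutO x :=
  fiberIso (a := fib x) (b := fib x) e he

lemma autMk_hom (e : x ≅ x) (he : 𝒳.p.IsHomLift (𝟙 (𝒳.p.obj x)) e.hom) :
    (autMk e he).hom.1 = e.hom := rfl

lemma autO_ext {α β : AutO x} (h : α.hom.1 = β.hom.1) : α = β := Aut.ext (Subtype.ext h)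

lemma autO_mul_hom (α β : AutO x) : (α * β).hom.1 = β.hom.1 ≫ α.hom.1 := rfl

lemma autO_one_hom : (1 : AutO x).hom.1 = 𝟙 x := rfl

lemma autO_hom_inv (α : AutO x) : α.hom.1 ≫ α.inv.1 = 𝟙 x := congrArg Subtype.val α.hom_inv_id

lemma autO_inv_hom (α : AutO x) : α.inv.1 ≫ α.hom.1 = 𝟙 x := congrArg Subtype.val α.inv_hom_id

lemma autO_inv_hom_eq (α : AutO x) : (α⁻¹).hom.1 = α.inv.1 := rfl

/-- Two morphisms over the same morphism of the base differ by an automorphism of the source. -/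
lemma exists_aut_of_parallel (h : FibCat.IsFibGrpd 𝒳.p) {x z : 𝒳.obj} (c c' : z ⟶ x)
    (e : 𝒳.p.map c = 𝒳.p.map c') : ∃ α : AutO z, α.hom.1 ≫ c = c' := by
  have : 𝒳.p.IsHomLift (𝒳.p.map c) c' := e ▸ IsHomLift.map 𝒳.p c'
  have : 𝒳.p.IsHomLift (𝒳.p.map c) c := IsHomLift.map 𝒳.p c
  obtain ⟨i, hi, hi'⟩ := exists_vertIso h (𝒳.p.map c) c' c
  exact ⟨autMk i hi, hi'⟩

end Aut

/-- Objects over the same object are locally isomorphic, for a category over the base that is a gerbe. -/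
lemma locIso_of_toSelf (h : IsGerbeOver J (FibCat.toSelf 𝒳)) (x x' : 𝒳.obj) {U : C}
    (hx : 𝒳.p.obj x = U) (hx' : 𝒳.p.obj x' = U) :
    Locally J U (fun _ f => ∃ (x₀ : 𝒳.obj) (φ : x₀ ⟶ x) (ψ : x₀ ⟶ x'),
      𝒳.p.IsHomLift f φ ∧ 𝒳.p.IsHomLift f ψ) := by
  subst hx
  obtain ⟨R, hR, hloc⟩ := h.2 x x' (eqToHom hx'.symm)
    (IsHomLift.of_fac' (FibCat.selfOver C).p (𝟙 (𝒳.p.obj x)) _ rfl hx' (by
      change eqToHom hx'.symm = 𝟙 _ ≫ 𝟙 _ ≫ eqToHom hx'.symm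
      simp))
  refine ⟨R, hR, fun V f hf => ?_⟩
  obtain ⟨x₀, φ, ψ, h₁, h₂, -⟩ := hloc f hf
  exact ⟨x₀, φ, ψ, h₁, h₂⟩

/-- Every object locally maps to a global object. -/
lemma loc_to_global (h : IsGerbe J 𝒳) {s : 𝒳.obj} (hs : IsTerminal (𝒳.p.obj s)) (a : 𝒳.obj)
    {U : C} (ha : 𝒳.p.obj a = U) :
    Locally J U (fun _ f => ∀ ⦃a₀ : 𝒳.obj⦄ (m : a₀ ⟶ a), 𝒳.p.IsHomLift f m → Nonempty (a₀ ⟶ s)) := by
  obtain ⟨sU, τ, hτ⟩ := exists_sc_lift h.1.1 (a := s) rfl (hs.from U)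
  refine (locIso_of_toSelf h.2 sU a (IsHomLift.domain_eq 𝒳.p (hs.from U) τ) ha).mono ?_
  rintro V f ⟨x₀, φ, ψ, hφ, hψ⟩ a₀ m hm
  obtain ⟨i, -, -⟩ := exists_vertIso h.1.1 f m ψ
  exact ⟨i.hom ≫ φ ≫ τ⟩

lemma map_eq_of_terminal {s z : 𝒳.obj} (hs : IsTerminal (𝒳.p.obj s)) (c c' : z ⟶ s) :
    𝒳.p.map c = 𝒳.p.map c' := hs.hom_ext _ _

section Equiv

variable {𝒴 : BasedCategory.{v₃, u₃} C}

/-- A functor of gerbes with a global object, bijective on automorphism groups over it, is an equivalence. -/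
lemma isEquivOver_of_autMap_bijective (hX : IsGerbe J 𝒳) (hY : IsGerbe J 𝒴) (φ : 𝒳 ⥤ᵇ 𝒴)
    {s : 𝒳.obj} (hs : IsTerminal (𝒳.p.obj s))
    (hφ : ∀ (x : 𝒳.obj) (_ : x ⟶ s), Function.Bijective (Gerb.autMap φ x)) :
    FibCat.IsEquivOver φ := by
  have := isFibered_of_fibGrpd hX.1.1
  have hfaith : φ.toFunctor.Faithful := by
    refine faithful_of_vertFaithful (MapSC.of_fibGrpd φ hY.1.1) ?_
    intro U a a' α β hα hβ e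
    obtain ⟨R, hR, hloc⟩ := loc_to_global hX hs a (IsHomLift.domain_eq 𝒳.p (𝟙 U) α)
    refine vert_ext_of_local (isPrestack_of_isStack hX.1) hR α β fun V f hf s₀ ψ hψ => ?_
    obtain ⟨c⟩ := hloc f hf ψ hψ
    obtain ⟨a₁, χ, hχ⟩ := exists_sc_lift hX.1.1 (a := a') (IsHomLift.codomain_eq 𝒳.p (𝟙 U) α) f
    have h1 : 𝒳.p.IsHomLift f (ψ ≫ α) := IsHomLift.comp_lift_id_right' 𝒳.p f ψ U α
    have h2 : 𝒳.p.IsHomLift f (ψ ≫ β) := IsHomLift.comp_lift_id_right' 𝒳.p f ψ U β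
    obtain ⟨α₁, hα₁, eα⟩ := exists_vertIso hX.1.1 f (ψ ≫ α) χ
    obtain ⟨β₁, hβ₁, eβ⟩ := exists_vertIso hX.1.1 f (ψ ≫ β) χ
    have := sc_of_fibGrpd hY.1.1 f (φ.map χ)
    have e₁ : φ.map α₁.hom = φ.map β₁.hom := by
      apply IsCartesian.ext 𝒴.p f (φ.map χ)
      rw [← φ.toFunctor.map_comp, ← φ.toFunctor.map_comp, eα, eβ, φ.toFunctor.map_comp,
        φ.toFunctor.map_comp, e]
    have hs₀ : 𝒳.p.obj s₀ = V := IsHomLift.domain_eq 𝒳.p f ψ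
    have := IsHomLift.lift_id_inv 𝒳.p V β₁
    have hγ : 𝒳.p.IsHomLift (𝟙 (𝒳.p.obj s₀)) (α₁ ≪≫ β₁.symm).hom := by
      rw [hs₀]; exact homLift_id_comp hα₁ this
    have hone : autMk (α₁ ≪≫ β₁.symm) hγ = 1 := (hφ s₀ c).1 (by
      rw [map_one]
      refine autO_ext ?_
      rw [Gerb.autMap_hom_val, autMk_hom, autO_one_hom, Iso.trans_hom, Iso.symm_hom,
        φ.toFunctor.map_comp, e₁, ← φ.toFunctor.map_comp, β₁.hom_inv_id]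
      exact φ.toFunctor.map_id _)
    have e₂ : α₁.hom = β₁.hom := by
      have e3 : α₁.hom ≫ β₁.inv = 𝟙 _ := congrArg (fun t => t.hom.1) hone
      rw [← Category.id_comp β₁.hom, ← e3, Category.assoc, β₁.inv_hom_id]
      exact (Category.comp_id _).symm
    rw [← eα, ← eβ, e₂]
  have hfull : φ.toFunctor.Full := by
    refine full_of_vertFull (MapSC.of_fibGrpd φ hY.1.1) ?_
    intro U a a' ha ha' β hβ
    obtain ⟨R, hR, hloc⟩ := (loc_to_global hX hs a ha).and (loc_to_global hX hs a' ha')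
    obtain ⟨α, hα, hP⟩ := exists_vert_of_local (isPrestack_of_isStack hX.1) hR ha ha'
      (fun s₀ ψ χ => φ.map ψ ≫ β = φ.map χ)
      (fun s₀ t k ψ χ hk => by
        rw [φ.toFunctor.map_comp, φ.toFunctor.map_comp, Category.assoc, hk])
      (fun V f hf s₀ ψ hψ => by
        obtain ⟨c⟩ := (hloc f hf).1 ψ hψ
        obtain ⟨a₁, χ, hχ⟩ := exists_sc_lift hX.1.1 (a := a') ha' f
        obtain ⟨c'⟩ := (hloc f hf).2 χ inferInstance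
        have hs₀ : 𝒳.p.obj s₀ = V := IsHomLift.domain_eq 𝒳.p f ψ
        have ha₁ : 𝒳.p.obj a₁ = V := IsHomLift.domain_eq 𝒳.p f χ
        have hc : 𝒳.p.IsHomLift (hs.from V) c :=
          IsHomLift.of_fac' 𝒳.p _ _ hs₀ rfl (hs.hom_ext _ _)
        have hc' : 𝒳.p.IsHomLift (hs.from V) c' :=
          IsHomLift.of_fac' 𝒳.p _ _ ha₁ rfl (hs.hom_ext _ _)
        obtain ⟨i, hi, -⟩ := exists_vertIso hX.1.1 (hs.from V) c c'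
        have : 𝒴.p.IsHomLift f (φ.map ψ ≫ β) := IsHomLift.comp_lift_id_right' 𝒴.p f (φ.map ψ) U β
        obtain ⟨b, hb, eb⟩ := exists_vertIso hY.1.1 f (φ.map ψ ≫ β) (φ.map χ)
        have hi' : 𝒴.p.IsHomLift (𝟙 V) (φ.toFunctor.mapIso i).inv :=
          @IsHomLift.lift_id_inv _ _ _ _ 𝒴.p V _ _ (φ.toFunctor.mapIso i)
            (inferInstanceAs (𝒴.p.IsHomLift (𝟙 V) (φ.map i.hom)))
        have hδ : 𝒴.p.IsHomLift (𝟙 (𝒴.p.obj (φ.obj s₀))) (b ≪≫ (φ.toFunctor.mapIso i).symm).hom := by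
          rw [φ.w_obj, hs₀]; exact homLift_id_comp hb hi'
        obtain ⟨γ, hγ⟩ := (hφ s₀ c).2 (autMk (b ≪≫ (φ.toFunctor.mapIso i).symm) hδ)
        have hγ' : φ.map γ.hom.1 = b.hom ≫ φ.map i.inv := congrArg (fun t => t.hom.1) hγ
        have hγl : 𝒳.p.IsHomLift (𝟙 V) γ.hom.1 := by rw [← hs₀]; exact autIso_lift γ
        have := homLift_id_comp hγl hi
        refine ⟨(γ.hom.1 ≫ i.hom) ≫ χ,
          IsHomLift.comp_lift_id_left' 𝒳.p V (γ.hom.1 ≫ i.hom) f χ, ?_⟩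
        rw [φ.toFunctor.map_comp, φ.toFunctor.map_comp, hγ', Category.assoc, Category.assoc,
          ← φ.toFunctor.map_comp_assoc, i.inv_hom_id, φ.toFunctor.map_id]
        exact eb.symm.trans (congrArg (b.hom ≫ ·) (Category.id_comp _).symm))
      (fun V f hf s₀ ψ χ χ' _ _ _ e e' => φ.toFunctor.map_injective (e.symm.trans e'))
    refine ⟨α, hα, ?_⟩
    refine vert_ext_of_local (isPrestack_of_isStack hY.1) hR (φ.map α) β fun V f hf t ψ hψ => ?_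
    obtain ⟨a₀, χ, hχ⟩ := exists_sc_lift hX.1.1 (a := a) ha f
    obtain ⟨i, -, hi⟩ := exists_vertIso hY.1.1 f ψ (φ.map χ)
    rw [← hi, Category.assoc, Category.assoc, ← φ.toFunctor.map_comp, hP f hf χ inferInstance]
  refine isEquivOver_of_locEssSurj hX.1 (isPrestack_of_isStack hY.1) φ fun y => ?_
  have hs' : IsTerminal (𝒴.p.obj (φ.obj s)) := hs.ofIso (eqToIso (φ.w_obj s).symm)
  refine (loc_to_global hY hs' y rfl).mono fun V f hP => ?_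
  obtain ⟨y₀, m, hm⟩ := exists_sc_lift hY.1.1 (a := y) rfl f
  obtain ⟨c⟩ := hP m inferInstance
  obtain ⟨x₀, τ, hτ⟩ := exists_sc_lift hX.1.1 (a := s) rfl (hs.from V)
  have : 𝒴.p.IsHomLift (hs.from V) c :=
    IsHomLift.of_fac' 𝒴.p _ _ (IsHomLift.domain_eq 𝒴.p f m) (φ.w_obj s) (hs'.hom_ext _ _)
  obtain ⟨i, hi, -⟩ := exists_vertIso hY.1.1 (hs.from V) (φ.map τ) c
  exact ⟨x₀, i.hom ≫ m, IsHomLift.comp_lift_id_left' 𝒴.p V i.hom f m⟩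

end Equiv

section Conj

/-- The compatibility defining `g'` from a global isomorphism `g`. -/
lemma exists_conj_lift (hX : FibCat.IsFibGrpd 𝒳.p) (Φ : 𝒳 ⥤ᵇ 𝒳) {x : 𝒳.obj}
    (g : Φ.obj x ⟶ x) (hg : 𝒳.p.IsHomLift (𝟙 (𝒳.p.obj x)) g) {x' : 𝒳.obj} (c : x' ⟶ x) :
    ∃ g' : Φ.obj x' ⟶ x', 𝒳.p.IsHomLift (𝟙 (𝒳.p.obj x')) g' ∧ Φ.map c ≫ g = g' ≫ c := by
  have : 𝒳.p.IsHomLift (𝒳.p.map c) c := IsHomLift.map 𝒳.p c
  have : 𝒳.p.IsHomLift (𝒳.p.map c) (Φ.map c ≫ g) :=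
    IsHomLift.comp_lift_id_right' 𝒳.p (𝒳.p.map c) (Φ.map c) (𝒳.p.obj x) g
  obtain ⟨i, hi, hi'⟩ := exists_vertIso hX (𝒳.p.map c) (Φ.map c ≫ g) c
  exact ⟨i.hom, hi, hi'.symm⟩

/-- The data attaching a morphism `χ` to a morphism `ψ` by the conjugation rule. -/
def ConjRel (Φ : 𝒳 ⥤ᵇ 𝒳) {x : 𝒳.obj} (g : Φ.obj x ⟶ x) {y : 𝒳.obj} ⦃s : 𝒳.obj⦄
    (ψ : s ⟶ Φ.obj y) (χ : s ⟶ y) : Prop :=
  ∃ (y₀ : 𝒳.obj) (m : y₀ ⟶ y) (c : y₀ ⟶ x) (g' : Φ.obj y₀ ⟶ y₀) (k : s ⟶ Φ.obj y₀),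
    𝒳.p.IsHomLift (𝟙 (𝒳.p.obj y₀)) g' ∧ Φ.map c ≫ g = g' ≫ c ∧ ψ = k ≫ Φ.map m ∧
      χ = k ≫ g' ≫ m

variable (hX : FibCat.IsFibGrpd 𝒳.p) (Φ : 𝒳 ⥤ᵇ 𝒳) {x : 𝒳.obj} (g : Φ.obj x ⟶ x)
  (hg : 𝒳.p.IsHomLift (𝟙 (𝒳.p.obj x)) g)

include hX hg in
lemma conjRel_normalise {y : 𝒳.obj} {s : 𝒳.obj} {V : C} (hsV : 𝒳.p.obj s = V) {ψ : s ⟶ Φ.obj y}
    {χ : s ⟶ y} (h : ConjRel Φ g ψ χ) :
    ∃ (y₀ : 𝒳.obj) (m : y₀ ⟶ y) (c : y₀ ⟶ x) (g' : Φ.obj y₀ ⟶ y₀) (k : s ⟶ Φ.obj y₀),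
      𝒳.p.IsHomLift (𝟙 (𝒳.p.obj y₀)) g' ∧ Φ.map c ≫ g = g' ≫ c ∧ 𝒳.p.IsHomLift (𝟙 V) k ∧
        ψ = k ≫ Φ.map m ∧ χ = k ≫ g' ≫ m := by
  obtain ⟨y₁, m, c, g₁, k, hg₁, e₁, rfl, rfl⟩ := h
  let q : V ⟶ 𝒳.p.obj y₁ := eqToHom hsV.symm ≫ 𝒳.p.map k ≫ eqToHom (Φ.w_obj y₁)
  have hk : 𝒳.p.IsHomLift q k := IsHomLift.of_fac' 𝒳.p q k hsV (Φ.w_obj y₁) (by simp [q])
  obtain ⟨y₀, n, hn⟩ := exists_sc_lift hX (a := y₁) rfl q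
  obtain rfl : 𝒳.p.obj y₀ = V := IsHomLift.domain_eq 𝒳.p q n
  obtain ⟨k₀, hk₀, ek⟩ := exists_vertIso hX q k (Φ.map n)
  obtain ⟨g₀, hg₀, e₀⟩ := exists_conj_lift hX Φ g hg (n ≫ c)
  refine ⟨y₀, n ≫ m, n ≫ c, g₀, k₀.hom, hg₀, e₀, hk₀, ?_, ?_⟩
  · rw [Φ.toFunctor.map_comp, ← Category.assoc, ek]
  · have key : g₀ ≫ n = Φ.map n ≫ g₁ := by
      have hc : 𝒳.p.IsHomLift (𝒳.p.map c) c := IsHomLift.map 𝒳.p c
      have := sc_of_fibGrpd hX (𝒳.p.map c) c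
      have : 𝒳.p.IsHomLift q (g₀ ≫ n) :=
        IsHomLift.comp_lift_id_left' 𝒳.p (𝒳.p.obj y₀) g₀ q n
      have : 𝒳.p.IsHomLift q (Φ.map n ≫ g₁) :=
        IsHomLift.comp_lift_id_right' 𝒳.p q (Φ.map n) (𝒳.p.obj y₁) g₁
      apply IsStronglyCartesian.ext 𝒳.p (𝒳.p.map c) c q
      rw [Category.assoc, ← e₀, Category.assoc, ← e₁, Φ.toFunctor.map_comp, Category.assoc]
    rw [reassoc_of% key, reassoc_of% ek]

variable (hs : IsTerminal (𝒳.p.obj x))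
  (hconj : ∀ (x' : 𝒳.obj) (c : x' ⟶ x) (g' : Φ.obj x' ⟶ x'), 𝒳.p.IsHomLift (𝟙 (𝒳.p.obj x')) g' →
    Φ.map c ≫ g = g' ≫ c → ∀ α : Gerb.AutO x', Φ.map α.hom.1 ≫ g' = g' ≫ α.hom.1)

include hX hg hs hconj in
lemma conjRel_unique {y : 𝒳.obj} {s : 𝒳.obj} {U V : C} {f : V ⟶ U} (hy : 𝒳.p.obj y = U)
    {ψ : s ⟶ Φ.obj y} {χ χ' : s ⟶ y} (hψ : 𝒳.p.IsHomLift f ψ)
    (h : ConjRel Φ g ψ χ) (h' : ConjRel Φ g ψ χ') : χ = χ' := by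
  have hsV : 𝒳.p.obj s = V := IsHomLift.domain_eq 𝒳.p f ψ
  obtain ⟨y₀, m₀, c₀, g₀, k₀, hg₀, e₀, hk₀, eψ₀, rfl⟩ := conjRel_normalise hX Φ g hg hsV h
  obtain ⟨y₁, m₁, c₁, g₁, k₁, hg₁, e₁, hk₁, eψ₁, rfl⟩ := conjRel_normalise hX Φ g hg hsV h'
  obtain rfl : 𝒳.p.obj y₀ = V := (Φ.w_obj y₀).symm.trans (IsHomLift.codomain_eq 𝒳.p (𝟙 V) k₀)
  have hy₁ : 𝒳.p.obj y₁ = 𝒳.p.obj y₀ :=
    (Φ.w_obj y₁).symm.trans (IsHomLift.codomain_eq 𝒳.p (𝟙 (𝒳.p.obj y₀)) k₁)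
  rw [hy₁] at hg₁
  have hm : ∀ (z : 𝒳.obj) (k : s ⟶ Φ.obj z) (m : z ⟶ y), 𝒳.p.IsHomLift (𝟙 (𝒳.p.obj y₀)) k →
      ψ = k ≫ Φ.map m → 𝒳.p.IsHomLift f m := by
    intro z k m hk ek
    rw [← BasedFunctor.isHomLift_iff Φ]
    have := isIso_of_fibGrpd hX (𝟙 (𝒳.p.obj y₀)) k
    have e : Φ.map m = inv k ≫ ψ := by rw [ek, IsIso.inv_hom_id_assoc]
    have : 𝒳.p.IsHomLift (𝟙 (𝒳.p.obj y₀)) (inv k) :=
      inferInstance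
    rw [e]
    exact IsHomLift.comp_lift_id_left' 𝒳.p (𝒳.p.obj y₀) (inv k) f ψ
  have := hm y₀ k₀ m₀ hk₀ eψ₀
  have := hm y₁ k₁ m₁ hk₁ eψ₁
  obtain ⟨i, hi, ei⟩ := exists_vertIso hX f m₀ m₁
  have ek : k₁ = k₀ ≫ Φ.map i.hom := by
    have := sc_of_fibGrpd hX f (Φ.map m₁)
    have : 𝒳.p.IsHomLift (𝟙 (𝒳.p.obj y₀)) (k₀ ≫ Φ.map i.hom) := homLift_id_comp hk₀ inferInstance
    apply IsCartesian.ext 𝒳.p f (Φ.map m₁)
    rw [Category.assoc, ← Φ.toFunctor.map_comp, ei, ← eψ₀, ← eψ₁]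
  obtain ⟨δ, hδ⟩ := exists_aut_of_parallel hX c₀ (i.hom ≫ c₁) (map_eq_of_terminal hs _ _)
  have key : g₀ ≫ i.hom = Φ.map i.hom ≫ g₁ := by
    have hc : 𝒳.p.IsHomLift (𝒳.p.map c₁) c₁ := IsHomLift.map 𝒳.p c₁
    have := sc_of_fibGrpd hX (𝒳.p.map c₁) c₁
    let q : 𝒳.p.obj y₀ ⟶ 𝒳.p.obj y₁ := eqToHom hy₁.symm
    have h1 : 𝒳.p.IsHomLift q (g₀ ≫ i.hom) := by
      rw [show q = 𝟙 _ ≫ eqToHom hy₁.symm from (Category.id_comp _).symm]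
      exact (IsHomLift.lift_comp_eqToHom_iff (p := 𝒳.p) _ _ hy₁.symm).2 (homLift_id_comp hg₀ hi)
    have h2 : 𝒳.p.IsHomLift q (Φ.map i.hom ≫ g₁) := by
      rw [show q = 𝟙 _ ≫ eqToHom hy₁.symm from (Category.id_comp _).symm]
      exact (IsHomLift.lift_comp_eqToHom_iff (p := 𝒳.p) _ _ hy₁.symm).2
        (homLift_id_comp inferInstance hg₁)
    apply IsStronglyCartesian.ext 𝒳.p (𝒳.p.map c₁) c₁ q
    rw [Category.assoc, ← hδ, ← Category.assoc, ← hconj y₀ c₀ g₀ hg₀ e₀ δ, Category.assoc, ← e₀,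
      ← Φ.toFunctor.map_comp_assoc, hδ, Φ.toFunctor.map_comp, Category.assoc, e₁, Category.assoc]
  rw [ek, Category.assoc, ← reassoc_of% key, ei]

include hs hg hconj in
lemma exists_fibrewise_iso (hX : IsGerbe J 𝒳) :
    ∃ ρ : ∀ y : 𝒳.obj, Φ.obj y ⟶ y,
      (∀ y, IsIso (ρ y) ∧ 𝒳.p.IsHomLift (𝟙 (𝒳.p.obj y)) (ρ y)) ∧
      (∀ (y y' : 𝒳.obj) (f : y ⟶ y'), 𝒳.p.IsHomLift (𝟙 (𝒳.p.obj y)) f →
        Φ.map f ≫ ρ y' = ρ y ≫ f) := by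
  have hX' := isPrestack_of_isStack hX.1
  have key : ∀ y : 𝒳.obj, ∃ (R : Sieve (𝒳.p.obj y)) (ρ : Φ.obj y ⟶ y), R ∈ J (𝒳.p.obj y) ∧
      𝒳.p.IsHomLift (𝟙 (𝒳.p.obj y)) ρ ∧ ∀ ⦃V : C⦄ (f : V ⟶ 𝒳.p.obj y), R f → ∀ ⦃s : 𝒳.obj⦄
        (ψ : s ⟶ Φ.obj y), 𝒳.p.IsHomLift f ψ → ConjRel Φ g ψ (ψ ≫ ρ) := fun y => by
    obtain ⟨R, hR, hloc⟩ := loc_to_global hX hs y rfl
    obtain ⟨ρ, hρ, hP⟩ := exists_vert_of_local hX' hR (Φ.w_obj y) rfl (ConjRel Φ g)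
      (fun s t k ψ χ ⟨y₀, m, c, g', k', h1, h2, h3, h4⟩ =>
        ⟨y₀, m, c, g', k ≫ k', h1, h2, by rw [h3, Category.assoc], by rw [h4, Category.assoc]⟩)
      (fun V f hf s ψ hψ => by
        obtain ⟨y₀, m, hm⟩ := exists_sc_lift hX.1.1 (a := y) rfl f
        obtain ⟨c⟩ := hloc f hf m inferInstance
        obtain ⟨g', hg', e'⟩ := exists_conj_lift hX.1.1 Φ g hg c
        obtain ⟨k, hk, ek⟩ := exists_vertIso hX.1.1 f ψ (Φ.map m)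
        have hgV : 𝒳.p.IsHomLift (𝟙 V) g' := by
          rw [← IsHomLift.domain_eq 𝒳.p f m]; exact hg'
        exact ⟨k.hom ≫ g' ≫ m, IsHomLift.comp_lift_id_left' 𝒳.p V k.hom f _,
          y₀, m, c, g', k.hom, hg', e', ek.symm, rfl⟩)
      (fun V f hf s ψ χ χ' hψ _ _ h h' =>
        conjRel_unique hX.1.1 Φ g hg hs hconj rfl hψ h h')
    exact ⟨R, ρ, hR, hρ, hP⟩
  choose R ρ hR hρ hP using key
  refine ⟨ρ, fun y => ⟨have := hρ y; isIso_of_fibGrpd hX.1.1 (𝟙 (𝒳.p.obj y)) (ρ y), hρ y⟩,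
    fun y y' f hf => ?_⟩
  have hy' : 𝒳.p.obj y' = 𝒳.p.obj y := IsHomLift.codomain_eq 𝒳.p (𝟙 (𝒳.p.obj y)) f
  have h1 : 𝒳.p.IsHomLift (𝟙 (𝒳.p.obj y)) (ρ y') := by rw [← hy']; exact hρ y'
  have := homLift_id_comp (p := 𝒳.p) (inferInstance : 𝒳.p.IsHomLift (𝟙 (𝒳.p.obj y)) (Φ.map f)) h1
  have := homLift_id_comp (hρ y) hf
  refine vert_ext_of_local hX' (J.intersection_covering (hR y)
    (J.pullback_stable (eqToHom hy'.symm) (hR y'))) _ _ fun V h hh s ψ hψ => ?_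
  have hψf : 𝒳.p.IsHomLift (h ≫ eqToHom hy'.symm) (ψ ≫ Φ.map f) :=
    (IsHomLift.lift_comp_eqToHom_iff (p := 𝒳.p) _ _ hy'.symm).2
      (IsHomLift.comp_lift_id_right' 𝒳.p h ψ (𝒳.p.obj y) (Φ.map f))
  obtain ⟨y₀, m, c, g', k, a1, a2, a3, a4⟩ := hP y h hh.1 ψ hψ
  have e1 := hP y' (h ≫ eqToHom hy'.symm) hh.2 (ψ ≫ Φ.map f) hψf
  have e2 : ConjRel Φ g (ψ ≫ Φ.map f) ((ψ ≫ ρ y) ≫ f) :=
    ⟨y₀, m ≫ f, c, g', k, a1, a2, by rw [a3, Φ.toFunctor.map_comp, Category.assoc],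
      by rw [a4, Category.assoc, Category.assoc]⟩
  have e := conjRel_unique hX.1.1 Φ g hg hs hconj rfl hψf e1 e2
  exact (Category.assoc _ _ _).symm.trans (e.trans (Category.assoc _ _ _))

end Conj

section Transfer

variable {𝒴 : BasedCategory.{v₂, u₂} C}

lemma conj_transfer (hY : FibCat.IsFibGrpd 𝒴.p) (hX : FibCat.IsFibGrpd 𝒳.p) (φ : 𝒳 ⥤ᵇ 𝒴)
    (ψ : 𝒴 ⥤ᵇ 𝒳) {x : 𝒳.obj} (hs : IsTerminal (𝒳.p.obj x))
    (hφ : ∀ (x' : 𝒳.obj) (_ : x' ⟶ x), Function.Surjective (Gerb.autMap φ x'))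
    (g : ψ.obj (φ.obj x) ⟶ x) (hg : 𝒳.p.IsHomLift (𝟙 (𝒳.p.obj x)) g)
    (hconj : ∀ (x' : 𝒳.obj) (c : x' ⟶ x) (g' : ψ.obj (φ.obj x') ⟶ x'),
      𝒳.p.IsHomLift (𝟙 (𝒳.p.obj x')) g' → ψ.map (φ.map c) ≫ g = g' ≫ c →
      ∀ α : Gerb.AutO x', ψ.map (φ.map α.hom.1) ≫ g' = g' ≫ α.hom.1)
    (z : 𝒴.obj) (c : z ⟶ φ.obj x) (g₁ : φ.obj (ψ.obj z) ⟶ z)
    (hg₁ : 𝒴.p.IsHomLift (𝟙 (𝒴.p.obj z)) g₁) (e₁ : φ.map (ψ.map c) ≫ φ.map g = g₁ ≫ c)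
    (α : Gerb.AutO z) : φ.map (ψ.map α.hom.1) ≫ g₁ = g₁ ≫ α.hom.1 := by
  let q : 𝒴.p.obj z ⟶ 𝒳.p.obj x := 𝒴.p.map c ≫ eqToHom (φ.w_obj x)
  have hc : 𝒴.p.IsHomLift q c := IsHomLift.of_fac' 𝒴.p q c rfl (φ.w_obj x) (by simp [q])
  obtain ⟨x₀, c₀, hc₀⟩ := exists_sc_lift hX (a := x) rfl q
  obtain ⟨i, hi, ei⟩ := exists_vertIso hY q c (φ.map c₀)
  have hx₀ : 𝒳.p.obj x₀ = 𝒴.p.obj z := IsHomLift.domain_eq 𝒳.p q c₀
  obtain ⟨g₀, hg₀, e₀⟩ := exists_conj_lift hX (BasedFunctor.comp φ ψ) g hg c₀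
  change ψ.map (φ.map c₀) ≫ g = g₀ ≫ c₀ at e₀
  rw [hx₀] at hg₀
  have hi' := IsHomLift.lift_id_inv 𝒴.p (𝒴.p.obj z) i
  have hαl : 𝒴.p.IsHomLift (𝟙 (𝒴.p.obj z)) α.hom.1 := autIso_lift α
  have key : g₁ = φ.map (ψ.map i.hom) ≫ φ.map g₀ ≫ i.inv := by
    have := sc_of_fibGrpd hY q c
    have : 𝒴.p.IsHomLift (𝟙 (𝒴.p.obj z)) (φ.map (ψ.map i.hom) ≫ φ.map g₀ ≫ i.inv) :=
      homLift_id_comp inferInstance (homLift_id_comp inferInstance hi')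
    apply IsCartesian.ext 𝒴.p q c
    rw [← e₁, ← ei, Category.assoc, Category.assoc, Iso.inv_hom_id_assoc, ← φ.toFunctor.map_comp g₀,
      ← e₀, φ.toFunctor.map_comp, ψ.toFunctor.map_comp, φ.toFunctor.map_comp, Category.assoc]
  have hconjα : 𝒴.p.IsHomLift (𝟙 (𝒴.p.obj (φ.obj x₀))) (i.symm ≪≫ autIso α ≪≫ i).hom := by
    rw [φ.w_obj, hx₀]
    exact homLift_id_comp hi' (homLift_id_comp hαl hi)
  obtain ⟨β, hβ⟩ := hφ x₀ c₀ (autMk (i.symm ≪≫ autIso α ≪≫ i) hconjα)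
  have hβ' : φ.map β.hom.1 = i.inv ≫ α.hom.1 ≫ i.hom := congrArg (fun t => t.hom.1) hβ
  have eα : α.hom.1 = i.hom ≫ φ.map β.hom.1 ≫ i.inv := by simp [hβ']
  have hb := hconj x₀ c₀ g₀ (by rw [hx₀]; exact hg₀) e₀ β
  rw [key, eα]
  simp only [Functor.map_comp, Category.assoc, Iso.inv_hom_id_assoc]
  have h' : φ.map (ψ.map (φ.map β.hom.1)) ≫ φ.map g₀ = φ.map g₀ ≫ φ.map β.hom.1 := by
    rw [← φ.toFunctor.map_comp, hb, φ.toFunctor.map_comp]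
  rw [← φ.toFunctor.map_comp_assoc (ψ.map i.inv), ← ψ.toFunctor.map_comp, i.inv_hom_id]
  simp [reassoc_of% h']

end Transfer

end Groth.Agent.H14Stk
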