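import Groth.Prelude.Def_AlgSt
import Groth.Prelude.Def_FibCat2
import Groth.Prelude.Def_W4c2modmodulilectNerve
import Mathlib.CategoryTheory.Category.ULift
import Mathlib.CategoryTheory.Discrete.Basic
import Mathlib.CategoryTheory.Comma.StructuredArrow.Basic
import Mathlib.CategoryTheory.FiberedCategory.Fibered

/-!
# Sections over a diagram with contractible comma categories
-/

set_option autoImplicit false
set_option backward.isDefEq.respectTransparency false
set_option backward.isDefEq.respectTransparency.types false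

universe w v₁ v₂ v₃ u₁ u₂ u₃

open CategoryTheory

noncomputable section

namespace Groth.Agent.H14Stk.Contractible

lemma eq_of_contractible {K : Type u₁} [Category.{v₁} K]
    (h : W4c2modmodulilect.HasContractibleNerve.{w, w} K) {β : Type u₂} [Small.{w} β] (m : K → β)
    (hm : ∀ {a b : K}, (a ⟶ b) → m a = m b) (a b : K) : m a = m b := by
  letI : Groupoid.{w} (Discrete (Shrink.{w} β)) := Groupoid.ofIsIso fun _ => inferInstance
  have := h.2 (Discrete (Shrink.{w} β))
  let M : K ⥤ Discrete (Shrink.{w} β) :=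
    { obj := fun k => ⟨equivShrink β (m k)⟩
      map := fun k => Discrete.eqToHom (congrArg (equivShrink β) (hm k))
      map_id := fun _ => Subsingleton.elim _ _
      map_comp := fun _ _ => Subsingleton.elim _ _ }
  let x := (Functor.const K : Discrete (Shrink.{w} β) ⥤ _).objPreimage M
  let e := (Functor.const K : Discrete (Shrink.{w} β) ⥤ _).objObjPreimageIso M
  exact (equivShrink β).injective
    ((Discrete.eq_of_hom (e.hom.app a)).symm.trans (Discrete.eq_of_hom (e.hom.app b)))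

lemma contractible_of_counit {K₁ : Type u₁} [Category.{v₁} K₁] {K₂ : Type u₂} [Category.{v₂} K₂]
    (h : W4c2modmodulilect.HasContractibleNerve.{w, w} K₁) (L : K₁ ⥤ K₂) (R : K₂ → K₁)
    (ε : ∀ g, L.obj (R g) ⟶ g) (hR : ∀ {g g' : K₂} (k : g ⟶ g'), ∃ r : R g ⟶ R g', L.map r ≫ ε g' = ε g ≫ k) :
    W4c2modmodulilect.HasContractibleNerve.{w, w} K₂ := by
  refine ⟨h.1.map L.obj, fun G _ => ?_⟩
  have := h.2 G
  refine { faithful := ?_, full := ?_, essSurj := ?_ }
  · obtain ⟨a⟩ := h.1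
    exact ⟨fun e => congrArg (fun τ => τ.app (L.obj a)) e⟩
  · refine ⟨fun {x y} α => ?_⟩
    obtain ⟨f, hf⟩ := (Functor.const K₁ : G ⥤ _).map_surjective (X := x) (Y := y)
      { app := fun a => α.app (L.obj a)
        naturality := fun a b k => α.naturality (L.map k) }
    refine ⟨f, ?_⟩
    ext g
    have h1 : f = α.app (L.obj (R g)) := congrArg (fun τ => τ.app (R g)) hf
    refine h1.trans ?_
    have h2 := α.naturality (ε g)
    simpa using h2.symm
  · refine ⟨fun M => ?_⟩
    let x := (Functor.const K₁ : G ⥤ _).objPreimage (L ⋙ M)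
    let e := (Functor.const K₁ : G ⥤ _).objObjPreimageIso (L ⋙ M)
    refine ⟨x, ⟨NatIso.ofComponents (fun g => e.app (R g) ≪≫ asIso (M.map (ε g))) ?_⟩⟩
    intro g g' k
    obtain ⟨r, hr⟩ := hR k
    have h1 : e.hom.app (R g') = e.hom.app (R g) ≫ M.map (L.map r) := by
      have := e.hom.naturality r
      refine Eq.trans (Category.id_comp _).symm this
    change 𝟙 x ≫ e.hom.app (R g') ≫ M.map (ε g') = (e.hom.app (R g) ≫ M.map (ε g)) ≫ M.map k
    rw [Category.id_comp, h1, Category.assoc, Category.assoc, ← M.map_comp, ← M.map_comp, hr]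

section FibGrpd

variable {D : Type u₂} [Category.{v₂} D] {F : Type u₃} [Category.{v₃} F] {p : F ⥤ D} [FibCat.IsFibGrpd p]

lemma cart {R S : D} (f : R ⟶ S) {a b : F} (φ : a ⟶ b) [p.IsHomLift f φ] : p.IsStronglyCartesian f φ := by
  subst_hom_lift p f φ
  exact FibCat.IsFibGrpd.isStronglyCartesian φ

lemma isIso_of_lift_id {R : D} {a b : F} (φ : a ⟶ b) [p.IsHomLift (𝟙 R) φ] : IsIso φ := by
  have := cart (p := p) (𝟙 R) φ
  exact Functor.IsStronglyCartesian.isIso_of_base_isIso p (𝟙 R) φ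

lemma ext_cart {R S T : D} (f : R ⟶ S) {a b : F} (φ : a ⟶ b) [p.IsHomLift f φ] (g : T ⟶ R) {c : F}
    (ψ ψ' : c ⟶ a) [p.IsHomLift g ψ] [p.IsHomLift g ψ'] (h : ψ ≫ φ = ψ' ≫ φ) : ψ = ψ' := by
  have := cart (p := p) f φ
  exact Functor.IsStronglyCartesian.ext p f φ g h

lemma exists_factor {R S T : D} (f : R ⟶ S) {a b : F} (φ : a ⟶ b) [p.IsHomLift f φ] (g : T ⟶ R) {f' : T ⟶ S}
    (hf : f' = g ≫ f) {c : F} (φ' : c ⟶ b) [p.IsHomLift f' φ'] : ∃ χ : c ⟶ a, p.IsHomLift g χ ∧ χ ≫ φ = φ' := by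
  have := cart (p := p) f φ
  exact ⟨Functor.IsStronglyCartesian.map p f φ hf φ', inferInstance, Functor.IsStronglyCartesian.fac p f φ hf φ'⟩

lemma exists_lift' {S T : D} (b : F) (hb : p.obj b = S) (g : T ⟶ S) :
    ∃ (a : F) (φ : a ⟶ b), p.IsHomLift g φ := by
  subst hb
  exact FibCat.IsFibGrpd.exists_lift g

variable (p) in
lemma isIso_fiber {Y : D} {a b : p.Fiber Y} (k : a ⟶ b) : IsIso k := by
  have := k.2
  have : IsIso k.1 := isIso_of_lift_id (p := p) (R := Y) k.1
  exact ⟨⟨inv k.1, inferInstance⟩, Subtype.ext (IsIso.hom_inv_id k.1), Subtype.ext (IsIso.inv_hom_id k.1)⟩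

end FibGrpd

variable {C : Type u₁} [Category.{v₁} C] {D : Type u₂} [Category.{v₂} D] {F : Type u₃} [Category.{v₃} F]
  {φ : C ⥤ D} {p : F ⥤ D} [FibCat.IsFibGrpd p]

section Cone

variable (t : BasedCategory.ofFunctor φ ⥤ᵇ BasedCategory.ofFunctor p)

lemma t_obj (X : C) : p.obj (t.obj X) = φ.obj X := t.w_obj X

lemma t_lift {X X' : C} (k : X ⟶ X') : p.IsHomLift (φ.map k) (t.map k) :=
  haveI : (BasedCategory.ofFunctor φ).p.IsHomLift (φ.map k) k := IsHomLift.map φ k
  BasedFunctor.preserves_isHomLift t (φ.map k) k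

/-- A chosen pullback of the value of a functor over the diagram. -/
def pb (Y : D) (g : StructuredArrow Y φ) : F := (exists_lift' (p := p) (t.obj g.right) (t_obj t g.right) g.hom).choose

/-- The arrow of the chosen pullback. -/
def pbHom (Y : D) (g : StructuredArrow Y φ) : pb t Y g ⟶ t.obj g.right :=
  (exists_lift' (p := p) (t.obj g.right) (t_obj t g.right) g.hom).choose_spec.choose

instance pbHom_lift (Y : D) (g : StructuredArrow Y φ) : p.IsHomLift g.hom (pbHom t Y g) :=
  (exists_lift' (p := p) (t.obj g.right) (t_obj t g.right) g.hom).choose_spec.choose_spec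

lemma pbMap_exists {Y : D} {g g' : StructuredArrow Y φ} (k : g ⟶ g') :
    ∃ χ : pb t Y g ⟶ pb t Y g', p.IsHomLift (𝟙 Y) χ ∧ χ ≫ pbHom t Y g' = pbHom t Y g ≫ t.map k.right := by
  have := t_lift t k.right
  have : p.IsHomLift g'.hom (pbHom t Y g ≫ t.map k.right) := by
    rw [← StructuredArrow.w k]; infer_instance
  exact exists_factor g'.hom (pbHom t Y g') (𝟙 Y) (Category.id_comp _).symm _

/-- Pullbacks of the values, as a functor to the fibre. -/
def pbFunctor (Y : D) : StructuredArrow Y φ ⥤ p.Fiber Y where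
  obj g := ⟨pb t Y g, IsHomLift.domain_eq p g.hom (pbHom t Y g)⟩
  map k := ⟨(pbMap_exists t k).choose, (pbMap_exists t k).choose_spec.1⟩
  map_id g := by
    apply Subtype.ext
    have := (pbMap_exists t (𝟙 g)).choose_spec.1
    have := IsHomLift.id (p := p) (IsHomLift.domain_eq p g.hom (pbHom t Y g))
    refine ext_cart (p := p) g.hom (pbHom t Y g) (𝟙 Y) _ _ ((pbMap_exists t (𝟙 g)).choose_spec.2.trans ?_)
    change pbHom t Y g ≫ t.map (𝟙 g.right) = 𝟙 _ ≫ pbHom t Y g
    simp
  map_comp {g g' g''} k k' := by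
    apply Subtype.ext
    have := (pbMap_exists t (k ≫ k')).choose_spec.1
    have := (pbMap_exists t k).choose_spec.1
    have := (pbMap_exists t k').choose_spec.1
    refine ext_cart (p := p) g''.hom (pbHom t Y g'') (𝟙 Y) _
      ((pbMap_exists t k).choose ≫ (pbMap_exists t k').choose) ((pbMap_exists t (k ≫ k')).choose_spec.2.trans ?_)
    rw [Category.assoc, (pbMap_exists t k').choose_spec.2, ← Category.assoc, (pbMap_exists t k).choose_spec.2,
      Category.assoc, ← Functor.map_comp]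
    rfl

lemma exists_cone
    (hφ : ∀ Y : D, W4c2modmodulilect.HasContractibleNerve.{max u₁ u₂ u₃ v₁ v₂ v₃, max u₁ u₂ u₃ v₁ v₂ v₃}
      (StructuredArrow Y φ)) (Y : D) :
    ∃ (a : F) (c : ∀ g : StructuredArrow Y φ, a ⟶ t.obj g.right),
      p.obj a = Y ∧ (∀ g, p.IsHomLift g.hom (c g)) ∧ ∀ {g g' : StructuredArrow Y φ} (k : g ⟶ g'),
        c g ≫ t.map k.right = c g' := by
  letI : Groupoid.{max u₁ u₂ u₃ v₁ v₂ v₃} (AsSmall.{max u₁ u₂ u₃ v₁ v₂ v₃} (p.Fiber Y)) :=
    Groupoid.ofIsIso fun {_ _} k => by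
      have : IsIso (AsSmall.down.map k) := isIso_fiber p _
      exact inferInstanceAs (IsIso (AsSmall.up.map (AsSmall.down.map k)))
  have := (hφ Y).2 (AsSmall.{max u₁ u₂ u₃ v₁ v₂ v₃} (p.Fiber Y))
  let T : StructuredArrow Y φ ⥤ AsSmall.{max u₁ u₂ u₃ v₁ v₂ v₃} (p.Fiber Y) := pbFunctor t Y ⋙ AsSmall.up
  let x := (Functor.const (StructuredArrow Y φ) :
    AsSmall.{max u₁ u₂ u₃ v₁ v₂ v₃} (p.Fiber Y) ⥤ _).objPreimage T
  let e := (Functor.const (StructuredArrow Y φ) :
    AsSmall.{max u₁ u₂ u₃ v₁ v₂ v₃} (p.Fiber Y) ⥤ _).objObjPreimageIso T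
  refine ⟨(AsSmall.down.obj x).1, fun g => (AsSmall.down.map (e.hom.app g)).1 ≫ pbHom t Y g,
    (AsSmall.down.obj x).2, fun g => ?_, fun {g g'} k => ?_⟩
  · have := (AsSmall.down.map (e.hom.app g)).2
    infer_instance
  · have h1 := e.hom.naturality k
    have h2 : (AsSmall.down.map (e.hom.app g)) ≫ (pbFunctor t Y).map k = AsSmall.down.map (e.hom.app g') := by
      have h3 := congrArg (AsSmall.down.map) h1
      simp only [Functor.map_comp] at h3
      refine h3.symm.trans ?_
      exact Category.id_comp _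
    change _ = (AsSmall.down.map (e.hom.app g')).1 ≫ _
    rw [← h2]
    change ((AsSmall.down.map (e.hom.app g)).1 ≫ pbHom t Y g) ≫ t.map k.right =
      ((AsSmall.down.map (e.hom.app g)).1 ≫ (pbMap_exists t k).choose) ≫ pbHom t Y g'
    rw [Category.assoc, Category.assoc, (pbMap_exists t k).choose_spec.2]

variable (hφ : ∀ Y : D, W4c2modmodulilect.HasContractibleNerve.{max u₁ u₂ u₃ v₁ v₂ v₃, max u₁ u₂ u₃ v₁ v₂ v₃}
  (StructuredArrow Y φ))

/-- The value of the section. -/
def secObj (Y : D) : F := (exists_cone t hφ Y).choose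

/-- The cone of the value. -/
def secCone (Y : D) (g : StructuredArrow Y φ) : secObj t hφ Y ⟶ t.obj g.right :=
  (exists_cone t hφ Y).choose_spec.choose g

lemma secObj_over (Y : D) : p.obj (secObj t hφ Y) = Y := (exists_cone t hφ Y).choose_spec.choose_spec.1

instance secCone_lift (Y : D) (g : StructuredArrow Y φ) : p.IsHomLift g.hom (secCone t hφ Y g) :=
  (exists_cone t hφ Y).choose_spec.choose_spec.2.1 g

lemma secCone_w (Y : D) {g g' : StructuredArrow Y φ} (k : g ⟶ g') :
    secCone t hφ Y g ≫ t.map k.right = secCone t hφ Y g' :=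
  (exists_cone t hφ Y).choose_spec.choose_spec.2.2 k

lemma secMap_exists {Y' Y : D} (h : Y' ⟶ Y) :
    ∃ χ : secObj t hφ Y' ⟶ secObj t hφ Y, p.IsHomLift h χ ∧
      ∀ g : StructuredArrow Y φ, χ ≫ secCone t hφ Y g = secCone t hφ Y' (StructuredArrow.mk (h ≫ g.hom)) := by
  have hex : ∀ g : StructuredArrow Y φ, ∃ χ : secObj t hφ Y' ⟶ secObj t hφ Y, p.IsHomLift h χ ∧
      χ ≫ secCone t hφ Y g = secCone t hφ Y' (StructuredArrow.mk (h ≫ g.hom)) := fun g => by
    have : p.IsHomLift (h ≫ g.hom) (secCone t hφ Y' (StructuredArrow.mk (h ≫ g.hom))) :=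
      secCone_lift t hφ Y' (StructuredArrow.mk (h ≫ g.hom))
    exact exists_factor g.hom (secCone t hφ Y g) h rfl _
  choose χ hχ hχ' using hex
  obtain ⟨g₀⟩ := (hφ Y).1
  refine ⟨χ g₀, hχ g₀, fun g => ?_⟩
  rw [eq_of_contractible (hφ Y) χ (fun {g g'} k => ?_) g₀ g]
  · exact hχ' g
  · have := hχ g
    have := hχ g'
    let k' : StructuredArrow.mk (h ≫ g.hom) ⟶ StructuredArrow.mk (h ≫ g'.hom) :=
      StructuredArrow.homMk k.right (by simp)
    refine ext_cart (p := p) g'.hom (secCone t hφ Y g') h _ _ (Eq.trans ?_ (hχ' g').symm)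
    rw [← secCone_w t hφ Y k, ← secCone_w t hφ Y' k', ← Category.assoc, hχ' g]
    rfl

/-- The section. -/
def secFunctor : D ⥤ F where
  obj Y := secObj t hφ Y
  map h := (secMap_exists t hφ h).choose
  map_id Y := by
    have := (secMap_exists t hφ (𝟙 Y)).choose_spec.1
    have := IsHomLift.id (p := p) (secObj_over t hφ Y)
    obtain ⟨g⟩ := (hφ Y).1
    refine ext_cart (p := p) g.hom (secCone t hφ Y g) (𝟙 Y) _ _
      (((secMap_exists t hφ (𝟙 Y)).choose_spec.2 g).trans ?_)
    let k : g ⟶ StructuredArrow.mk (𝟙 Y ≫ g.hom) := StructuredArrow.homMk (𝟙 _) (by simp)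
    rw [← secCone_w t hφ Y k]
    simp [k]
  map_comp {Y₁ Y₂ Y₃} h h' := by
    have := (secMap_exists t hφ (h ≫ h')).choose_spec.1
    have := (secMap_exists t hφ h).choose_spec.1
    have := (secMap_exists t hφ h').choose_spec.1
    obtain ⟨g⟩ := (hφ Y₃).1
    refine ext_cart (p := p) g.hom (secCone t hφ Y₃ g) (h ≫ h') _
      ((secMap_exists t hφ h).choose ≫ (secMap_exists t hφ h').choose)
      (((secMap_exists t hφ (h ≫ h')).choose_spec.2 g).trans ?_)
    refine Eq.trans ?_ ((Category.assoc _ _ _).trans ((congrArg (_ ≫ ·) ((secMap_exists t hφ h').choose_spec.2 g)).trans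
      ((secMap_exists t hφ h).choose_spec.2 (StructuredArrow.mk (h' ≫ g.hom))))).symm
    let k : StructuredArrow.mk (h ≫ (h' ≫ g.hom)) ⟶ StructuredArrow.mk ((h ≫ h') ≫ g.hom) :=
      StructuredArrow.homMk (𝟙 _) (by simp)
    exact ((secCone_w t hφ Y₁ k).symm.trans (by simp [k])).trans rfl

/-- The section, as a functor over the base. -/
def sec : FibCat.selfOver D ⥤ᵇ BasedCategory.ofFunctor p where
  toFunctor := secFunctor t hφ
  w := CategoryTheory.Functor.ext (fun Y => secObj_over t hφ Y) fun Y Y' h => by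
    have := (secMap_exists t hφ h).choose_spec.1
    exact IsHomLift.fac' p h (secMap_exists t hφ h).choose

end Cone

lemma sec_lift (s : FibCat.selfOver D ⥤ᵇ BasedCategory.ofFunctor p) {Y Y' : D} (h : Y ⟶ Y') :
    p.IsHomLift h (s.map h) :=
  haveI : (FibCat.selfOver D).p.IsHomLift h h := IsHomLift.map (𝟭 D) h
  BasedFunctor.preserves_isHomLift s h h

lemma isEquivalence_restr
    (hφ : ∀ Y : D, W4c2modmodulilect.HasContractibleNerve.{max u₁ u₂ u₃ v₁ v₂ v₃, max u₁ u₂ u₃ v₁ v₂ v₃}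
      (StructuredArrow Y φ)) :
    (Stk.restr (FibCat.toSelf (BasedCategory.ofFunctor φ)) (BasedCategory.ofFunctor p)).IsEquivalence where
  faithful := ⟨fun {s s'} σ σ' h => by
    refine BasedNatTrans.homCategory.ext _ _ (NatTrans.ext (funext fun Y => ?_))
    obtain ⟨g⟩ := (hφ Y).1
    have h1 : σ.toNatTrans.app (φ.obj g.right) = σ'.toNatTrans.app (φ.obj g.right) :=
      congrArg (fun τ => τ.toNatTrans.app g.right) h
    have : p.IsHomLift g.hom (s'.map g.hom) := sec_lift s' g.hom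
    have : p.IsHomLift (𝟙 Y) (σ.toNatTrans.app Y) := σ.isHomLift' Y
    have : p.IsHomLift (𝟙 Y) (σ'.toNatTrans.app Y) := σ'.isHomLift' Y
    refine ext_cart (p := p) g.hom (s'.map g.hom) (𝟙 Y) _ _ ?_
    exact (σ.toNatTrans.naturality g.hom).symm.trans ((congrArg (s.map g.hom ≫ ·) h1).trans
      (σ'.toNatTrans.naturality g.hom))⟩
  full := ⟨fun {s s'} τ => by
    have hex : ∀ (Y : D) (g : StructuredArrow Y φ), ∃ χ : s.obj Y ⟶ s'.obj Y, p.IsHomLift (𝟙 Y) χ ∧
        χ ≫ s'.map g.hom = s.map g.hom ≫ τ.toNatTrans.app g.right := fun Y g => by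
      have : p.IsHomLift g.hom (s'.map g.hom) := sec_lift s' g.hom
      have : p.IsHomLift g.hom (s.map g.hom) := sec_lift s g.hom
      have : p.IsHomLift (𝟙 (φ.obj g.right)) (τ.toNatTrans.app g.right) := τ.isHomLift' g.right
      have : p.IsHomLift g.hom (s.map g.hom ≫ τ.toNatTrans.app g.right) := inferInstance
      exact exists_factor g.hom (s'.map g.hom) (𝟙 Y) (Category.id_comp _).symm _
    choose χ hχ hχ' using hex
    have hc : ∀ (Y : D) (g g' : StructuredArrow Y φ), χ Y g = χ Y g' := fun Y =>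
      eq_of_contractible (hφ Y) (χ Y) fun {g g'} k => by
        have : p.IsHomLift g'.hom (s'.map g'.hom) := sec_lift s' g'.hom
        have := hχ Y g
        have := hχ Y g'
        refine ext_cart (p := p) g'.hom (s'.map g'.hom) (𝟙 Y) _ _ (Eq.trans ?_ (hχ' Y g').symm)
        rw [← StructuredArrow.w k, s'.toFunctor.map_comp, s.toFunctor.map_comp, ← Category.assoc, hχ' Y g,
          Category.assoc, Category.assoc]
        exact congrArg (s.map g.hom ≫ ·) (τ.toNatTrans.naturality k.right).symm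
    refine ⟨⟨⟨fun Y => χ Y (hφ Y).1.some, fun Y Y' h => ?_⟩, fun Y => hχ Y _⟩, ?_⟩
    · let g := (hφ Y').1.some
      have : p.IsHomLift g.hom (s'.map g.hom) := sec_lift s' g.hom
      have := hχ Y (hφ Y).1.some
      have := hχ Y' g
      have : p.IsHomLift h (s.map h) := sec_lift s h
      have : p.IsHomLift h (s'.map h) := sec_lift s' h
      have : p.IsHomLift h (s.map h ≫ χ Y' g) := inferInstance
      have : p.IsHomLift h (χ Y (hφ Y).1.some ≫ s'.map h) := inferInstance
      refine ext_cart (p := p) g.hom (s'.map g.hom) h (s.map h ≫ χ Y' g)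
        (χ Y (hφ Y).1.some ≫ s'.map h) ?_
      rw [hc Y _ (StructuredArrow.mk (h ≫ g.hom)), Category.assoc, Category.assoc, hχ' Y' g,
        ← s'.toFunctor.map_comp, ← Category.assoc, ← s.toFunctor.map_comp]
      exact (hχ' Y (StructuredArrow.mk (h ≫ g.hom))).symm
    · refine BasedNatTrans.homCategory.ext _ _ (NatTrans.ext (funext fun X => ?_))
      have h1 := hχ' (φ.obj X) (StructuredArrow.mk (𝟙 (φ.obj X)))
      change χ (φ.obj X) _ = τ.toNatTrans.app X
      rw [hc (φ.obj X) _ (StructuredArrow.mk (𝟙 (φ.obj X)))]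
      simpa using h1⟩
  essSurj := ⟨fun t => by
    let γ : ∀ X : C, secObj t hφ (φ.obj X) ⟶ t.obj X := fun X =>
      secCone t hφ (φ.obj X) (StructuredArrow.mk (𝟙 (φ.obj X)))
    have hγ : ∀ X : C, p.IsHomLift (𝟙 (φ.obj X)) (γ X) := fun X =>
      secCone_lift t hφ (φ.obj X) (StructuredArrow.mk (𝟙 (φ.obj X)))
    refine ⟨sec t hφ, ⟨BasedNatIso.mkNatIso (NatIso.ofComponents
      (fun X => have := hγ X; have := isIso_of_lift_id (p := p) (R := φ.obj X) (γ X); asIso (γ X)) ?_) hγ⟩⟩
    intro X X' k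
    change (secMap_exists t hφ (φ.map k)).choose ≫ γ X' = γ X ≫ t.map k
    rw [(secMap_exists t hφ (φ.map k)).choose_spec.2]
    let k' : StructuredArrow.mk (𝟙 (φ.obj X)) ⟶ StructuredArrow.mk (φ.map k ≫ 𝟙 (φ.obj X')) :=
      StructuredArrow.homMk k (by simp)
    exact (secCone_w t hφ (φ.obj X) k').symm⟩

omit [FibCat.IsFibGrpd p] in
lemma contractible_structuredArrow (f : C ⥤ D) [f.IsFibered] (Y : D)
    (h : W4c2modmodulilect.HasContractibleNerve.{w, w} (f.Fiber Y)) :
    W4c2modmodulilect.HasContractibleNerve.{w, w} (StructuredArrow Y f) := by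
  let L : f.Fiber Y ⥤ StructuredArrow Y f :=
    { obj := fun a => StructuredArrow.mk (eqToHom a.2.symm)
      map := fun {a b} k => StructuredArrow.homMk k.1 (by
        have := k.2
        have h2 := IsHomLift.fac' f (𝟙 Y) k.1
        simp [h2])
      map_id := fun a => by ext; rfl
      map_comp := fun _ _ => by ext; rfl }
  have hex : ∀ g : StructuredArrow Y f, ∃ (a : C) (φ : a ⟶ g.right), f.IsCartesian g.hom φ := fun g =>
    IsPreFibered.exists_isCartesian f rfl g.hom
  choose a φ hφ using hex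
  refine contractible_of_counit h L (fun g => ⟨a g, IsHomLift.domain_eq f g.hom (φ g)⟩)
    (fun g => StructuredArrow.homMk (φ g) (by
      have h2 := IsHomLift.fac' f g.hom (φ g)
      simp [L, h2])) fun {g g'} k => ?_
  have : f.IsHomLift g'.hom (φ g ≫ k.right) := by
    have : f.IsHomLift (f.map k.right) k.right := IsHomLift.map f k.right
    rw [← StructuredArrow.w k]; infer_instance
  refine ⟨⟨Functor.IsCartesian.map f g'.hom (φ g') (φ g ≫ k.right), inferInstance⟩, ?_⟩
  ext
  exact Functor.IsCartesian.fac f g'.hom (φ g') (φ g ≫ k.right)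

end Groth.Agent.H14Stk.Contractible
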