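import Groth.Agent.H14Stk.Extend
import Groth.Agent.H14Fib.Basic
import Mathlib.CategoryTheory.Sites.CoverPreserving
import Mathlib.CategoryTheory.Limits.Preserves.Shapes.Pullbacks

/-!
# The pullback of a stack along a morphism of sites

For `u : C ⥤ D` preserving pullbacks and coverings and `𝒮` a stack over `D`, the category of triples
`(U, x, φ : u U ≅ p x)` is a stack over `C`.  Descent is obtained by extending a morphism of generating
families from the slice over `u U`.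
-/

set_option autoImplicit false
set_option backward.isDefEq.respectTransparency false
set_option backward.isDefEq.respectTransparency.types false

universe v₃ u₃ v₂ u₂ v u

open CategoryTheory CategoryTheory.Functor CategoryTheory.Limits Opposite

noncomputable section

namespace Groth.Agent.H14Stk.PullStack

open H14Fib Stk

variable {C : Type u} [Category.{v} C] {D : Type u₂} [Category.{v₂} D] (u : C ⥤ D)
  (𝒮 : BasedCategory.{v₃, u₃} D)

/-- The pulled back category. -/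
abbrev pull : BasedCategory C := BasedCategory.ofFunctor (CategoricalPullback.π₁ u 𝒮.p)

variable {U : C} (R : Sieve U)

/-- A descent datum for the pulled back category, unfolded. -/
structure Datum where
  /-- the objects -/
  X : (sieveCat R).obj → 𝒮.obj
  /-- their positions -/
  φ : ∀ a, u.obj a.obj.left ≅ 𝒮.p.obj (X a)
  /-- the transition maps -/
  map : ∀ {a b : (sieveCat R).obj}, (a ⟶ b) → (X a ⟶ X b)
  map_id : ∀ a, map (𝟙 a) = 𝟙 (X a)
  map_comp : ∀ {a b c : (sieveCat R).obj} (m : a ⟶ b) (n : b ⟶ c), map (m ≫ n) = map m ≫ map n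
  w : ∀ {a b : (sieveCat R).obj} (m : a ⟶ b), u.map m.hom.left ≫ (φ b).hom = (φ a).hom ≫ 𝒮.p.map (map m)

variable {u 𝒮 R}

lemma fst_map_eq (H : sieveCat R ⥤ᵇ pull u 𝒮) {a b : (sieveCat R).obj} (m : a ⟶ b) :
    (H.map m).fst = eqToHom (H.w_obj a) ≫ m.hom.left ≫ eqToHom (H.w_obj b).symm :=
  Functor.congr_hom H.w m

/-- The datum of a functor on a sieve. -/
def datum (H : sieveCat R ⥤ᵇ pull u 𝒮) : Datum u 𝒮 R where
  X a := (H.obj a).snd
  φ a := u.mapIso (eqToIso (H.w_obj a).symm) ≪≫ (H.obj a).iso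
  map m := (H.map m).snd
  map_id a := congrArg CategoricalPullback.Hom.snd (H.toFunctor.map_id a)
  map_comp m n := congrArg CategoricalPullback.Hom.snd (H.toFunctor.map_comp m n)
  w {a b} m := by
    have h : u.map (H.map m).fst ≫ (H.obj b).iso.hom = (H.obj a).iso.hom ≫ 𝒮.p.map (H.map m).snd :=
      (H.map m).w
    simp only [Iso.trans_hom, Functor.mapIso_hom, eqToIso.hom, Category.assoc]
    rw [← h, fst_map_eq, ← Functor.map_comp_assoc, ← Functor.map_comp_assoc, eqToHom_trans_assoc,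
      eqToHom_refl, Category.id_comp]

namespace Datum

variable (d : Datum u 𝒮 R)

/-- The position of a morphism into a member. -/
def base {s : 𝒮.obj} (a : (sieveCat R).obj) (ψ : s ⟶ d.X a) : 𝒮.p.obj s ⟶ u.obj a.obj.left :=
  𝒮.p.map ψ ≫ (d.φ a).inv

lemma base_map {s : 𝒮.obj} {a b : (sieveCat R).obj} (ψ : s ⟶ d.X a) (m : a ⟶ b) :
    d.base b (ψ ≫ d.map m) = d.base a ψ ≫ u.map m.hom.left := by
  simp only [base, Functor.map_comp, Category.assoc]
  congr 1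
  rw [Iso.comp_inv_eq, Category.assoc, d.w m, Iso.inv_hom_id_assoc]

lemma base_comp {s t : 𝒮.obj} {a : (sieveCat R).obj} (k : t ⟶ s) (ψ : s ⟶ d.X a) :
    d.base a (k ≫ ψ) = 𝒮.p.map k ≫ d.base a ψ := by
  simp [base]

variable (h𝒮 : FibCat.IsFibGrpd 𝒮.p)

include h𝒮 in
lemma lift_eq {s : 𝒮.obj} {a b : (sieveCat R).obj} (m : a ⟶ b) (ζ ζ' : s ⟶ d.X a)
    (h : ζ ≫ d.map m = ζ' ≫ d.map m) (hb : d.base a ζ = d.base a ζ') : ζ = ζ' := by
  have hp : 𝒮.p.map ζ = 𝒮.p.map ζ' := by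
    rwa [base, base, cancel_mono] at hb
  have := sc_of_fibGrpd h𝒮 (𝒮.p.map (d.map m)) (d.map m)
  have : 𝒮.p.IsHomLift (𝒮.p.map ζ) ζ := IsHomLift.map 𝒮.p ζ
  have : 𝒮.p.IsHomLift (𝒮.p.map ζ) ζ' := hp ▸ IsHomLift.map 𝒮.p ζ'
  exact IsStronglyCartesian.ext 𝒮.p (𝒮.p.map (d.map m)) (d.map m) (𝒮.p.map ζ) h

include h𝒮 in
lemma exists_factor {s : 𝒮.obj} {a b : (sieveCat R).obj} (m : a ⟶ b) (ψ : s ⟶ d.X b)
    (l : 𝒮.p.obj s ⟶ u.obj a.obj.left) (hl : l ≫ u.map m.hom.left = d.base b ψ) :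
    ∃ ζ : s ⟶ d.X a, ζ ≫ d.map m = ψ ∧ d.base a ζ = l := by
  have := sc_of_fibGrpd h𝒮 (𝒮.p.map (d.map m)) (d.map m)
  have e : (l ≫ (d.φ a).hom) ≫ 𝒮.p.map (d.map m) = 𝒮.p.map ψ := by
    rw [Category.assoc, ← d.w m, reassoc_of% hl, base, Category.assoc, Iso.inv_hom_id, Category.comp_id]
  have : 𝒮.p.IsHomLift (𝒮.p.map ψ) ψ := IsHomLift.map 𝒮.p ψ
  obtain ⟨ζ, ⟨h1, h2⟩, -⟩ := IsStronglyCartesian.universal_property 𝒮.p (𝒮.p.map (d.map m)) (d.map m)
    (l ≫ (d.φ a).hom) (𝒮.p.map ψ) e.symm ψ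
  refine ⟨ζ, h2, ?_⟩
  rw [base, ← IsHomLift.eq_of_isHomLift 𝒮.p (l ≫ (d.φ a).hom) ζ]
  simp

/-- Two morphisms into members agree. -/
def Agree {s : 𝒮.obj} {a b : (sieveCat R).obj} (ψa : s ⟶ d.X a) (ψb : s ⟶ d.X b) : Prop :=
  ∃ (c : (sieveCat R).obj) (m : c ⟶ a) (n : c ⟶ b) (ζ : s ⟶ d.X c), ζ ≫ d.map m = ψa ∧ ζ ≫ d.map n = ψb

lemma agree_comp {s t : 𝒮.obj} {a b : (sieveCat R).obj} {ψa : s ⟶ d.X a} {ψb : s ⟶ d.X b} (k : t ⟶ s)
    (h : d.Agree ψa ψb) : d.Agree (k ≫ ψa) (k ≫ ψb) := by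
  obtain ⟨c, m, n, ζ, h1, h2⟩ := h
  exact ⟨c, m, n, k ≫ ζ, by rw [Category.assoc, h1], by rw [Category.assoc, h2]⟩

lemma agree_map {s : 𝒮.obj} {a b : (sieveCat R).obj} (ψ : s ⟶ d.X a) (m : a ⟶ b) :
    d.Agree ψ (ψ ≫ d.map m) := ⟨a, 𝟙 a, m, ψ, by rw [d.map_id, Category.comp_id], rfl⟩

lemma agree_base {s : 𝒮.obj} {a b : (sieveCat R).obj} {ψa : s ⟶ d.X a} {ψb : s ⟶ d.X b}
    (h : d.Agree ψa ψb) : d.base a ψa ≫ u.map a.obj.hom = d.base b ψb ≫ u.map b.obj.hom := by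
  obtain ⟨c, m, n, ζ, rfl, rfl⟩ := h
  rw [base_map, base_map, Category.assoc, Category.assoc, ← Functor.map_comp, ← Functor.map_comp,
    Over.w m.hom, Over.w n.hom]

variable [HasPullbacks C] [PreservesLimitsOfShape WalkingCospan u]

/-- The product of two members in the sieve. -/
def prodMem (a b : (sieveCat R).obj) : (sieveCat R).obj :=
  ⟨Over.mk (pullback.fst a.obj.hom b.obj.hom ≫ a.obj.hom), R.downward_closed a.property _⟩

/-- The first projection. -/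
def fstMem (a b : (sieveCat R).obj) : prodMem a b ⟶ a :=
  ObjectProperty.homMk (Over.homMk (pullback.fst a.obj.hom b.obj.hom) rfl)

/-- The second projection. -/
def sndMem (a b : (sieveCat R).obj) : prodMem a b ⟶ b :=
  ObjectProperty.homMk (Over.homMk (pullback.snd a.obj.hom b.obj.hom) pullback.condition.symm)

lemma isPullback_mem (a b : (sieveCat R).obj) :
    IsPullback (u.map (fstMem a b).hom.left) (u.map (sndMem a b).hom.left) (u.map a.obj.hom) (u.map b.obj.hom) :=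
  (IsPullback.of_hasPullback a.obj.hom b.obj.hom).map u

include h𝒮 in
lemma agree_unique {s : 𝒮.obj} {a b : (sieveCat R).obj} {ψa : s ⟶ d.X a} {ψb ψb' : s ⟶ d.X b}
    (h : d.Agree ψa ψb) (h' : d.Agree ψa ψb') (hb : d.base b ψb = d.base b ψb') : ψb = ψb' := by
  obtain ⟨c, m, n, ζ, rfl, rfl⟩ := h
  obtain ⟨c', m', n', ζ', e, rfl⟩ := h'
  have sq : ∀ {x : (sieveCat R).obj} (m : x ⟶ a) (n : x ⟶ b), ∃ k : x ⟶ prodMem a b,
      k ≫ fstMem a b = m ∧ k ≫ sndMem a b = n := fun {x} m n => by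
    refine ⟨ObjectProperty.homMk (Over.homMk (pullback.lift m.hom.left n.hom.left
      ((Over.w m.hom).trans (Over.w n.hom).symm)) ?_), ObjectProperty.hom_ext _ (Over.OverMorphism.ext ?_),
      ObjectProperty.hom_ext _ (Over.OverMorphism.ext ?_)⟩
    · change pullback.lift _ _ _ ≫ pullback.fst _ _ ≫ a.obj.hom = x.obj.hom
      rw [pullback.lift_fst_assoc]
      exact Over.w m.hom
    · exact pullback.lift_fst _ _ _
    · exact pullback.lift_snd _ _ _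
  obtain ⟨k, rfl, rfl⟩ := sq m n
  obtain ⟨k', rfl, rfl⟩ := sq m' n'
  rw [d.map_comp, d.map_comp, ← Category.assoc, ← Category.assoc] at e ⊢
  rw [d.map_comp, d.map_comp, ← Category.assoc, ← Category.assoc] at hb
  congr 1
  refine d.lift_eq h𝒮 (fstMem a b) _ _ e.symm ((isPullback_mem a b).hom_ext ?_ ?_)
  · rw [← base_map, ← base_map, e]
  · rw [← base_map, ← base_map, hb]

include h𝒮 in
lemma agree_trans {s : 𝒮.obj} {a b c : (sieveCat R).obj} {ψa : s ⟶ d.X a} {ψb : s ⟶ d.X b}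
    {ψc : s ⟶ d.X c} (h : d.Agree ψa ψb) (h' : d.Agree ψb ψc) : d.Agree ψa ψc := by
  obtain ⟨x, m, n, ζ, rfl, rfl⟩ := h
  obtain ⟨y, m', n', ζ', e, rfl⟩ := h'
  -- the product over `b`
  let z : (sieveCat R).obj :=
    ⟨Over.mk (pullback.fst n.hom.left m'.hom.left ≫ x.obj.hom), R.downward_closed x.property _⟩
  let z₁ : z ⟶ x := ObjectProperty.homMk (Over.homMk (pullback.fst n.hom.left m'.hom.left) rfl)
  let z₂ : z ⟶ y := ObjectProperty.homMk (Over.homMk (pullback.snd n.hom.left m'.hom.left) (by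
    change _ ≫ y.obj.hom = pullback.fst _ _ ≫ x.obj.hom
    rw [← Over.w m'.hom, ← pullback.condition_assoc, Over.w n.hom]))
  have hz : IsPullback (u.map z₁.hom.left) (u.map z₂.hom.left) (u.map n.hom.left) (u.map m'.hom.left) :=
    (IsPullback.of_hasPullback n.hom.left m'.hom.left).map u
  have hbase : d.base x ζ ≫ u.map n.hom.left = d.base y ζ' ≫ u.map m'.hom.left := by
    rw [← base_map, ← base_map, e]
  obtain ⟨ξ, hξ, hξb⟩ := d.exists_factor h𝒮 z₁ ζ (hz.lift _ _ hbase) (hz.lift_fst _ _ _)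
  have h2 : ξ ≫ d.map z₂ = ζ' := by
    refine d.lift_eq h𝒮 m' _ _ ?_ ?_
    · have hw : z₂ ≫ m' = z₁ ≫ n := ObjectProperty.hom_ext _ (Over.OverMorphism.ext pullback.condition.symm)
      rw [e, Category.assoc, ← d.map_comp, hw, d.map_comp, ← Category.assoc, hξ]
    · rw [base_map, hξb, hz.lift_snd]
  exact ⟨z, z₁ ≫ m, z₂ ≫ n', ξ, by rw [d.map_comp, ← Category.assoc, hξ],
    by rw [d.map_comp, ← Category.assoc, h2]⟩

include h𝒮 in
lemma exists_agree {s : 𝒮.obj} {a b : (sieveCat R).obj} (ψa : s ⟶ d.X a)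
    (l : 𝒮.p.obj s ⟶ u.obj b.obj.left) (hl : l ≫ u.map b.obj.hom = d.base a ψa ≫ u.map a.obj.hom) :
    ∃ ψb : s ⟶ d.X b, d.Agree ψa ψb ∧ d.base b ψb = l := by
  obtain ⟨ζ, hζ, hζb⟩ := d.exists_factor h𝒮 (fstMem a b) ψa ((isPullback_mem a b).lift _ l hl.symm)
    ((isPullback_mem a b).lift_fst _ _ _)
  exact ⟨ζ ≫ d.map (sndMem a b), ⟨_, _, _, ζ, hζ, rfl⟩, by rw [base_map, hζb, (isPullback_mem a b).lift_snd]⟩

end Datum

variable (u R) in
/-- The index of the generating family: a member and a morphism to its image. -/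
structure Idx where
  /-- the member -/
  a : (sieveCat R).obj
  /-- the source -/
  W : D
  /-- the morphism -/
  k : W ⟶ u.obj a.obj.left

/-- The generating family of the slice over `u U`. -/
def fam (i : Idx u R) : (FibCat.overCat (u.obj U)).obj := Over.mk (i.k ≫ u.map i.a.obj.hom)

section Family

variable (d : Datum u 𝒮 R) (h𝒮 : FibCat.IsFibGrpd 𝒮.p)

/-- The value at an index. -/
def val (i : Idx u R) : 𝒮.obj := (h𝒮.exists_lift (x := d.X i.a) (i.k ≫ (d.φ i.a).hom)).choose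

/-- The cartesian map to the member. -/
def q (i : Idx u R) : val d h𝒮 i ⟶ d.X i.a :=
  (h𝒮.exists_lift (x := d.X i.a) (i.k ≫ (d.φ i.a).hom)).choose_spec.choose

lemma q_lift (i : Idx u R) : 𝒮.p.IsHomLift (i.k ≫ (d.φ i.a).hom) (q d h𝒮 i) :=
  (h𝒮.exists_lift (x := d.X i.a) (i.k ≫ (d.φ i.a).hom)).choose_spec.choose_spec

lemma val_obj (i : Idx u R) : 𝒮.p.obj (val d h𝒮 i) = i.W :=
  @IsHomLift.domain_eq _ _ _ _ 𝒮.p _ _ _ _ _ _ (q_lift d h𝒮 i)

lemma base_q (i : Idx u R) : d.base i.a (q d h𝒮 i) = eqToHom (val_obj d h𝒮 i) ≫ i.k := by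
  rw [Datum.base, @IsHomLift.fac' _ _ _ _ 𝒮.p _ _ _ _ _ _ (q_lift d h𝒮 i)]
  simp

variable [HasPullbacks C] [PreservesLimitsOfShape WalkingCospan u]

lemma exists_mu {i j : Idx u R} (α : fam i ⟶ fam j) :
    ∃ μ : val d h𝒮 i ⟶ val d h𝒮 j, 𝒮.p.IsHomLift α.left μ ∧ d.Agree (q d h𝒮 i) (μ ≫ q d h𝒮 j) := by
  have hw : α.left ≫ j.k ≫ u.map j.a.obj.hom = i.k ≫ u.map i.a.obj.hom := Over.w α
  obtain ⟨ψ, hψ, hψb⟩ := d.exists_agree h𝒮 (b := j.a) (q d h𝒮 i)
    ((eqToHom (val_obj d h𝒮 i) ≫ α.left) ≫ j.k) (by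
      rw [base_q, Category.assoc, Category.assoc, Category.assoc, hw])
  have := q_lift d h𝒮 j
  have := sc_of_fibGrpd h𝒮 (j.k ≫ (d.φ j.a).hom) (q d h𝒮 j)
  have : 𝒮.p.IsHomLift (α.left ≫ j.k ≫ (d.φ j.a).hom) ψ := by
    refine IsHomLift.of_fac' 𝒮.p _ _ (val_obj d h𝒮 i) rfl ?_
    have := congrArg (fun t => t ≫ (d.φ j.a).hom) hψb
    simp [Datum.base] at this
    simp [this]
  obtain ⟨μ, ⟨h1, h2⟩, -⟩ := IsStronglyCartesian.universal_property 𝒮.p (j.k ≫ (d.φ j.a).hom)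
    (q d h𝒮 j) α.left _ rfl ψ
  exact ⟨μ, h1, h2.symm ▸ hψ⟩

lemma mu_unique {i j : Idx u R} {g : i.W ⟶ j.W} (μ μ' : val d h𝒮 i ⟶ val d h𝒮 j)
    (h1 : 𝒮.p.IsHomLift g μ) (h1' : 𝒮.p.IsHomLift g μ')
    (h2 : d.Agree (q d h𝒮 i) (μ ≫ q d h𝒮 j)) (h2' : d.Agree (q d h𝒮 i) (μ' ≫ q d h𝒮 j)) : μ = μ' := by
  have := q_lift d h𝒮 j
  have := sc_of_fibGrpd h𝒮 (j.k ≫ (d.φ j.a).hom) (q d h𝒮 j)
  refine IsStronglyCartesian.ext 𝒮.p (j.k ≫ (d.φ j.a).hom) (q d h𝒮 j) g (d.agree_unique h𝒮 h2 h2' ?_)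
  rw [Datum.base_comp, Datum.base_comp, IsHomLift.fac' 𝒮.p g μ, IsHomLift.fac' 𝒮.p g μ']

/-- The morphism of families. -/
def homMap : HomMap (𝒳 := FibCat.overCat (u.obj U)) (𝒴 := 𝒮) (fam (R := R)) (val d h𝒮) where
  map α := (exists_mu d h𝒮 α).choose
  lift {i j} α V W g hg := by
    subst_hom_lift (FibCat.overCat (u.obj U)).p g α
    exact (exists_mu d h𝒮 α).choose_spec.1
  map_id i := mu_unique d h𝒮 _ _ (exists_mu d h𝒮 (𝟙 (fam i))).choose_spec.1
    (IsHomLift.id (val_obj d h𝒮 i)) (exists_mu d h𝒮 (𝟙 (fam i))).choose_spec.2 (by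
      simpa [d.map_id] using d.agree_map (q d h𝒮 i) (𝟙 i.a))
  map_comp {i j k} α β := by
    obtain ⟨h1, h2⟩ := (exists_mu d h𝒮 α).choose_spec
    obtain ⟨h3, h4⟩ := (exists_mu d h𝒮 β).choose_spec
    refine mu_unique d h𝒮 _ _ (exists_mu d h𝒮 (α ≫ β)).choose_spec.1 ?_
      (exists_mu d h𝒮 (α ≫ β)).choose_spec.2 (d.agree_trans h𝒮 h2 ?_)
    · exact homLift_comp' h1 h3
    · rw [Category.assoc]
      exact d.agree_comp _ h4

lemma homMap_agree {i j : Idx u R} (α : fam i ⟶ fam j) :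
    d.Agree (q d h𝒮 i) ((homMap d h𝒮).map α ≫ q d h𝒮 j) := (exists_mu d h𝒮 α).choose_spec.2

lemma homMap_lift {i j : Idx u R} (α : fam i ⟶ fam j) : 𝒮.p.IsHomLift α.left ((homMap d h𝒮).map α) :=
  (exists_mu d h𝒮 α).choose_spec.1

end Family

lemma pullStable_fam : PullStable (𝒳 := FibCat.overCat (u.obj U)) (fam (u := u) (R := R)) := by
  intro j V W g hW
  refine ⟨⟨j.a, V, g ≫ eqToHom hW.symm ≫ j.k⟩, Over.homMk (g ≫ eqToHom hW.symm) (by simp [fam]), ?_⟩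
  refine IsHomLift.of_fac' (FibCat.overCat (u.obj U)).p g _ rfl hW ?_
  change g ≫ eqToHom hW.symm = _
  simp

variable {J : GrothendieckTopology C} {K : GrothendieckTopology D} (hu : CoverPreserving J K u)

include hu in
lemma locCovers_fam (hR : R ∈ J U) : LocCovers (𝒳 := FibCat.overCat (u.obj U)) K (fam (u := u) (R := R)) := by
  intro ξ
  refine ⟨(R.functorPushforward u).pullback ξ.hom, K.pullback_stable _ (hu.cover_preserve hR), ?_⟩
  rintro V f ⟨Z, h, k, hh, hk⟩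
  refine ⟨⟨⟨Over.mk h, hh⟩, V, k⟩, Over.homMk f (by simpa [fam] using hk), ?_⟩
  exact IsHomLift.of_fac' (FibCat.overCat (u.obj U)).p f _ rfl rfl (by
    change f = _
    simp [fam])

/-- The index of a member. -/
abbrev idxOf (a : (sieveCat R).obj) : Idx u R := ⟨a, u.obj a.obj.left, 𝟙 _⟩

lemma isIso_q (d : Datum u 𝒮 R) (h𝒮 : FibCat.IsFibGrpd 𝒮.p) (a : (sieveCat R).obj) :
    IsIso (q d h𝒮 (idxOf a)) :=
  have := q_lift d h𝒮 (idxOf (u := u) a)
  isIso_of_fibGrpd h𝒮 ((idxOf (u := u) a).k ≫ (d.φ a).hom) _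

section Cocone

variable {H : sieveCat R ⥤ᵇ pull u 𝒮} (h𝒮 : FibCat.IsFibGrpd 𝒮.p)

lemma cocone_fst (c : GlueCocone H) (a : (sieveCat R).obj) :
    (c.θ a).fst = eqToHom (H.w_obj a) ≫ a.obj.hom ≫ eqToHom c.pt_obj.symm :=
  @IsHomLift.fac' _ _ _ _ (pull u 𝒮).p _ _ _ _ _ _ (c.lift a)

/-- The position of the point of a cocone. -/
def ptPos (c : GlueCocone H) : u.obj U ≅ 𝒮.p.obj c.pt.snd :=
  u.mapIso (eqToIso c.pt_obj.symm) ≪≫ c.pt.iso

/-- The point of a cocone moved over `u U`. -/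
def cPt (c : GlueCocone H) : 𝒮.obj := (h𝒮.exists_lift (x := c.pt.snd) (ptPos c).hom).choose

/-- The comparison. -/
def cMap (c : GlueCocone H) : cPt h𝒮 c ⟶ c.pt.snd :=
  (h𝒮.exists_lift (x := c.pt.snd) (ptPos c).hom).choose_spec.choose

lemma cMap_lift (c : GlueCocone H) : 𝒮.p.IsHomLift (ptPos c).hom (cMap h𝒮 c) :=
  (h𝒮.exists_lift (x := c.pt.snd) (ptPos c).hom).choose_spec.choose_spec

lemma cPt_obj (c : GlueCocone H) : 𝒮.p.obj (cPt h𝒮 c) = u.obj U :=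
  @IsHomLift.domain_eq _ _ _ _ 𝒮.p _ _ _ _ _ _ (cMap_lift h𝒮 c)

lemma isIso_cMap (c : GlueCocone H) : IsIso (cMap h𝒮 c) :=
  have := cMap_lift h𝒮 c
  isIso_of_fibGrpd h𝒮 (ptPos c).hom _

lemma base_θ (c : GlueCocone H) (a : (sieveCat R).obj) :
    𝒮.p.map (c.θ a).snd = ((datum H).φ a).inv ≫ u.map a.obj.hom ≫ (ptPos c).hom := by
  have h : u.map (c.θ a).fst ≫ c.pt.iso.hom = (H.obj a).iso.hom ≫ 𝒮.p.map (c.θ a).snd := (c.θ a).w
  rw [cocone_fst] at h
  rw [Iso.eq_inv_comp]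
  simp only [datum, ptPos, Iso.trans_hom, Functor.mapIso_hom, eqToIso.hom, Category.assoc]
  rw [← h]
  simp [eqToHom_map]

variable [HasPullbacks C] [PreservesLimitsOfShape WalkingCospan u]

/-- A cocone as a value of the extension at the top object. -/
def cExt (c : GlueCocone H) : ExtPt (homMap (datum H) h𝒮) (topObj (u.obj U)) where
  pt := cPt h𝒮 c
  pt_obj := cPt_obj h𝒮 c
  θ {i} _ :=
    have := isIso_cMap h𝒮 c
    q (datum H) h𝒮 i ≫ (c.θ i.a).snd ≫ inv (cMap h𝒮 c)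
  lift {i} m V W g hg := by
    subst_hom_lift (FibCat.overCat (u.obj U)).p g m
    have := isIso_cMap h𝒮 c
    refine IsHomLift.of_fac' 𝒮.p _ _ (val_obj (datum H) h𝒮 i) (cPt_obj h𝒮 c) ?_
    have hm : m.left = i.k ≫ u.map i.a.obj.hom := (Category.comp_id _).symm.trans (Over.w m)
    have hc : 𝒮.p.map (inv (cMap h𝒮 c)) = (ptPos c).inv ≫ eqToHom (cPt_obj h𝒮 c).symm := by
      rw [Functor.map_inv]
      apply IsIso.inv_eq_of_hom_inv_id
      rw [@IsHomLift.fac' _ _ _ _ 𝒮.p _ _ _ _ _ _ (cMap_lift h𝒮 c)]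
      simp
    have hb := base_q (datum H) h𝒮 i
    rw [Datum.base, Iso.comp_inv_eq] at hb
    change 𝒮.p.map _ = eqToHom _ ≫ m.left ≫ eqToHom _
    rw [Functor.map_comp, Functor.map_comp, base_θ, hc, hb, hm]
    simp
  nat {i j} α m := by
    obtain ⟨x, μ, ν, ζ, h1, h2⟩ := homMap_agree (datum H) h𝒮 α
    have hμ : (H.map μ).snd ≫ (c.θ i.a).snd = (c.θ x).snd :=
      congrArg CategoricalPullback.Hom.snd (c.nat μ)
    have hν : (H.map ν).snd ≫ (c.θ j.a).snd = (c.θ x).snd :=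
      congrArg CategoricalPullback.Hom.snd (c.nat ν)
    change q (datum H) h𝒮 i ≫ (c.θ i.a).snd ≫ _ = (homMap (datum H) h𝒮).map α ≫ q (datum H) h𝒮 j ≫ _
    rw [← Category.assoc ((homMap (datum H) h𝒮).map α), ← h1, ← h2, Category.assoc, Category.assoc]
    change ζ ≫ (H.map μ).snd ≫ _ = ζ ≫ (H.map ν).snd ≫ _
    rw [reassoc_of% hμ, reassoc_of% hν]

end Cocone

lemma overFibGrpd (T : D) : FibCat.IsFibGrpd (FibCat.overCat T).p where
  exists_lift {x V} f := ⟨Over.mk (f ≫ x.hom), Over.homMk f rfl,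
    IsHomLift.map (FibCat.overCat T).p (Over.homMk f rfl : (Over.mk (f ≫ x.hom) : Over T) ⟶ x)⟩
  isStronglyCartesian {y x} φ :=
    { toIsHomLift := IsHomLift.map (FibCat.overCat T).p φ
      universal_property' := fun {a'} g ψ hψ => by
        have e : g ≫ φ.left = ψ.left :=
          @IsHomLift.eq_of_isHomLift _ _ _ _ (FibCat.overCat T).p a' x _ ψ hψ
        let k : a' ⟶ y := Over.homMk g (by rw [← Over.w φ, reassoc_of% e]; exact Over.w ψ)
        refine ⟨k, ⟨IsHomLift.of_fac' (FibCat.overCat T).p g k rfl rfl (by change g = _; simp),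
          Over.OverMorphism.ext e⟩, ?_⟩
        rintro t ⟨ht, -⟩
        exact Over.OverMorphism.ext
          (@IsHomLift.eq_of_isHomLift _ _ _ _ (FibCat.overCat T).p a' y g t ht).symm }

lemma pull_fibGrpd (h𝒮 : FibCat.IsFibGrpd 𝒮.p) (hfib : (pull u 𝒮).p.IsFibered) :
    FibCat.IsFibGrpd (pull u 𝒮).p :=
  have := hfib
  fibGrpd_of_fiber fun U => ⟨fun {a b} φ => by
    have h1 := φ.2
    have hf : IsIso φ.1.fst := by
      have := @IsHomLift.fac' _ _ _ _ (pull u 𝒮).p _ _ _ _ _ φ.1 h1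
      change φ.1.fst = _ at this
      rw [this]; infer_instance
    have hs : IsIso (𝒮.p.map φ.1.snd) := by
      have e : 𝒮.p.map φ.1.snd = a.1.iso.inv ≫ u.map φ.1.fst ≫ b.1.iso.hom := by
        rw [Iso.eq_inv_comp]; exact φ.1.w.symm
      rw [e]; infer_instance
    have := isIso_of_map_isIso h𝒮 φ.1.snd
    have : IsIso φ.1 := (CategoricalPullback.isIso_iff u 𝒮.p φ.1).2 ⟨hf, this⟩
    exact fiber_isIso_of_isIso φ⟩

variable [HasPullbacks C] [PreservesLimitsOfShape WalkingCospan u]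

include hu in
lemma glueHom_pull (h : IsStack K 𝒮) (hR : R ∈ J U) : GlueHom (pull u 𝒮) R := by
  have h𝒮 := h.1
  have hpre := isPrestack_of_isStack h
  -- a vertical morphism is the same as a morphism of extensions
  have key : ∀ (H : sieveCat R ⥤ᵇ pull u 𝒮) (c c' : GlueCocone H),
      ∃! f : c.pt ⟶ c'.pt, (pull u 𝒮).p.IsHomLift (𝟙 U) f ∧ ∀ a, c.θ a ≫ f = c'.θ a := by
    intro H c c'
    have := isIso_cMap h𝒮 c
    have := isIso_cMap h𝒮 c'
    have hl : ∀ {b : c.pt.snd ⟶ c'.pt.snd}, 𝒮.p.map b = (ptPos c).inv ≫ (ptPos c').hom ↔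
        𝒮.p.IsHomLift (𝟙 (u.obj U)) (cMap h𝒮 c ≫ b ≫ inv (cMap h𝒮 c')) := by
      intro b
      have e := @IsHomLift.fac' _ _ _ _ 𝒮.p _ _ _ _ _ _ (cMap_lift h𝒮 c)
      have e' : 𝒮.p.map (inv (cMap h𝒮 c')) = (ptPos c').inv ≫ eqToHom (cPt_obj h𝒮 c').symm := by
        rw [Functor.map_inv]
        apply IsIso.inv_eq_of_hom_inv_id
        rw [@IsHomLift.fac' _ _ _ _ 𝒮.p _ _ _ _ _ _ (cMap_lift h𝒮 c')]
        simp
      refine ⟨fun hb => IsHomLift.of_fac' 𝒮.p _ _ (cPt_obj h𝒮 c) (cPt_obj h𝒮 c') ?_, fun hb => ?_⟩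
      · rw [Functor.map_comp, Functor.map_comp, e, e', hb]; simp
      · have h3 := @IsHomLift.fac' _ _ _ _ 𝒮.p _ _ _ _ _ _ hb
        rw [Functor.map_comp, Functor.map_comp, e, e'] at h3
        rw [← cancel_epi (ptPos c).hom, ← cancel_mono (ptPos c').inv, ← cancel_epi (eqToHom (cPt_obj h𝒮 c)),
          ← cancel_mono (eqToHom (cPt_obj h𝒮 c').symm)]
        simpa using h3
    obtain ⟨b, ⟨hb, hbθ⟩, hbu⟩ := extPt_hom (overFibGrpd (u.obj U)) hpre pullStable_fam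
      (locCovers_fam hu hR) (cExt h𝒮 c) (cExt h𝒮 c') (𝟙 (topObj (u.obj U)))
    rw [(FibCat.overCat (u.obj U)).p.map_id] at hb hbu
    let b₀ : c.pt.snd ⟶ c'.pt.snd := inv (cMap h𝒮 c) ≫ b ≫ cMap h𝒮 c'
    have hb' : cMap h𝒮 c ≫ b₀ ≫ inv (cMap h𝒮 c') = b := by simp [b₀]
    have hb₀ : 𝒮.p.map b₀ = (ptPos c).inv ≫ (ptPos c').hom := hl.2 (hb'.symm ▸ hb)
    let f : c.pt ⟶ c'.pt :=
      { fst := eqToHom (c.pt_obj.trans c'.pt_obj.symm)
        snd := b₀
        w := by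
          rw [hb₀]
          simp [ptPos, Functor.map_comp, eqToHom_map] }
    have hθ : ∀ a, (c.θ a).snd ≫ b₀ = (c'.θ a).snd := fun a => by
      have := isIso_q (datum H) h𝒮 a
      have e : (q (datum H) h𝒮 (idxOf a) ≫ (c.θ a).snd ≫ inv (cMap h𝒮 c)) ≫ b =
          q (datum H) h𝒮 (idxOf a) ≫ (c'.θ a).snd ≫ inv (cMap h𝒮 c') :=
        hbθ (toTop (fam (idxOf (u := u) a)))
      simp only [Category.assoc, cancel_epi] at e
      simp [b₀, reassoc_of% e]
    refine ⟨f, ⟨?_, fun a => ?_⟩, ?_⟩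
    · exact IsHomLift.of_fac' (pull u 𝒮).p _ _ c.pt_obj c'.pt_obj
        (show eqToHom (c.pt_obj.trans c'.pt_obj.symm) = eqToHom c.pt_obj ≫ 𝟙 U ≫ eqToHom c'.pt_obj.symm by simp)
    · refine CategoricalPullback.hom_ext ?_ (hθ a)
      change (c.θ a).fst ≫ eqToHom (c.pt_obj.trans c'.pt_obj.symm) = _
      rw [cocone_fst, cocone_fst]
      simp
    · rintro g ⟨hg, hgθ⟩
      have hgf : g.fst = eqToHom (c.pt_obj.trans c'.pt_obj.symm) := by
        have := @IsHomLift.fac' _ _ _ _ (pull u 𝒮).p _ _ _ _ _ _ hg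
        change g.fst = _ at this
        rw [this]; simp
      refine CategoricalPullback.hom_ext hgf ?_
      have hgb : 𝒮.p.map g.snd = (ptPos c).inv ≫ (ptPos c').hom := by
        have hw : u.map g.fst ≫ c'.pt.iso.hom = c.pt.iso.hom ≫ 𝒮.p.map g.snd := g.w
        rw [hgf] at hw
        rw [Iso.eq_inv_comp]
        simp [ptPos, ← hw, eqToHom_map]
      have := hbu (cMap h𝒮 c ≫ g.snd ≫ inv (cMap h𝒮 c')) ⟨hl.1 hgb, fun {i} m => by
        have e : (c.θ i.a).snd ≫ g.snd = (c'.θ i.a).snd := congrArg CategoricalPullback.Hom.snd (hgθ i.a)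
        change (q (datum H) h𝒮 i ≫ (c.θ i.a).snd ≫ inv (cMap h𝒮 c)) ≫ _ = q (datum H) h𝒮 i ≫ _
        simp [reassoc_of% e]⟩
      change g.snd = b₀
      simp [b₀, ← this]
  refine ⟨fun H c c' => (key H c c').exists, fun H c x f g hf hg hfg => ?_⟩
  have hx : (pull u 𝒮).p.obj x = U := @IsHomLift.codomain_eq _ _ _ _ (pull u 𝒮).p _ _ _ _ _ _ hf
  let c' : GlueCocone H :=
    { pt := x
      pt_obj := hx
      θ := fun a => c.θ a ≫ f
      lift := fun a => (Category.comp_id a.obj.hom).symm ▸ homLift_comp' (c.lift a) hf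
      nat := fun m => by rw [← Category.assoc, c.nat] }
  exact (key H c c').unique ⟨hf, fun a => rfl⟩ ⟨hg, fun a => (hfg a).symm⟩

include hu in
lemma exists_cocone (h : IsStack K 𝒮) (hR : R ∈ J U) (H : sieveCat R ⥤ᵇ pull u 𝒮) :
    Nonempty (GlueCocone H) := by
  have h𝒮 := h.1
  obtain ⟨E⟩ := exists_extPt (Φ := homMap (datum H) h𝒮) (overFibGrpd (u.obj U)) h pullStable_fam
    (locCovers_fam hu hR) (topObj (u.obj U))
  let pt : (pull u 𝒮).obj := ⟨U, E.pt, eqToIso E.pt_obj.symm⟩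
  let m (a : (sieveCat R).obj) : fam (idxOf (u := u) a) ⟶ topObj (u.obj U) := toTop _
  have hq : ∀ a, IsIso (q (datum H) h𝒮 (idxOf a)) := isIso_q (datum H) h𝒮
  let θ₂ (a : (sieveCat R).obj) : (datum H).X a ⟶ E.pt := inv (q (datum H) h𝒮 (idxOf a)) ≫ E.θ (m a)
  have hθ₂ : ∀ a, ((datum H).φ a).hom ≫ 𝒮.p.map (θ₂ a) = u.map a.obj.hom ≫ eqToHom E.pt_obj.symm := by
    intro a
    have h1 := @IsHomLift.fac' _ _ _ _ 𝒮.p _ _ _ _ _ _
      (E.lift (m a) _ (toTop_isHomLift (fam (idxOf (u := u) a))))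
    have h2 := base_q (datum H) h𝒮 (idxOf a)
    rw [Datum.base, Iso.comp_inv_eq] at h2
    have h3 : ((datum H).φ a).hom ≫ inv (𝒮.p.map (q (datum H) h𝒮 (idxOf a))) =
        eqToHom (val_obj (datum H) h𝒮 (idxOf (u := u) a)).symm := by
      rw [IsIso.comp_inv_eq, h2]; simp
    simp only [θ₂, Functor.map_comp, Functor.map_inv]
    rw [reassoc_of% h3, h1]
    simp [fam]
  refine ⟨{ pt := pt, pt_obj := rfl,
            θ := fun a => { fst := eqToHom (H.w_obj a) ≫ a.obj.hom, snd := θ₂ a, w := ?_ },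
            lift := fun a => ?_, nat := fun {a b} k => ?_ }⟩
  · change u.map _ ≫ eqToHom E.pt_obj.symm = (H.obj a).iso.hom ≫ _
    rw [Functor.map_comp, Category.assoc, ← hθ₂]
    simp [datum, ← Functor.map_comp_assoc]
  · exact IsHomLift.of_fac' (pull u 𝒮).p _ _ (H.w_obj a) rfl (by
      change eqToHom (H.w_obj a) ≫ a.obj.hom = _
      simp [pt])
  · refine CategoricalPullback.hom_ext ?_ ?_
    · change (H.map k).fst ≫ eqToHom _ ≫ b.obj.hom = eqToHom _ ≫ a.obj.hom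
      rw [fst_map_eq, ← Over.w k.hom]
      simp
    · change (datum H).map k ≫ θ₂ b = θ₂ a
      have hw : k.hom.left ≫ b.obj.hom = a.obj.hom := Over.w k.hom
      let α : fam (idxOf (u := u) a) ⟶ fam (idxOf (u := u) b) :=
        Over.homMk (u.map k.hom.left) (by simp [fam, ← Functor.map_comp, hw])
      have := hq a
      have := hq b
      let μ := q (datum H) h𝒮 (idxOf a) ≫ (datum H).map k ≫ inv (q (datum H) h𝒮 (idxOf b))
      have hμ : 𝒮.p.IsHomLift α.left μ := by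
        refine IsHomLift.of_fac' 𝒮.p _ _ (val_obj _ _ _) (val_obj _ _ _) ?_
        have h2 := base_q (datum H) h𝒮 (idxOf a)
        rw [Datum.base, Iso.comp_inv_eq] at h2
        have h4 := base_q (datum H) h𝒮 (idxOf b)
        rw [Datum.base, Iso.comp_inv_eq] at h4
        simp only [μ, Functor.map_comp, Functor.map_inv]
        rw [← Category.assoc, IsIso.comp_inv_eq, h2, h4]
        simp [α, (datum H).w k]
      have e : (homMap (datum H) h𝒮).map α = μ :=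
        mu_unique (datum H) h𝒮 _ _ (homMap_lift (datum H) h𝒮 α) hμ (homMap_agree (datum H) h𝒮 α)
          (by simpa [μ] using (datum H).agree_map (q (datum H) h𝒮 (idxOf a)) k)
      have e2 : E.θ (m a) = μ ≫ E.θ (m b) := by
        rw [← e, ← E.nat, show α ≫ m b = m a from toTop_comp α]
      simp [θ₂, e2, μ]

include hu in
theorem isStack_pull (h : IsStack K 𝒮) (hfib : (pull u 𝒮).p.IsFibered) : IsStack J (pull u 𝒮) :=
  isStack_of_glue (pull_fibGrpd h.1 hfib) fun _ _ hR => ⟨glueHom_pull hu h hR, exists_cocone hu h hR⟩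

end Groth.Agent.H14Stk.PullStack
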