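import Groth.Prelude.Def_W4stkalgstUpp
import Groth.Agent.H14Fib.Basic
import Mathlib.CategoryTheory.Localization.CalculusOfFractions
import Mathlib.CategoryTheory.Limits.Preserves.Shapes.Pullbacks
import Mathlib.CategoryTheory.Limits.Preserves.Shapes.Equalizers
import Mathlib.CategoryTheory.Limits.Shapes.Pullback.IsPullback.Basic

/-!
# The localised category `u_p 𝒮`
-/

set_option autoImplicit false
set_option backward.isDefEq.respectTransparency false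
set_option backward.isDefEq.respectTransparency.types false

universe v₃ u₃ v₂ u₂ v u

open CategoryTheory CategoryTheory.Functor CategoryTheory.Limits

noncomputable section

namespace Groth.Agent.H14Stk.Upp

open H14Fib

variable {C : Type u} [Category.{v} C] {D : Type u₂} [Category.{v₂} D] (u : C ⥤ D)
  (𝒮 : BasedCategory.{v₃, u₃} C)

lemma sc_map {R S : C} (f : R ⟶ S) {a b : 𝒮.obj} (φ : a ⟶ b) (h : 𝒮.p.IsStronglyCartesian f φ) :
    𝒮.p.IsStronglyCartesian (𝒮.p.map φ) φ := by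
  have := h.toIsHomLift
  subst_hom_lift 𝒮.p f φ
  exact h

lemma comp_mem {a b c : Stk.UppObj u 𝒮} {f : a ⟶ b} {g : b ⟶ c}
    (hf : Stk.uppR u 𝒮 f) (hg : Stk.uppR u 𝒮 g) : Stk.uppR u 𝒮 (f ≫ g) := by
  obtain ⟨h1, h2⟩ := hf
  obtain ⟨h3, h4⟩ := hg
  refine ⟨?_, inferInstanceAs (IsIso (f.bot ≫ g.bot))⟩
  change 𝒮.p.IsStronglyCartesian (𝒮.p.map (f.top ≫ g.top)) (f.top ≫ g.top)
  rw [Functor.map_comp]
  infer_instance

instance : (Stk.uppR u 𝒮).IsMultiplicative where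
  id_mem a := by
    refine ⟨?_, inferInstanceAs (IsIso (𝟙 a.V))⟩
    change 𝒮.p.IsStronglyCartesian (𝒮.p.map (𝟙 a.x)) (𝟙 a.x)
    have : IsIso (𝒮.p.map (𝟙 a.x)) := by rw [𝒮.p.map_id]; infer_instance
    have : 𝒮.p.IsHomLift (𝒮.p.map (𝟙 a.x)) (𝟙 a.x) := IsHomLift.map 𝒮.p _
    exact IsStronglyCartesian.of_isIso 𝒮.p _ _
  comp_mem _ _ hf hg := comp_mem u 𝒮 hf hg

/-- The right Ore conditions. -/
theorem hasRightCalculus [𝒮.p.IsFibered] [HasLimitsOfShape WalkingCospan C]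
    [HasLimitsOfShape WalkingParallelPair C] [PreservesLimitsOfShape WalkingCospan u]
    [PreservesLimitsOfShape WalkingParallelPair u] : (Stk.uppR u 𝒮).HasRightCalculusOfFractions where
  exists_rightFraction {X Y} φ := by
    obtain ⟨hs, hsb⟩ := φ.hs
    let a := 𝒮.p.map φ.f.top
    let b := 𝒮.p.map φ.s.top
    have sq : IsPullback (u.map (pullback.fst a b)) (u.map (pullback.snd a b)) (u.map a) (u.map b) :=
      (IsPullback.of_hasPullback a b).map u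
    obtain ⟨x', π, hπ⟩ := isFibered_exists_sc 𝒮.p (a := X.x) rfl (pullback.fst a b)
    have hx' : 𝒮.p.obj x' = pullback a b := IsHomLift.domain_eq 𝒮.p (pullback.fst a b) π
    let ψ : X.V ⟶ u.obj (pullback a b) := sq.lift X.φ (φ.f.bot ≫ inv φ.s.bot ≫ Y.φ) (by
      rw [φ.f.w, Category.assoc, Category.assoc, φ.s.w, IsIso.inv_hom_id_assoc])
    let X' : Stk.UppObj u 𝒮 := ⟨x', X.V, ψ ≫ u.map (eqToHom hx'.symm)⟩
    have e1 : 𝒮.p.map π = eqToHom hx' ≫ pullback.fst a b := by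
      rw [IsHomLift.fac' 𝒮.p (pullback.fst a b) π]; simp
    let t : X' ⟶ X := ⟨π, 𝟙 _, by
      change (ψ ≫ u.map _) ≫ _ = _
      rw [e1, Category.assoc, ← Functor.map_comp, eqToHom_trans_assoc, eqToHom_refl, Category.id_comp,
        sq.lift_fst, Category.id_comp]⟩
    have e : 𝒮.p.map (π ≫ φ.f.top) = (eqToHom hx' ≫ pullback.snd a b) ≫ b := by
      rw [Functor.map_comp, e1, Category.assoc, Category.assoc]
      congr 1
      exact pullback.condition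
    have : 𝒮.p.IsHomLift (𝒮.p.map (π ≫ φ.f.top)) (π ≫ φ.f.top) := IsHomLift.map 𝒮.p _
    obtain ⟨g, ⟨hg, hge⟩, -⟩ := IsStronglyCartesian.universal_property 𝒮.p b φ.s.top
      (eqToHom hx' ≫ pullback.snd a b) (𝒮.p.map (π ≫ φ.f.top)) e (π ≫ φ.f.top)
    have hgp : 𝒮.p.map g = eqToHom hx' ≫ pullback.snd a b :=
      (IsHomLift.eq_of_isHomLift 𝒮.p (eqToHom hx' ≫ pullback.snd a b) g).symm
    let g' : X' ⟶ Y := ⟨g, φ.f.bot ≫ inv φ.s.bot, by
      change (ψ ≫ u.map _) ≫ _ = _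
      rw [hgp, Category.assoc, ← Functor.map_comp, eqToHom_trans_assoc, eqToHom_refl, Category.id_comp,
        sq.lift_snd, Category.assoc]⟩
    refine ⟨MorphismProperty.RightFraction.mk t ⟨sc_map 𝒮 (pullback.fst a b) π hπ, inferInstanceAs (IsIso (𝟙 X.V))⟩ g', ?_⟩
    refine Stk.UppObj.hom_ext hge.symm ?_
    change 𝟙 _ ≫ φ.f.bot = (φ.f.bot ≫ inv φ.s.bot) ≫ φ.s.bot
    simp
  ext {X Y Y'} f₁ f₂ s hs h := by
    obtain ⟨hst, hsb⟩ := hs
    have hbot : f₁.bot = f₂.bot := by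
      have := congrArg (fun k => k.bot) h
      exact (cancel_mono s.bot).1 this
    let a := 𝒮.p.map f₁.top
    let b := 𝒮.p.map f₂.top
    let l := isLimitForkMapOfIsLimit u (equalizer.condition a b) (equalizerIsEqualizer a b)
    obtain ⟨ψ, hψ⟩ := Fork.IsLimit.lift' l X.φ (by rw [f₁.w, f₂.w, hbot])
    obtain ⟨x', π, hπ⟩ := isFibered_exists_sc 𝒮.p (a := X.x) rfl (equalizer.ι a b)
    have hx' : 𝒮.p.obj x' = equalizer a b := IsHomLift.domain_eq 𝒮.p (equalizer.ι a b) π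
    have e1 : 𝒮.p.map π = eqToHom hx' ≫ equalizer.ι a b := by
      rw [IsHomLift.fac' 𝒮.p (equalizer.ι a b) π]; simp
    let X' : Stk.UppObj u 𝒮 := ⟨x', X.V, ψ ≫ u.map (eqToHom hx'.symm)⟩
    let t : X' ⟶ X := ⟨π, 𝟙 _, by
      change (ψ ≫ u.map _) ≫ _ = _
      rw [e1, Category.assoc, ← Functor.map_comp, eqToHom_trans_assoc, eqToHom_refl, Category.id_comp,
        Category.id_comp]
      exact hψ⟩
    refine ⟨X', t, ⟨sc_map 𝒮 (equalizer.ι a b) π hπ, inferInstanceAs (IsIso (𝟙 X.V))⟩,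
      Stk.UppObj.hom_ext ?_ (congrArg (𝟙 X.V ≫ ·) hbot)⟩
    change π ≫ f₁.top = π ≫ f₂.top
    have hp : 𝒮.p.map (π ≫ f₁.top) = 𝒮.p.map (π ≫ f₂.top) := by
      rw [Functor.map_comp, Functor.map_comp, e1, Category.assoc, Category.assoc]
      congr 1
      exact equalizer.condition a b
    have : 𝒮.p.IsHomLift (𝒮.p.map (π ≫ f₁.top)) (π ≫ f₁.top) := IsHomLift.map 𝒮.p _
    have : 𝒮.p.IsHomLift (𝒮.p.map (π ≫ f₁.top)) (π ≫ f₂.top) := hp ▸ IsHomLift.map 𝒮.p _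
    refine IsStronglyCartesian.ext 𝒮.p (𝒮.p.map s.top) s.top (𝒮.p.map (π ≫ f₁.top)) ?_
    rw [Category.assoc, Category.assoc]
    exact congrArg (π ≫ ·) (congrArg (fun k => k.top) h)

section Loc

/-- The structure functor of the localisation. -/
abbrev pr : (Stk.uppR u 𝒮).Localization ⥤ D :=
  Localization.Construction.lift (Stk.UppObj.forget u 𝒮) (Stk.uppR_isInvertedBy u 𝒮)

variable {u 𝒮}

lemma pr_Q {a b : Stk.UppObj u 𝒮} (f : a ⟶ b) : (pr u 𝒮).map ((Stk.uppR u 𝒮).Q.map f) = f.bot := by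
  have := Functor.congr_hom (Localization.Construction.fac (Stk.UppObj.forget u 𝒮) (Stk.uppR_isInvertedBy u 𝒮)) f
  simp at this
  exact this

variable [(Stk.uppR u 𝒮).HasRightCalculusOfFractions]

/-- Every morphism of the localisation is a fraction. -/
lemma exists_frac {a b : Stk.UppObj u 𝒮} (χ : (Stk.uppR u 𝒮).Q.obj a ⟶ (Stk.uppR u 𝒮).Q.obj b) :
    ∃ (r : Stk.UppObj u 𝒮) (s : r ⟶ a) (_ : Stk.uppR u 𝒮 s) (f : r ⟶ b),
      (Stk.uppR u 𝒮).Q.map s ≫ χ = (Stk.uppR u 𝒮).Q.map f ∧ s.bot ≫ (pr u 𝒮).map χ = f.bot := by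
  obtain ⟨z, rfl⟩ := Localization.exists_rightFraction (Stk.uppR u 𝒮).Q (Stk.uppR u 𝒮) χ
  refine ⟨z.X', z.s, z.hs, z.f, z.map_s_comp_map _ _, ?_⟩
  have := congrArg (pr u 𝒮).map (z.map_s_comp_map (Stk.uppR u 𝒮).Q (Localization.inverts _ _))
  rw [Functor.map_comp, pr_Q, pr_Q] at this
  exact this

variable (u 𝒮)

theorem isFibered_up : (Stk.up u 𝒮).p.IsFibered := by
  refine IsFibered.of_exists_isStronglyCartesian (p := pr u 𝒮) fun x R g => ?_
  obtain ⟨b, rfl⟩ := (Localization.Construction.objEquiv (Stk.uppR u 𝒮)).surjective x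
  let W := Stk.uppR u 𝒮
  change R ⟶ b.V at g
  let b' : Stk.UppObj u 𝒮 := ⟨b.x, R, g ≫ b.φ⟩
  let k : b' ⟶ b := ⟨𝟙 b.x, g, by simp [b']⟩
  have hl : (pr u 𝒮).IsHomLift g (W.Q.map k) := by
    refine IsHomLift.of_fac' (pr u 𝒮) _ _ rfl rfl ?_
    rw [pr_Q]; simp [k]
  refine ⟨W.Q.obj b', W.Q.map k, { toIsHomLift := hl, universal_property' := fun {a'} h ψ hψ => ?_ }⟩
  obtain ⟨a, rfl⟩ := (Localization.Construction.objEquiv W).surjective a'
  change a.V ⟶ R at h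
  change W.Q.obj a ⟶ W.Q.obj b at ψ
  have hp : (pr u 𝒮).map ψ = h ≫ g :=
    (@IsHomLift.eq_of_isHomLift _ _ _ _ (pr u 𝒮) (W.Q.obj a) (W.Q.obj b) _ ψ hψ).symm
  obtain ⟨r, s, hs, f, hf, hfb⟩ := exists_frac ψ
  rw [hp] at hfb
  have := Localization.inverts W.Q W s hs
  let f' : r ⟶ b' := ⟨f.top, s.bot ≫ h, by
    change r.φ ≫ _ = (s.bot ≫ h) ≫ g ≫ b.φ
    rw [f.w, ← hfb]; simp⟩
  have hfk : f' ≫ k = f := Stk.UppObj.hom_ext (Category.comp_id _) ((Category.assoc _ _ _).trans hfb)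
  let χ : W.Q.obj a ⟶ W.Q.obj b' := inv (W.Q.map s) ≫ W.Q.map f'
  have hχ : (pr u 𝒮).map χ = h := by
    have e : (pr u 𝒮).map (W.Q.map s) ≫ (pr u 𝒮).map χ = s.bot ≫ h := by
      rw [← Functor.map_comp, IsIso.hom_inv_id_assoc, pr_Q]
    rw [pr_Q] at e
    have := hs.2
    exact (cancel_epi s.bot).1 e
  refine ⟨χ, ⟨IsHomLift.of_fac' (pr u 𝒮) h χ rfl rfl (by rw [hχ]; simp), ?_⟩, ?_⟩
  · change χ ≫ W.Q.map k = ψ
    rw [Category.assoc, ← Functor.map_comp, hfk, IsIso.inv_comp_eq, hf]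
  · rintro χ' ⟨hχ'l, hχ'⟩
    change W.Q.obj a ⟶ W.Q.obj b' at χ'
    have hχ'p : (pr u 𝒮).map χ' = h :=
      (@IsHomLift.eq_of_isHomLift _ _ _ _ (pr u 𝒮) (W.Q.obj a) (W.Q.obj b') h χ' hχ'l).symm
    -- a common denominator
    obtain ⟨r', s', hs', f₂, hf₂, hf₂b⟩ := exists_frac χ'
    obtain ⟨z, hz⟩ := MorphismProperty.HasRightCalculusOfFractions.exists_rightFraction
      (MorphismProperty.LeftFraction.mk (W := W) (Y' := a) s' s hs)
    change z.s ≫ s' = z.f ≫ s at hz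
    have hts : W (z.s ≫ s') := comp_mem u 𝒮 z.hs hs'
    have := Localization.inverts W.Q W _ hts
    rw [← cancel_epi (W.Q.map (z.s ≫ s'))]
    have e₁ : W.Q.map (z.s ≫ s') ≫ χ = W.Q.map (z.f ≫ f') := by
      rw [hz, Functor.map_comp, Category.assoc, IsIso.hom_inv_id_assoc, Functor.map_comp]
    have e₂ : W.Q.map (z.s ≫ s') ≫ χ' = W.Q.map (z.s ≫ f₂) := by
      rw [Functor.map_comp, Category.assoc, hf₂, Functor.map_comp]
    rw [e₁, e₂]
    have e₃ : W.Q.map ((z.s ≫ f₂) ≫ k) = W.Q.map ((z.f ≫ f') ≫ k) := by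
      rw [Functor.map_comp, ← e₂, Functor.map_comp _ (z.f ≫ f'), ← e₁, Category.assoc, Category.assoc]
      congr 1
      rw [show χ ≫ W.Q.map k = ψ by rw [Category.assoc, ← Functor.map_comp, hfk, IsIso.inv_comp_eq, hf]]
      exact hχ'
    obtain ⟨r'', t, ht, hte⟩ := (MorphismProperty.map_eq_iff_precomp W.Q W _ _).1 e₃
    refine (MorphismProperty.map_eq_iff_precomp W.Q W _ _).2 ⟨r'', t, ht, Stk.UppObj.hom_ext ?_ ?_⟩
    · have := congrArg (fun q => q.top) hte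
      simpa [k, b'] using this
    · have hb : (pr u 𝒮).map (W.Q.map (z.s ≫ f₂)) = (pr u 𝒮).map (W.Q.map (z.f ≫ f')) := by
        rw [← e₁, ← e₂]
        exact ((pr u 𝒮).map_comp _ χ').trans ((congrArg (_ ≫ ·) (hχ'p.trans hχ.symm)).trans
          ((pr u 𝒮).map_comp _ χ).symm)
      rw [pr_Q, pr_Q] at hb
      exact congrArg (t.bot ≫ ·) hb

theorem isFibGrpd_up (h𝒮 : FibCat.IsFibGrpd 𝒮.p) : FibCat.IsFibGrpd (Stk.up u 𝒮).p := by
  have := isFibered_up u 𝒮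
  refine fibGrpd_of_fiber fun V => ⟨fun {a b} φ => ?_⟩
  have : IsIso φ.1 := by
    obtain ⟨a, ha⟩ := a; obtain ⟨b, hb⟩ := b; obtain ⟨φ, hφ⟩ := φ
    obtain ⟨a, rfl⟩ := (Localization.Construction.objEquiv (Stk.uppR u 𝒮)).surjective a
    obtain ⟨b, rfl⟩ := (Localization.Construction.objEquiv (Stk.uppR u 𝒮)).surjective b
    change (Stk.uppR u 𝒮).Q.obj a ⟶ (Stk.uppR u 𝒮).Q.obj b at φ
    have hp : IsIso ((pr u 𝒮).map φ) := by
      have h1 := @IsHomLift.fac' _ _ _ _ (pr u 𝒮) _ _ _ _ (𝟙 V) φ hφ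
      rw [h1]; infer_instance
    obtain ⟨r, s, hs, f, hf, hfb⟩ := exists_frac φ
    have := hs.2
    have hfR : Stk.uppR u 𝒮 f := ⟨h𝒮.isStronglyCartesian f.top, hfb ▸ inferInstance⟩
    have := Localization.inverts (Stk.uppR u 𝒮).Q _ s hs
    have := Localization.inverts (Stk.uppR u 𝒮).Q _ f hfR
    have e : φ = inv ((Stk.uppR u 𝒮).Q.map s) ≫ (Stk.uppR u 𝒮).Q.map f := by
      rw [← hf]; simp
    change IsIso φ
    rw [e]; infer_instance
  exact fiber_isIso_of_isIso φ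

end Loc

end Groth.Agent.H14Stk.Upp
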